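import Cfsg.Agent.Co1Uniq.XiCode

/-!
A group with an image of the monomial group and an element behaving as the sextet element.
-/

set_option autoImplicit false
set_option linter.style.haveILetI false

namespace CfsgLib.Co1Uniq

open Cfsg CfsgLib CfsgLib.Leech

variable {G : Type*} [Group G]

/-- An image of the monomial group modulo sign with an involution normalizing as the sextet element does. -/
structure Base (G : Type*) [Group G] where
  θ : MN →* G
  θ_neg : θ negM = 1
  ξ : G
  sq : ξ * ξ = 1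
  pass : ∀ b b' : MN, (b' : Co0) = xiAut * (b : Co0) * xiAut → ξ * θ b * ξ = θ b'

namespace Base

variable (R : Base G)

/-- The image of a code. -/
noncomputable def th (c : ℕ) : G := R.θ (el c)

/-- The conjugate of the involution by a code. -/
noncomputable def xiE (c : ℕ) : G := R.th c * R.ξ * (R.th c)⁻¹

theorem th_mul {a b : ℕ} (ha : Val a) (hb : Val b) : R.th (mulC a b) = R.th a * R.th b := by
  unfold th
  rw [el_mul ha hb, map_mul]

theorem th_inv {a : ℕ} (ha : Val a) : R.th (invC a) = (R.th a)⁻¹ := by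
  unfold th
  rw [el_inv ha, map_inv]

theorem th_one : R.th oneC = 1 := by
  unfold th
  rw [el_one, map_one]

theorem th_neg : R.th (negC oneC) = 1 := by
  unfold th
  rw [← cd_one, ← cd_neg_mul, el_cd, mul_one, R.θ_neg]

theorem xiE_sq (c : ℕ) : R.xiE c * R.xiE c = 1 := by
  unfold xiE
  calc R.th c * R.ξ * (R.th c)⁻¹ * (R.th c * R.ξ * (R.th c)⁻¹) = R.th c * (R.ξ * R.ξ) * (R.th c)⁻¹ := by group
    _ = 1 := by rw [R.sq]; group

/-- Monomial elements of one class translate the involution alike up to monomial factors. -/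
theorem exists_of_Cl {a b : MN} (h : Cl a = Cl b) : ∃ m : MN, R.θ a * R.ξ = R.θ b * R.ξ * R.θ m := by
  obtain ⟨m, hm⟩ := exists_of_Cl_eq h
  refine ⟨m, ?_⟩
  have e : (m : Co0) = xiAut * ((b⁻¹ * a : MN) : Co0) * xiAut := by
    rw [Subgroup.coe_mul, Subgroup.coe_inv]
    calc (m : Co0) = xiAut * xiAut * ((b : Co0)⁻¹ * (b : Co0)) * (m : Co0) := by rw [xiAut_sq]; group
      _ = xiAut * (b : Co0)⁻¹ * ((b : Co0) * xiAut * (m : Co0)) * 1 := by
        calc xiAut * xiAut * ((b : Co0)⁻¹ * (b : Co0)) * (m : Co0) = xiAut * xiAut * (m : Co0) := by group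
          _ = (m : Co0) := by rw [xiAut_sq, one_mul]
          _ = _ := by rw [mul_one, show xiAut * (b : Co0)⁻¹ * ((b : Co0) * xiAut * (m : Co0)) =
              xiAut * ((b : Co0)⁻¹ * (b : Co0)) * xiAut * (m : Co0) by group, inv_mul_cancel, mul_one, xiAut_sq, one_mul]
      _ = _ := by rw [← hm, mul_one]; group
  have hp := R.pass _ _ e
  rw [map_mul, map_inv] at hp
  rw [← hp, show R.θ b * R.ξ * (R.ξ * ((R.θ b)⁻¹ * R.θ a) * R.ξ) =
    R.θ b * (R.ξ * R.ξ) * (R.θ b)⁻¹ * R.θ a * R.ξ by group, R.sq]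
  group

end Base

end CfsgLib.Co1Uniq
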