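import Cfsg.Agent.Co1Uniq.Derive

/-!
The union of finitely many double cosets of the image of the monomial group: closure under the sextet element
from a cover of the classes, and the bound on its cardinality from orbit chains in the stabilisers.
-/

set_option autoImplicit false
set_option maxRecDepth 100000
set_option linter.style.haveILetI false
set_option linter.unusedSectionVars false

namespace CfsgLib.Co1Uniq

open Cfsg CfsgLib CfsgLib.Leech

variable {G : Type*} [Group G] (R : Base G) (g : ℕ → G)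

/-- The monomial elements moved across `g k`. -/
def stabN (k : ℕ) : Subgroup MN where
  carrier := {h | ∃ s, R.θ s * g k = g k * R.θ h}
  one_mem' := ⟨1, by rw [map_one, one_mul, mul_one]⟩
  mul_mem' := by
    rintro a b ⟨s, hs⟩ ⟨t, ht⟩
    exact ⟨s * t, by rw [map_mul, map_mul, mul_assoc, ht, ← mul_assoc, hs, mul_assoc]⟩
  inv_mem' := by
    rintro a ⟨s, hs⟩
    exact ⟨s⁻¹, by rw [map_inv, map_inv, inv_mul_eq_iff_eq_mul, ← mul_assoc, hs, mul_inv_cancel_right]⟩

/-- The union of the double cosets of the first `K` nodes. -/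
def cosets (K : ℕ) : Set G := {x | ∃ k < K, ∃ a b : MN, x = R.θ a * g k * R.θ b}

/-- The translate by `n` of the involution stays in the union from node `k`. -/
def Stays (K k : ℕ) (n : MN) : Prop := g k * R.θ n * R.ξ ∈ cosets R g K

variable {R g}

theorem cosets_mul_right {K : ℕ} {x : G} (hx : x ∈ cosets R g K) (m : MN) : x * R.θ m ∈ cosets R g K := by
  obtain ⟨k, hk, a, b, rfl⟩ := hx
  exact ⟨k, hk, a, b * m, by rw [map_mul]; group⟩

theorem cosets_mul_left {K : ℕ} {x : G} (hx : x ∈ cosets R g K) (m : MN) : R.θ m * x ∈ cosets R g K := by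
  obtain ⟨k, hk, a, b, rfl⟩ := hx
  exact ⟨k, hk, m * a, b, by rw [map_mul]; group⟩

theorem stays_of_fact {K : ℕ} {f : Fact} (hf : f.Holds R g) (hm : f.m < K) : Stays R g K f.k (el f.c) := by
  obtain ⟨-, -, -, e⟩ := hf
  refine ⟨f.m, hm, el f.n, el f.h * el f.c, ?_⟩
  show g f.k * R.th f.c * R.ξ = R.th f.n * g f.m * R.θ (el f.h * el f.c)
  rw [map_mul, show R.θ (el f.h) = R.th f.h from rfl, show R.θ (el f.c) = R.th f.c from rfl,
    ← mul_assoc, ← e]
  unfold Base.xiE
  group

theorem stays_of_Cl {K k : ℕ} {a b : MN} (h : Cl a = Cl b) (hb : Stays R g K k b) : Stays R g K k a := by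
  obtain ⟨m, hm⟩ := R.exists_of_Cl h
  unfold Stays at hb ⊢
  rw [mul_assoc, hm, ← mul_assoc, ← mul_assoc]
  exact cosets_mul_right hb m

theorem stays_of_mem {K k : ℕ} {h n : MN} (hh : h ∈ stabN R g k) (hn : Stays R g K k n) :
    Stays R g K k (h * n) := by
  obtain ⟨s, hs⟩ := hh
  unfold Stays at hn ⊢
  rw [map_mul, ← mul_assoc (g k), ← hs, mul_assoc (R.θ s) (g k), mul_assoc (R.θ s)]
  exact cosets_mul_left hn s

theorem mem_stabN_of_pair {q : SPair} (hq : q.Holds R g) : el q.h ∈ stabN R g q.k :=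
  ⟨el q.s, hq.2.2⟩

theorem closure_subset {K : ℕ} (h0 : g 0 = 1) (hK : 0 < K) (hall : ∀ k < K, ∀ n, Stays R g K k n) {x : G}
    (hx : x ∈ Subgroup.closure (Set.range R.θ ∪ {R.ξ})) : x ∈ cosets R g K := by
  have hξ : ∀ y ∈ cosets R g K, y * R.ξ ∈ cosets R g K := by
    rintro _ ⟨k, hk, a, b, rfl⟩
    rw [show R.θ a * g k * R.θ b * R.ξ = R.θ a * (g k * R.θ b * R.ξ) by group]
    exact cosets_mul_left (hall k hk b) a
  induction hx using Subgroup.closure_induction_right with
  | one => exact ⟨0, hK, 1, 1, by rw [map_one, h0, mul_one, mul_one]⟩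
  | mul_right y hy z hz ih =>
    rcases hz with ⟨m, rfl⟩ | hz
    · exact cosets_mul_right ih m
    · rw [Set.mem_singleton_iff.1 hz]
      exact hξ y ih
  | mul_inv_cancel y hy z hz ih =>
    rcases hz with ⟨m, rfl⟩ | hz
    · rw [← map_inv]
      exact cosets_mul_right ih m⁻¹
    · rw [Set.mem_singleton_iff.1 hz, inv_eq_of_mul_eq_one_right R.sq]
      exact hξ y ih

theorem card_range_le : 2 * Nat.card R.θ.range ≤ Nat.card MN := by
  rw [← Subgroup.card_mul_index R.θ.ker, Subgroup.index_ker]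
  refine Nat.mul_le_mul_right _ ?_
  have hne : negM ≠ 1 := fun h => negAut_ne_one (congrArg Subtype.val h)
  haveI : Nontrivial R.θ.ker := ⟨⟨⟨negM, R.θ_neg⟩, 1, fun h => hne (congrArg Subtype.val h)⟩⟩
  exact Finite.one_lt_card

theorem card_cosets_le [Finite G] (K : ℕ) :
    Nat.card (cosets R g K) ≤ Nat.card R.θ.range * ∑ k ∈ Finset.range K, (stabN R g k).index := by
  classical
  let F : R.θ.range × (Σ k : Fin K, MN ⧸ stabN R g k) → cosets R g K := fun p =>
    ⟨(p.1 : G) * g p.2.1 * (R.θ p.2.2.out)⁻¹, by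
      obtain ⟨a, ha⟩ := p.1.2
      exact ⟨p.2.1, p.2.1.2, a, p.2.2.out⁻¹, by rw [map_inv, ← ha]⟩⟩
  have hF : Function.Surjective F := by
    rintro ⟨_, k, hk, a, b, rfl⟩
    obtain ⟨h, hout⟩ := QuotientGroup.mk_out_eq_mul (stabN R g k) b⁻¹
    obtain ⟨s, hs⟩ := h.2
    refine ⟨(⟨R.θ (a * s), ⟨_, rfl⟩⟩, ⟨⟨k, hk⟩, (b⁻¹ : MN)⟩), Subtype.ext ?_⟩
    show R.θ (a * s) * g k * (R.θ ((b⁻¹ : MN) : MN ⧸ stabN R g k).out)⁻¹ = _
    rw [hout, map_mul, map_mul, map_inv, mul_assoc (R.θ a), hs]
    group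
  refine (Nat.card_le_card_of_surjective F hF).trans ?_
  rw [Nat.card_prod, Nat.card_sigma, Fin.sum_univ_eq_sum_range (fun k => Nat.card (MN ⧸ stabN R g k))]
  exact le_of_eq (congrArg _ (Finset.sum_congr rfl fun k _ => (Subgroup.index_eq_card _).symm))

/-- A level of an orbit chain: its point and the codes of the transversal elements. -/
structure Level where
  x : ℕ
  els : List ℕ

/-- A chain is a chain: each transversal fixes the earlier points and moves its own point to distinct images. -/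
def chainOKU : List ℕ → List Level → Bool
  | _, [] => true
  | pre, l :: ls =>
    Nat.blt l.x 48 && (l.els.all fun c => pre.all fun y => img c y == y) &&
      decide (l.els.map fun c => img c l.x).Nodup && chainOKU (l.x :: pre) ls

theorem chain_le : ∀ (ls : List Level) (pre : List ℕ) (H : Subgroup MN),
    (∀ y ∈ pre, y < 48) → chainOKU pre ls = true → (∀ l ∈ ls, ∀ c ∈ l.els, Val c ∧ el c ∈ H) →
    (ls.map fun l => l.els.length).prod ≤
      Nat.card {h : MN // h ∈ H ∧ ∀ y ∈ pre, (h : Co0) • sp y = sp y} := by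
  intro ls
  induction ls with
  | nil =>
    intro pre H _ _ _
    haveI : Nonempty {h : MN // h ∈ H ∧ ∀ y ∈ pre, (h : Co0) • sp y = sp y} :=
      ⟨⟨1, one_mem _, fun y _ => by rw [OneMemClass.coe_one, one_smul]⟩⟩
    exact Nat.card_pos
  | cons l ls ih =>
    intro pre H hpre hok hmem
    simp only [chainOKU, Bool.and_eq_true, Nat.blt_eq, List.all_eq_true, beq_iff_eq, decide_eq_true_eq] at hok
    obtain ⟨⟨⟨hx, hfix⟩, hnd⟩, hrest⟩ := hok
    have hT := hmem l List.mem_cons_self
    have h1 := ih (l.x :: pre) H (fun y hy => by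
      rcases List.mem_cons.1 hy with rfl | hy
      exacts [hx, hpre y hy]) hrest fun l' hl' => hmem l' (List.mem_cons_of_mem _ hl')
    rw [List.map_cons, List.prod_cons]
    refine le_trans (Nat.mul_le_mul_left _ h1) ?_
    rw [← Nat.card_fin l.els.length, ← Nat.card_prod]
    refine Nat.card_le_card_of_injective (fun p =>
      (⟨el (l.els.get p.1) * p.2.1, mul_mem (hT _ (List.get_mem _ _)).2 p.2.2.1, fun y hy => ?_⟩ :
        {h : MN // h ∈ H ∧ ∀ y ∈ pre, (h : Co0) • sp y = sp y})) ?_
    · rw [Subgroup.coe_mul, mul_smul, p.2.2.2 y (List.mem_cons_of_mem _ hy), smul_sp _ (hpre y hy),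
        cd_el (hT _ (List.get_mem _ _)).1, hfix _ (List.get_mem _ _) y hy]
    · rintro ⟨i, u⟩ ⟨j, v⟩ e
      have e' : el (l.els.get i) * u.1 = el (l.els.get j) * v.1 := congrArg Subtype.val e
      have him : ∀ (i : Fin l.els.length) (u : {h : MN // h ∈ H ∧ ∀ y ∈ l.x :: pre, (h : Co0) • sp y = sp y}),
          ((el (l.els.get i) * u.1 : MN) : Co0) • sp l.x = sp (img (l.els.get i) l.x) := fun i u => by
        rw [Subgroup.coe_mul, mul_smul, u.2.2 l.x List.mem_cons_self, smul_sp _ hx,
          cd_el (hT _ (List.get_mem _ _)).1]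
      have hlt : ∀ i : Fin l.els.length, img (l.els.get i) l.x < 48 := fun i => by
        refine img_lt ?_ hx
        rw [← cd_el (hT _ (List.get_mem l.els i)).1]
        exact slot_cd_lt _
      have h2 : img (l.els.get i) l.x = img (l.els.get j) l.x :=
        sp_inj (hlt i) (hlt j) ((him i u).symm.trans (e' ▸ him j v))
      have hij : i = j := by
        refine Fin.ext ((hnd.getElem_inj_iff (hi := by simp) (hj := by simp)).1 ?_)
        simpa [List.get_eq_getElem] using h2
      subst hij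
      exact Prod.ext rfl (Subtype.ext (mul_left_cancel e'))

theorem index_le_of_chain {ls : List Level} {k N I : ℕ} (hok : chainOKU [] ls = true)
    (hmem : ∀ l ∈ ls, ∀ c ∈ l.els, Val c ∧ el c ∈ stabN R g k) (hN : Nat.card MN = N)
    (hI : N ≤ (ls.map fun l => l.els.length).prod * I) : (stabN R g k).index ≤ I := by
  have h1 := chain_le ls [] (stabN R g k) (by simp) hok hmem
  rw [Nat.card_congr (Equiv.subtypeEquivRight fun h => (by simp : h ∈ stabN R g k ∧ _ ↔ h ∈ stabN R g k))] at h1
  refine Nat.le_of_mul_le_mul_left ?_ (lt_of_lt_of_le Nat.card_pos le_rfl : 0 < Nat.card (stabN R g k))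
  rw [Subgroup.card_mul_index, hN]
  exact hI.trans (Nat.mul_le_mul_right _ h1)

end CfsgLib.Co1Uniq
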