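import Cfsg.Agent.Golay.MathieuFusion
import Cfsg.Agent.Golay.Basic

/-!
The interface for the uniqueness of the first Conway group: a monomial subgroup together with the sextet element
and its relations.
-/

set_option autoImplicit false

namespace CfsgLib.Co1Uniq

open CfsgLib.Golay (vec wt)

/-- A mask of a word of the code. -/
def IsWord (w : ℕ) : Prop := w < 16777216 ∧ vec w ∈ Cfsg.golayCode

open scoped Classical in
/-- The element of the Mathieu group with a given list of images. -/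
noncomputable def permM (L : List ℕ) : ↥Cfsg.M24 :=
  if h : CfsgLib.Golay.SylowCert.permL L ∈ Cfsg.M24 then ⟨CfsgLib.Golay.SylowCert.permL L, h⟩ else 1

/-- A monomial element: the list of images, then the mask of the sign change. -/
abbrev MonoW : Type := List ℕ × ℕ

/-- The masks of the two octads through which the sextet element is defined. -/
def zw0 : ℕ := 8536111

/-- The second octad, disjoint from the first. -/
def zw1 : ℕ := 2890176

/-- The third octad of their trio. -/
def zw2 : ℕ := 5350928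

/-- The tetrads of the sextet. -/
def tetrads : List ℕ := [8388615, 147496, 268544, 1082880, 2621632, 4268048]

/-- Generators of the monomial elements that the sextet element carries to monomial elements, with their images. -/
def passGens : List (MonoW × MonoW) :=
  [(([3, 14, 17, 0, 18, 23, 15, 10, 16, 19, 7, 22, 13, 12, 1, 6, 8, 2, 4, 9, 21, 20, 11, 5], 0),
    ([3, 14, 17, 0, 18, 23, 15, 10, 16, 19, 7, 22, 13, 12, 1, 6, 8, 2, 4, 9, 21, 20, 11, 5], 8241104)),
   (([0, 1, 2, 3, 4, 5, 6, 7, 8, 9, 10, 11, 12, 13, 14, 15, 16, 17, 18, 19, 20, 21, 22, 23], 4738934),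
    ([23, 2, 1, 17, 22, 14, 19, 21, 11, 10, 9, 8, 18, 16, 5, 20, 13, 3, 12, 6, 15, 7, 4, 0], 4738934)),
   (([0, 23, 1, 20, 5, 10, 21, 6, 11, 16, 22, 8, 18, 14, 9, 4, 3, 15, 12, 19, 13, 7, 17, 2], 0),
    ([0, 23, 1, 20, 5, 10, 21, 6, 11, 16, 22, 8, 18, 14, 9, 4, 3, 15, 12, 19, 13, 7, 17, 2], 0)),
   (([14, 5, 3, 13, 20, 4, 12, 11, 19, 1, 0, 21, 6, 9, 22, 2, 15, 16, 7, 18, 23, 8, 10, 17], 0),
    ([14, 5, 3, 13, 20, 4, 12, 11, 19, 1, 0, 21, 6, 9, 22, 2, 15, 16, 7, 18, 23, 8, 10, 17], 8241104))]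

/-- The first factor of the triangle. -/
def triA : MonoW :=
  ([1, 3, 5, 7, 9, 11, 13, 15, 17, 19, 21, 0, 2, 4, 6, 8, 10, 12, 14, 16, 18, 20, 22, 23], 0)

/-- The second factor of the triangle. -/
def triB : MonoW :=
  ([23, 0, 8, 13, 4, 7, 10, 17, 20, 1, 11, 3, 14, 16, 22, 2, 19, 21, 15, 5, 12, 9, 6, 18], 0)

/-- The value of the triangle. -/
def triC : MonoW :=
  ([23, 1, 17, 22, 10, 20, 19, 11, 8, 3, 0, 6, 7, 9, 4, 5, 13, 15, 18, 12, 2, 21, 16, 14], 0)

variable {G : Type*} [Group G]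

/-- A monomial group with the sextet element and its relations. -/
structure Rels (G : Type*) [Group G] where
  /-- Sign changes, by masks. -/
  sg : ℕ → G
  /-- Permutations. -/
  pm : ↥Cfsg.M24 →* G
  /-- The sextet element. -/
  xi : G
  sg_xor : ∀ a b, IsWord a → IsWord b → sg (a ^^^ b) = sg a * sg b
  sg_one : sg 16777215 = 1
  pm_sg : ∀ (σ : ↥Cfsg.M24) (a b : ℕ), IsWord a → IsWord b →
    (∀ p, vec b p = vec a ((σ : Equiv.Perm Cfsg.GolayPt).symm p)) → pm σ * sg a * (pm σ)⁻¹ = sg b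
  xi_sq : xi * xi = 1
  xi_zw0 : xi * sg zw0 = sg zw0 * xi
  xi_zw1 : xi * sg zw1 = sg zw1 * xi
  xi_zw2 : xi * sg zw2 = sg zw2 * xi
  pass : ∀ q ∈ passGens, xi * (sg q.1.2 * pm (permM q.1.1)) * xi = sg q.2.2 * pm (permM q.2.1)
  tri : xi * (sg triA.2 * pm (permM triA.1)) * xi * (sg triB.2 * pm (permM triB.1)) * xi =
    sg triC.2 * pm (permM triC.1)

namespace Rels

variable (R : Rels G)

/-- The value of a monomial element. -/
noncomputable def ev (q : MonoW) : G := R.sg q.2 * R.pm (permM q.1)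

/-- The monomial subgroup. -/
def mono : Subgroup G := Subgroup.closure {x | ∃ a, IsWord a ∧ R.sg a = x} ⊔ R.pm.range

/-- The subgroup generated by the monomial subgroup and the sextet element. -/
def top : Subgroup G := R.mono ⊔ Subgroup.zpowers R.xi

theorem pass_ev (q : MonoW × MonoW) (h : q ∈ passGens) : R.xi * R.ev q.1 * R.xi = R.ev q.2 := R.pass q h

theorem tri_ev : R.xi * R.ev triA * R.xi * R.ev triB * R.xi = R.ev triC := R.tri

end Rels

/-- The normaliser of the elementary subgroup as monomial group, and the sextet element. -/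
structure Frame (z : G) (A : Subgroup G) extends Rels G where
  sg_eq_one : ∀ a, IsWord a → sg a = 1 → a = 0 ∨ a = 16777215
  mem_A : ∀ x, x ∈ A ↔ ∃ a, IsWord a ∧ sg a = x
  pm_meet : ∀ σ, pm σ ∈ A → σ = 1
  norm_eq : A ⊔ pm.range = Subgroup.normalizer (A : Set G)
  oct_z : ∀ a, IsWord a → wt 24 a = 8 ∨ wt 24 a = 16 → IsConj z (sg a)
  z_word : ∃ a, IsWord a ∧ (wt 24 a = 8 ∨ wt 24 a = 16) ∧ sg a = z

theorem Frame.mono_eq {z : G} {A : Subgroup G} (F : Frame z A) :
    F.toRels.mono = Subgroup.normalizer (A : Set G) := by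
  rw [← F.norm_eq, Rels.mono, show {x | ∃ a, IsWord a ∧ F.sg a = x} = (A : Set G) from
    Set.ext fun x => (F.mem_A x).symm, Subgroup.closure_eq]

end CfsgLib.Co1Uniq
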