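import Cfsg.Agent.Co1Uniq.Classes
import Cfsg.Agent.Co1Uniq.Frame

/-!
The relations give an image of the monomial group, the conjugation rule of the sextet element on all of its
domain, and the triangle on codes.
-/

set_option autoImplicit false
set_option maxRecDepth 100000
set_option linter.style.haveILetI false

namespace CfsgLib.Co1Uniq

open Cfsg CfsgLib CfsgLib.Golay CfsgLib.Golay.Cert CfsgLib.Leech

/-- The mask of a word of the code. -/
noncomputable def maskW (w : golayCode) : ℕ := word ((mem_code_iff (w : GolayPt → ZMod 2)).1 w.2).choose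

theorem maskW_spec (w : golayCode) : maskW w < 2 ^ 24 ∧ vec (maskW w) = (w : GolayPt → ZMod 2) :=
  have h := ((mem_code_iff (w : GolayPt → ZMod 2)).1 w.2).choose_spec
  ⟨word_lt _ h.1, h.2.symm⟩

theorem isWord_maskW (w : golayCode) : IsWord (maskW w) :=
  ⟨(maskW_spec w).1, (maskW_spec w).2.symm ▸ w.2⟩

theorem maskW_eq {w : golayCode} {m : ℕ} (hm : m < 2 ^ 24) (h : vec m = (w : GolayPt → ZMod 2)) : maskW w = m :=
  vec_inj (maskW_spec w).1 hm ((maskW_spec w).2.trans h.symm)

theorem monoPart_el {c : ℕ} (h : validC c = true) :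
    vec (maskC c) = ((monoPart (el c)).1 : GolayPt → ZMod 2) ∧ maskC c < 2 ^ 24 ∧
      (monoPart (el c)).2 = ofList (permC c) := by
  have hcd := cd_el (val_of_validC h)
  simp only [validC, Bool.and_eq_true, beq_iff_eq] at h
  obtain ⟨⟨hperm, hword⟩, -⟩ := h
  set σ := (monoPart (el c)).2 with hσ
  set w := ((monoPart (el c)).1 : GolayPt → ZMod 2) with hw
  have hs : ∀ j < 24, slot c j = 2 * idx ((σ : Equiv.Perm GolayPt) (pt j)) + (w ((σ : Equiv.Perm GolayPt) (pt j))).val :=
    fun j hj => by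
      conv_lhs => rw [← hcd, slot_cd _ hj]
      rfl
  have hv : ∀ p, (w p).val < 2 := fun p => ZMod.val_lt _
  have h2 : ∀ j < 24, slot c j / 2 = idx ((σ : Equiv.Perm GolayPt) (pt j)) := fun j hj => by
    have := hv ((σ : Equiv.Perm GolayPt) (pt j))
    rw [hs j hj]
    omega
  refine ⟨funext fun p => ?_, ?_, Subtype.ext (CfsgLib.Golay.Cert.toList_injective ?_)⟩
  · set j := idx ((σ : Equiv.Perm GolayPt).symm p) with hj
    have hj24 : j < 24 := idx_lt _
    have hp : (σ : Equiv.Perm GolayPt) (pt j) = p := by rw [hj, pt_idx, Equiv.apply_symm_apply]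
    have hbit : (maskC c).testBit (idx p) = true ↔ (w p).val = 1 := by
      unfold maskC
      rw [testBit_foldr]
      constructor
      · rintro ⟨i, hi, e1, e2⟩
        rw [List.mem_range] at hi
        rw [h2 i hi] at e2
        have e := idx_injective e2
        have := hv p
        rw [hs i hi, e] at e1
        omega
      · intro e
        refine ⟨j, List.mem_range.2 hj24, ?_, ?_⟩
        · rw [hs j hj24, hp, e]
          omega
        · rw [h2 j hj24, hp]
    show (if (maskC c).testBit (idx p) then 1 else 0) = w p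
    by_cases e : (w p).val = 1
    · rw [if_pos (hbit.2 e)]
      rcases (by decide : ∀ a : ZMod 2, a = 0 ∨ a = 1) (w p) with e' | e'
      · rw [e'] at e
        simp at e
      · exact e'.symm
    · rw [if_neg (fun hh => e (hbit.1 hh))]
      rcases (by decide : ∀ a : ZMod 2, a = 0 ∨ a = 1) (w p) with e' | e'
      · exact e'.symm
      · rw [e'] at e
        exact absurd rfl e
  · rw [← hword]
    exact word_lt _ (Nat.mod_lt _ (by norm_num))
  · rw [toList_ofList hperm]
    unfold toList permC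
    exact List.map_congr_left fun j hj => (h2 j (List.mem_range.1 hj)).symm

/-- The code is that of a monomial element given by its list and mask. -/
def isCode (q : MonoW) (c : ℕ) : Bool :=
  validC c && permC c == q.1 && maskC c == q.2 && decide (SylowCert.Good q.1) && q.1.length == 24

namespace Rels

variable {G : Type*} [Group G] (R : Rels G)

theorem sg_zero : R.sg 0 = 1 := by
  have h : IsWord 0 := ⟨by norm_num, by rw [vec_zero]; exact zero_mem _⟩
  have e := R.sg_xor 0 0 h h
  rw [Nat.xor_self] at e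
  exact left_eq_mul.1 e

/-- The value of a monomial automorphism. -/
noncomputable def val (g : MN) : G := R.sg (maskW (monoPart g).1) * R.pm (monoPart g).2

theorem val_mul (a b : MN) : R.val (a * b) = R.val a * R.val b := by
  have hw : monoPart (a * b) = ((monoPart a).1 + ⟨fun i => ((monoPart b).1 : GolayPt → ZMod 2)
      (((monoPart a).2 : Equiv.Perm GolayPt)⁻¹ i),
      M24_code (inv_mem (monoPart a).2.2) (monoPart b).1.2⟩, (monoPart a).2 * (monoPart b).2) :=
    monoPart_of_eq (by rw [← monoAut_mul, monoPart_spec, monoPart_spec, Subgroup.coe_mul])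
  set v : golayCode := ⟨fun i => ((monoPart b).1 : GolayPt → ZMod 2) (((monoPart a).2 : Equiv.Perm GolayPt)⁻¹ i),
    M24_code (inv_mem (monoPart a).2.2) (monoPart b).1.2⟩ with hv
  have hx : maskW ((monoPart a).1 + v) = maskW (monoPart a).1 ^^^ maskW v :=
    maskW_eq (Nat.xor_lt_two_pow (maskW_spec _).1 (maskW_spec _).1)
      (by rw [vec_xor, (maskW_spec _).2, (maskW_spec _).2]; rfl)
  have hc := R.pm_sg (monoPart a).2 (maskW (monoPart b).1) (maskW v) (isWord_maskW _) (isWord_maskW _)
    fun p => by rw [(maskW_spec _).2, (maskW_spec _).2]; rfl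
  unfold val
  rw [hw]
  simp only []
  rw [hx, R.sg_xor _ _ (isWord_maskW _) (isWord_maskW _), ← hc, map_mul]
  group

/-- The map from the monomial group. -/
noncomputable def theta : MN →* G := MonoidHom.mk' R.val R.val_mul

theorem theta_el {c : ℕ} (h : validC c = true) : R.theta (el c) = R.sg (maskC c) * R.pm (ofList (permC c)) := by
  obtain ⟨h1, h2, h3⟩ := monoPart_el h
  show R.sg (maskW (monoPart (el c)).1) * R.pm (monoPart (el c)).2 = _
  rw [maskW_eq h2 h1, h3]

theorem permM_eq {L : List ℕ} (h : Cert.genOK L = true) (hg : SylowCert.Good L) (hl : L.length = 24) :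
    permM L = ofList L := by
  have e : SylowCert.permL L = (ofList L : Equiv.Perm GolayPt) :=
    CfsgLib.Golay.Cert.toList_injective ((SylowCert.toList_permL hg hl).trans (toList_ofList h).symm)
  unfold permM
  rw [dif_pos (e ▸ (ofList L).2)]
  exact Subtype.ext e

theorem theta_code {q : MonoW} {c : ℕ} (h : isCode q c = true) : Val c ∧ R.theta (el c) = R.ev q := by
  simp only [isCode, Bool.and_eq_true, beq_iff_eq, decide_eq_true_eq] at h
  obtain ⟨⟨⟨⟨hv, hp⟩, hm⟩, hg⟩, hl⟩ := h
  have hgen : Cert.genOK (permC c) = true := by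
    simp only [validC, Bool.and_eq_true] at hv
    exact hv.1.1
  refine ⟨val_of_validC hv, ?_⟩
  rw [R.theta_el hv, hp, hm, ev, permM_eq (hp ▸ hgen) hg hl]

theorem theta_neg : R.theta negM = 1 := by
  have h : validC (negC oneC) = true ∧ maskC (negC oneC) = 16777215 ∧ permC (negC oneC) = List.range 24 := by
    decide +kernel
  have h1 : validC oneC = true ∧ maskC oneC = 0 ∧ permC oneC = List.range 24 := by decide +kernel
  have e : el (negC oneC) = negM := by rw [← cd_one, ← cd_neg_mul, el_cd, mul_one]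
  have e1 := R.theta_el h1.1
  rw [el_one, map_one, h1.2.1, h1.2.2, R.sg_zero, one_mul] at e1
  rw [← e, R.theta_el h.1, h.2.1, h.2.2, R.sg_one, one_mul, ← e1]

/-- The elements whose conjugate by the sextet element is as in the monomial group. -/
def passed : Subgroup MN where
  carrier := {b | ∃ b' : MN, (b' : Co0) = xiAut * (b : Co0) * xiAut ∧ R.xi * R.theta b * R.xi = R.theta b'}
  one_mem' := ⟨1, by simp [xiAut_sq], by simp [R.xi_sq]⟩
  mul_mem' := by
    rintro a b ⟨a', ha, ha'⟩ ⟨b', hb, hb'⟩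
    refine ⟨a' * b', ?_, ?_⟩
    · rw [Subgroup.coe_mul, Subgroup.coe_mul, ha, hb]
      calc xiAut * (a : Co0) * xiAut * (xiAut * (b : Co0) * xiAut)
          = xiAut * (a : Co0) * (xiAut * xiAut) * (b : Co0) * xiAut := by group
        _ = _ := by rw [xiAut_sq]; group
    · rw [map_mul, map_mul, ← ha', ← hb']
      calc R.xi * (R.theta a * R.theta b) * R.xi = R.xi * R.theta a * (R.xi * R.xi) * R.theta b * R.xi := by
            rw [R.xi_sq]; group
        _ = _ := by group
  inv_mem' := by
    rintro a ⟨a', ha, ha'⟩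
    refine ⟨a'⁻¹, ?_, ?_⟩
    · rw [Subgroup.coe_inv, Subgroup.coe_inv, ha, mul_inv_rev, mul_inv_rev, inv_eq_of_mul_eq_one_right xiAut_sq,
        mul_assoc]
    · rw [map_inv, map_inv, ← ha', mul_inv_rev, mul_inv_rev, inv_eq_of_mul_eq_one_right R.xi_sq, mul_assoc]

theorem pgens_ok : Dat.pgens.length = passGens.length ∧
    (∀ x ∈ Dat.pgens.zip passGens, (isCode x.2.1 x.1.1 && isCode x.2.2 x.1.2 && passOK x.1.1 &&
      (passC x.1.1 == x.1.2 || passC x.1.1 == negC x.1.2)) = true) := by
  decide +kernel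

theorem kGens_passed : ∀ c ∈ kGens, Val c ∧ el c ∈ R.passed := by
  intro c hc
  refine ⟨(kGens_mem c hc).1, ?_⟩
  rcases List.mem_cons.1 hc with rfl | hc
  · have e : el (negC oneC) = negM := by rw [← cd_one, ← cd_neg_mul, el_cd, mul_one]
    refine ⟨negM, ?_, ?_⟩
    · rw [e]
      refine ext_co0 fun v => ?_
      show negAut • v = (xiAut * negAut * xiAut) • v
      rw [mul_smul, mul_smul, negAut_smul, negAut_smul, smul_neg', ← mul_smul, xiAut_sq, one_smul]
    · rw [e, R.theta_neg, mul_one, R.xi_sq]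
  · obtain ⟨p, hp, rfl⟩ := List.mem_map.1 hc
    obtain ⟨i, hi, rfl⟩ := List.mem_iff_getElem.1 hp
    have hi' : i < passGens.length := pgens_ok.1 ▸ hi
    have h := pgens_ok.2 (Dat.pgens[i], passGens[i]) (List.mem_iff_getElem.2 ⟨i, by simp [List.length_zip]; omega,
      List.getElem_zip⟩)
    simp only [Bool.and_eq_true, Bool.or_eq_true, beq_iff_eq] at h
    obtain ⟨⟨⟨h1, h2⟩, h3⟩, h4⟩ := h
    obtain ⟨v1, e1⟩ := R.theta_code h1
    obtain ⟨v2, e2⟩ := R.theta_code h2
    obtain ⟨g, hg, hgc⟩ := pass_spec v1 h3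
    refine ⟨g, hg, ?_⟩
    have hg' : R.theta g = R.theta (el Dat.pgens[i].2) := by
      rcases h4 with h4 | h4 <;> rw [← hgc] at h4
      · rw [← h4, el_cd]
      · have e : g = negM * el Dat.pgens[i].2 := cd_injective (by rw [cd_neg_mul, cd_el v2, h4])
        rw [e, map_mul, R.theta_neg, one_mul]
    show R.xi * R.theta (el Dat.pgens[i].1) * R.xi = R.theta g
    rw [e1, hg', e2]
    exact R.pass_ev _ (List.getElem_mem hi')

/-- The relations give an image of the monomial group with the sextet element. -/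
noncomputable def toBase : Base G where
  θ := R.theta
  θ_neg := R.theta_neg
  ξ := R.xi
  sq := R.xi_sq
  pass b b' h := by
    have hle : R.passed ≤ passSub := by
      rintro x ⟨x', hx, -⟩
      exact mem_passSub.2 (hx ▸ x'.2)
    obtain ⟨b'', h1, h2⟩ := passSub_le R.kGens_passed hle (mem_passSub.2 (h ▸ b'.2) : b ∈ passSub)
    rw [h2, Subtype.ext (h1.trans h.symm)]

theorem tri_codes : isCode triA (Dat.triCodes.getD 0 0) = true ∧ isCode triB (Dat.triCodes.getD 1 0) = true ∧
    isCode triC (Dat.triCodes.getD 2 0) = true ∧ (Dat.tri.c == oneC && Dat.tri.a == Dat.triCodes.getD 0 0 &&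
      Dat.tri.b == mulC (Dat.triCodes.getD 0 0) (Dat.triCodes.getD 1 0) &&
      Dat.tri.nu == mulC (Dat.triCodes.getD 2 0) (invC Dat.tri.b)) = true := by
  decide +kernel

theorem tri_holds : (Val Dat.tri.a ∧ Val Dat.tri.b ∧ Val Dat.tri.c ∧ Val Dat.tri.nu) ∧
    R.toBase.xiE Dat.tri.c * R.toBase.xiE Dat.tri.a * R.toBase.xiE Dat.tri.b = R.toBase.th Dat.tri.nu := by
  obtain ⟨hA, hB, hC, h⟩ := tri_codes
  simp only [Bool.and_eq_true, beq_iff_eq] at h
  obtain ⟨⟨⟨hc, ha⟩, hb⟩, hn⟩ := h
  rw [hn, hb, ha, hc]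
  generalize Dat.triCodes.getD 0 0 = A at *
  generalize Dat.triCodes.getD 1 0 = B at *
  generalize Dat.triCodes.getD 2 0 = C at *
  obtain ⟨vA, eA⟩ := R.theta_code hA
  obtain ⟨vB, eB⟩ := R.theta_code hB
  obtain ⟨vC, eC⟩ := R.theta_code hC
  refine ⟨⟨vA, vA.mul vB, val_one, vC.mul (vA.mul vB).inv⟩, ?_⟩
  have tA : R.toBase.th A = R.ev triA := eA
  have tB : R.toBase.th B = R.ev triB := eB
  have tC : R.toBase.th C = R.ev triC := eC
  unfold Base.xiE
  rw [R.toBase.th_mul vC (vA.mul vB).inv, R.toBase.th_inv (vA.mul vB), R.toBase.th_mul vA vB, R.toBase.th_one,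
    tA, tB, tC, ← R.tri_ev, show R.toBase.ξ = R.xi from rfl]
  group

theorem top_le : R.top ≤ Subgroup.closure (Set.range R.toBase.θ ∪ {R.toBase.ξ}) := by
  have hsub : Set.range R.theta ⊆ Subgroup.closure (Set.range R.toBase.θ ∪ {R.toBase.ξ}) :=
    fun x hx => Subgroup.subset_closure (Or.inl hx)
  refine sup_le (sup_le ((Subgroup.closure_le _).2 ?_) ?_) ((Subgroup.zpowers_le).2
    (Subgroup.subset_closure (Or.inr rfl)))
  · rintro _ ⟨a, ha, rfl⟩
    refine hsub ⟨⟨signAut ⟨vec a, ha.2⟩, signAut_mem _⟩, ?_⟩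
    show R.sg (maskW (monoPart _).1) * R.pm (monoPart _).2 = _
    rw [monoPart_of_eq (x := (⟨vec a, ha.2⟩, 1)) (signAut_eq_monoAut _).symm, map_one, mul_one]
    exact congrArg R.sg (maskW_eq ha.1 rfl)
  · rintro _ ⟨σ, rfl⟩
    refine hsub ⟨⟨permHom σ, permHom_mem σ⟩, ?_⟩
    show R.sg (maskW (monoPart _).1) * R.pm (monoPart _).2 = _
    rw [monoPart_of_eq (x := (0, σ)) (permHom_eq_monoAut σ).symm,
      show maskW (0 : golayCode) = 0 from maskW_eq (by norm_num) (by rw [vec_zero]; rfl), R.sg_zero, one_mul]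

end Rels

end CfsgLib.Co1Uniq
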