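import Cfsg.Agent.Co1Uniq.Cover
import Cfsg.Agent.Co1Uniq.Data.Labels

/-!
The codes of the labels.
-/

set_option autoImplicit false

namespace CfsgLib.Co1Uniq

/-- The code of a label. -/
def nr (e : ℕ) : ℕ := if e < 3542 then nrAt Dat.nrT e else oneC

end CfsgLib.Co1Uniq
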