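import Cfsg.Agent.Co1Uniq.Cover
import Cfsg.Agent.Co1Uniq.Labels
import Cfsg.Agent.Co1Uniq.Data.State
import Cfsg.Agent.Co1Uniq.Data.Node0
import Cfsg.Agent.Co1Uniq.Data.Node1
import Cfsg.Agent.Co1Uniq.Data.Node2
import Cfsg.Agent.Co1Uniq.Data.Node3
import Cfsg.Agent.Co1Uniq.Data.Node4
import Cfsg.Agent.Co1Uniq.Data.Node5

/-!
The chains in the stabilisers and in the elements passing the involution.
-/

set_option autoImplicit false
set_option maxRecDepth 100000

namespace CfsgLib.Co1Uniq

/-- The values of the program of a chain. -/
def chainVals (ids : List ℕ) (slp : List (ℕ × ℕ × ℕ)) : List ℕ :=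
  slpC slp (oneC :: ids.map fun i => (Dat.pairs.getD i ⟨0, oneC, oneC⟩).h)

/-- The generators of the elements passing the involution. -/
def kGens : List ℕ := negC oneC :: Dat.pgens.map Prod.fst

/-- The levels of the chain of the elements passing the involution. -/
def kLevels : List Level := mkLevels (slpC Dat.slpK (oneC :: kGens)) Dat.lvK

theorem k_chain : chainOKU [] kLevels = true := by decide +kernel

theorem k_prod : (kLevels.map fun l => l.els.length).prod = 283115520 := by decide +kernel

/-- The levels of the chain at node 0. -/
def levels0 : List Level := mkLevels (chainVals Dat.ids0 Dat.slp0) Dat.lv0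

theorem chain_ok0 : chainOKU [] levels0 = true := by decide +kernel

theorem chain_prod0 : Nat.ble (4096 * 244823040) ((levels0.map fun l => l.els.length).prod * 1) = true := by
  decide +kernel

theorem chain_node0 : (Dat.ids0.all fun i => Nat.blt i Dat.pairs.length && (Dat.pairs.getD i ⟨0, oneC, oneC⟩).k == 0) = true := by
  decide +kernel

/-- The levels of the chain at node 1. -/
def levels1 : List Level := mkLevels (chainVals Dat.ids1 Dat.slp1) Dat.lv1

theorem chain_ok1 : chainOKU [] levels1 = true := by decide +kernel

theorem chain_prod1 : Nat.ble (4096 * 244823040) ((levels1.map fun l => l.els.length).prod * 3542) = true := by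
  decide +kernel

theorem chain_node1 : (Dat.ids1.all fun i => Nat.blt i Dat.pairs.length && (Dat.pairs.getD i ⟨0, oneC, oneC⟩).k == 1) = true := by
  decide +kernel

/-- The levels of the chain at node 2. -/
def levels2 : List Level := mkLevels (chainVals Dat.ids2 Dat.slp2) Dat.lv2

theorem chain_ok2 : chainOKU [] levels2 = true := by decide +kernel

theorem chain_prod2 : Nat.ble (4096 * 244823040) ((levels2.map fun l => l.els.length).prod * 48576) = true := by
  decide +kernel

theorem chain_node2 : (Dat.ids2.all fun i => Nat.blt i Dat.pairs.length && (Dat.pairs.getD i ⟨0, oneC, oneC⟩).k == 2) = true := by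
  decide +kernel

/-- The levels of the chain at node 3. -/
def levels3 : List Level := mkLevels (chainVals Dat.ids3 Dat.slp3) Dat.lv3

theorem chain_ok3 : chainOKU [] levels3 = true := by decide +kernel

theorem chain_prod3 : Nat.ble (4096 * 244823040) ((levels3.map fun l => l.els.length).prod * 1457280) = true := by
  decide +kernel

theorem chain_node3 : (Dat.ids3.all fun i => Nat.blt i Dat.pairs.length && (Dat.pairs.getD i ⟨0, oneC, oneC⟩).k == 3) = true := by
  decide +kernel

/-- The levels of the chain at node 4. -/
def levels4 : List Level := mkLevels (chainVals Dat.ids4 Dat.slp4) Dat.lv4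

theorem chain_ok4 : chainOKU [] levels4 = true := by decide +kernel

theorem chain_prod4 : Nat.ble (4096 * 244823040) ((levels4.map fun l => l.els.length).prod * 4145152) = true := by
  decide +kernel

theorem chain_node4 : (Dat.ids4.all fun i => Nat.blt i Dat.pairs.length && (Dat.pairs.getD i ⟨0, oneC, oneC⟩).k == 4) = true := by
  decide +kernel

/-- The levels of the chain at node 5. -/
def levels5 : List Level := mkLevels (chainVals Dat.ids5 Dat.slp5) Dat.lv5

theorem chain_ok5 : chainOKU [] levels5 = true := by decide +kernel

theorem chain_prod5 : Nat.ble (4096 * 244823040) ((levels5.map fun l => l.els.length).prod * 2637824) = true := by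
  decide +kernel

theorem chain_node5 : (Dat.ids5.all fun i => Nat.blt i Dat.pairs.length && (Dat.pairs.getD i ⟨0, oneC, oneC⟩).k == 5) = true := by
  decide +kernel

end CfsgLib.Co1Uniq
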