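import Cfsg.Agent.Co1Uniq.Cover
import Cfsg.Agent.Co1Uniq.Labels

/-!
The keys of the labels increase along the recorded order.
-/

set_option autoImplicit false
set_option maxRecDepth 100000

namespace CfsgLib.Co1Uniq

/-- A list increases strictly. -/
def incC : List ℕ → Bool
  | a :: b :: l => Nat.blt a b && incC (b :: l)
  | _ => true

theorem key_inc0 : incC (Dat.ord0.map fun e => keyC (nr e)) = true := by decide +kernel

theorem key_inc1 : incC (Dat.ord1.map fun e => keyC (nr e)) = true := by decide +kernel

theorem key_inc2 : incC (Dat.ord2.map fun e => keyC (nr e)) = true := by decide +kernel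

theorem key_inc3 : incC (Dat.ord3.map fun e => keyC (nr e)) = true := by decide +kernel

theorem key_inc4 : incC (Dat.ord4.map fun e => keyC (nr e)) = true := by decide +kernel

theorem key_inc5 : incC (Dat.ord5.map fun e => keyC (nr e)) = true := by decide +kernel

theorem key_inc6 : incC (Dat.ord6.map fun e => keyC (nr e)) = true := by decide +kernel

theorem key_inc7 : incC (Dat.ord7.map fun e => keyC (nr e)) = true := by decide +kernel

theorem key_inc8 : incC (Dat.ord8.map fun e => keyC (nr e)) = true := by decide +kernel

theorem key_inc9 : incC (Dat.ord9.map fun e => keyC (nr e)) = true := by decide +kernel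

theorem key_inc10 : incC (Dat.ord10.map fun e => keyC (nr e)) = true := by decide +kernel

theorem key_inc11 : incC (Dat.ord11.map fun e => keyC (nr e)) = true := by decide +kernel

theorem key_inc12 : incC (Dat.ord12.map fun e => keyC (nr e)) = true := by decide +kernel

theorem key_inc13 : incC (Dat.ord13.map fun e => keyC (nr e)) = true := by decide +kernel

end CfsgLib.Co1Uniq
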