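import Cfsg.Agent.Co1Uniq.Labels

/-!
The codes of the labels are valid.
-/

set_option autoImplicit false
set_option maxRecDepth 100000

namespace CfsgLib.Co1Uniq

/-- A range of labels has valid codes. -/
def nrValid (i : ℕ) : Bool := (List.range 256).all fun j => validC (nr (256 * i + j))

theorem nr_valid0 : nrValid 0 = true := by decide +kernel

theorem nr_valid1 : nrValid 1 = true := by decide +kernel

theorem nr_valid2 : nrValid 2 = true := by decide +kernel

theorem nr_valid3 : nrValid 3 = true := by decide +kernel

theorem nr_valid4 : nrValid 4 = true := by decide +kernel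

theorem nr_valid5 : nrValid 5 = true := by decide +kernel

theorem nr_valid6 : nrValid 6 = true := by decide +kernel

theorem nr_valid7 : nrValid 7 = true := by decide +kernel

theorem nr_valid8 : nrValid 8 = true := by decide +kernel

theorem nr_valid9 : nrValid 9 = true := by decide +kernel

theorem nr_valid10 : nrValid 10 = true := by decide +kernel

theorem nr_valid11 : nrValid 11 = true := by decide +kernel

theorem nr_valid12 : nrValid 12 = true := by decide +kernel

theorem nr_valid13 : nrValid 13 = true := by decide +kernel

theorem nr_valid_all : ∀ i < 14, nrValid i = true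
  | 0, _ => nr_valid0
  | 1, _ => nr_valid1
  | 2, _ => nr_valid2
  | 3, _ => nr_valid3
  | 4, _ => nr_valid4
  | 5, _ => nr_valid5
  | 6, _ => nr_valid6
  | 7, _ => nr_valid7
  | 8, _ => nr_valid8
  | 9, _ => nr_valid9
  | 10, _ => nr_valid10
  | 11, _ => nr_valid11
  | 12, _ => nr_valid12
  | 13, _ => nr_valid13
  | n + 14, h => absurd h (by omega)

theorem val_nr (e : ℕ) : Val (nr e) := by
  rcases lt_or_ge e 3542 with he | he
  · have h := List.all_eq_true.1 (nr_valid_all (e / 256) (by omega)) (e % 256) (List.mem_range.2 (by omega))
    rw [show 256 * (e / 256) + e % 256 = e by omega] at h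
    exact val_of_validC h
  · rw [nr, if_neg (by omega)]
    exact val_one

end CfsgLib.Co1Uniq
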