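import Cfsg.Agent.Co1Uniq.Data.State

/-!
The derivation runs to the recorded facts and pairs.
-/

set_option autoImplicit false
set_option maxRecDepth 100000

namespace CfsgLib.Co1Uniq

/-- Two facts agree. -/
def Fact.same (f g : Fact) : Bool := f.k == g.k && f.c == g.c && f.m == g.m && f.n == g.n && f.h == g.h

/-- Two pairs agree. -/
def SPair.same (f g : SPair) : Bool := f.k == g.k && f.s == g.s && f.h == g.h

/-- Two lists agree entry by entry. -/
def allSame {α : Type} (r : α → α → Bool) : List α → List α → Bool
  | [], [] => true
  | a :: l, b :: m => r a b && allSame r l m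
  | _, _ => false

/-- A result of a run agrees with a state. -/
def DState.sameAs : Option DState → DState → Bool
  | some s, t => allSame Fact.same s.F t.F && allSame SPair.same s.P t.P
  | none, _ => false

theorem allSame_eq {α : Type} {r : α → α → Bool} (hr : ∀ a b, r a b = true → a = b) :
    ∀ {l m : List α}, allSame r l m = true → l = m
  | [], [], _ => rfl
  | [], _ :: _, h => by simp [allSame] at h
  | _ :: _, [], h => by simp [allSame] at h
  | a :: l, b :: m, h => by
    rw [allSame, Bool.and_eq_true] at h
    rw [hr a b h.1, allSame_eq hr h.2]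

theorem DState.eq_of_sameAs {o : Option DState} {t : DState} (h : DState.sameAs o t = true) : o = some t := by
  cases o with
  | none => simp [DState.sameAs] at h
  | some s =>
    obtain ⟨sF, sP⟩ := s
    obtain ⟨tF, tP⟩ := t
    simp only [DState.sameAs, Bool.and_eq_true] at h
    rw [allSame_eq (fun a b e => by
      obtain ⟨⟩ := a
      obtain ⟨⟩ := b
      simpa [Fact.same, and_assoc] using e) h.1, allSame_eq (fun a b e => by
      obtain ⟨⟩ := a
      obtain ⟨⟩ := b
      simpa [SPair.same, and_assoc] using e) h.2]

theorem run_append {defs : List (ℕ × ℕ)} {T : TriData} : ∀ (l m : List DStep) (st : DState),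
    DState.run defs T (l ++ m) st = (DState.run defs T l st).bind (DState.run defs T m)
  | [], _, _ => rfl
  | d :: l, m, st => by
    show (st.step defs T d).bind (DState.run defs T (l ++ m)) = ((st.step defs T d).bind (DState.run defs T l)).bind _
    cases st.step defs T d with
    | none => rfl
    | some s => exact run_append l m s

/-- The state with prefixes of the facts and pairs. -/
def upTo (a b : ℕ) : DState := ⟨Dat.facts.take a, Dat.pairs.take b⟩

/-- A segment of the derivation runs between two prefixes. -/
def Seg (i a b a' b' : ℕ) : Prop :=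
  DState.sameAs (DState.run Dat.defs Dat.tri ((Dat.steps.drop i).take 27) (upTo a b)) (upTo a' b') = true

theorem run_seg {i a b a' b' : ℕ} (h : Seg i a b a' b') :
    DState.run Dat.defs Dat.tri (Dat.steps.drop i) (upTo a b) =
      DState.run Dat.defs Dat.tri (Dat.steps.drop (i + 27)) (upTo a' b') := by
  conv_lhs => rw [← List.take_append_drop 27 (Dat.steps.drop i), run_append, DState.eq_of_sameAs h,
    List.drop_drop]
  rfl

theorem seg0 : Seg 0 0 22 17 32 := by
  unfold Seg
  decide +kernel

theorem seg1 : Seg 27 17 32 40 36 := by
  unfold Seg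
  decide +kernel

theorem seg2 : Seg 54 40 36 64 39 := by
  unfold Seg
  decide +kernel

theorem seg3 : Seg 81 64 39 86 44 := by
  unfold Seg
  decide +kernel

theorem seg4 : Seg 108 86 44 108 49 := by
  unfold Seg
  decide +kernel

theorem seg5 : Seg 135 108 49 131 53 := by
  unfold Seg
  decide +kernel

theorem seg6 : Seg 162 131 53 157 54 := by
  unfold Seg
  decide +kernel

theorem seg7 : Seg 189 157 54 180 58 := by
  unfold Seg
  decide +kernel

theorem seg8 : Seg 216 180 58 206 59 := by
  unfold Seg
  decide +kernel

theorem seg9 : Seg 243 206 59 227 64 := by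
  unfold Seg
  decide +kernel

theorem init_eq : upTo 0 22 = ⟨[], Dat.init⟩ := by
  refine Option.some.inj (DState.eq_of_sameAs (o := some (upTo 0 22)) ?_)
  decide +kernel

theorem run_eq : DState.run Dat.defs Dat.tri Dat.steps ⟨[], Dat.init⟩ = some ⟨Dat.facts, Dat.pairs⟩ := by
  rw [← init_eq, ← List.drop_zero (l := Dat.steps), run_seg seg0, run_seg seg1, run_seg seg2, run_seg seg3, run_seg seg4, run_seg seg5, run_seg seg6, run_seg seg7, run_seg seg8, run_seg seg9,
    List.drop_eq_nil_of_le (by decide +kernel)]
  show some (upTo 227 64) = _
  rw [upTo, List.take_of_length_le (by decide +kernel), List.take_of_length_le (by decide +kernel)]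

end CfsgLib.Co1Uniq
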