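import Cfsg.Agent.Co1Uniq.ChkNr
import Cfsg.Agent.Co1Uniq.ChkKey
import Cfsg.Agent.Co1Uniq.ChkChain

/-!
The monomial elements passing through the sextet element: their index is the number of labels, and every class
has a label.
-/

set_option autoImplicit false
set_option maxRecDepth 100000
set_option linter.style.haveILetI false

namespace CfsgLib.Co1Uniq

open Cfsg CfsgLib CfsgLib.Leech

/-- The monomial elements whose conjugate by the sextet element is monomial. -/
def passSub : Subgroup MN :=
  monoGroup.comap (((MulAut.conj xiAut).toMonoidHom).comp monoGroup.subtype)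

theorem mem_passSub {b : MN} : b ∈ passSub ↔ xiAut * (b : Co0) * xiAut ∈ monoGroup := by
  show xiAut * (b : Co0) * xiAut⁻¹ ∈ monoGroup ↔ _
  rw [inv_eq_of_mul_eq_one_right xiAut_sq]

theorem Cl_of_coset {a b : MN} (h : (a : MN ⧸ passSub) = (b : MN ⧸ passSub)) : Cl a = Cl b := by
  have h' := mem_passSub.1 (QuotientGroup.eq.1 h)
  rw [Subgroup.coe_mul, Subgroup.coe_inv] at h'
  have e : (b : Co0) * xiAut = (a : Co0) * xiAut * (xiAut * ((a : Co0)⁻¹ * (b : Co0)) * xiAut) := by
    calc (b : Co0) * xiAut = (a : Co0) * 1 * ((a : Co0)⁻¹ * (b : Co0)) * xiAut := by group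
      _ = (a : Co0) * (xiAut * xiAut) * ((a : Co0)⁻¹ * (b : Co0)) * xiAut := by rw [xiAut_sq]
      _ = _ := by group
  unfold Cl
  rw [e, mul_smul ((a : Co0) * xiAut) (xiAut * ((a : Co0)⁻¹ * (b : Co0)) * xiAut)]
  exact cls_smul _ (show cls (((xiAut * ((a : Co0)⁻¹ * (b : Co0)) * xiAut) • eightAt none : leechLattice) :
    GolayPt → ℤ) = cls (eightAt none : GolayPt → ℤ) from h').symm

theorem incC_append : ∀ {l : List ℕ} {a : ℕ} {m : List ℕ},
    incC (l ++ [a]) = true → incC (a :: m) = true → incC (l ++ a :: m) = true
  | [], _, _, _, h => h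
  | [b], a, m, h1, h2 => by
    simp only [List.cons_append, List.nil_append, incC, Bool.and_eq_true] at h1 ⊢
    exact ⟨h1.1, h2⟩
  | b :: c :: l, a, m, h1, h2 => by
    simp only [List.cons_append, incC, Bool.and_eq_true] at h1 ⊢
    exact ⟨h1.1, incC_append (l := c :: l) h1.2 h2⟩

theorem nodup_of_incC : ∀ {l : List ℕ}, incC l = true → l.Pairwise (· < ·)
  | [], _ => List.Pairwise.nil
  | [a], _ => List.pairwise_singleton _ _
  | a :: b :: l, h => by
    simp only [incC, Bool.and_eq_true, Nat.blt_eq] at h
    have ih := nodup_of_incC h.2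
    refine List.pairwise_cons.2 ⟨fun x hx => ?_, ih⟩
    rcases List.mem_cons.1 hx with rfl | hx
    · exact h.1
    · exact lt_trans h.1 ((List.pairwise_cons.1 ih).1 x hx)

/-- The key of a label. -/
def keyE (e : ℕ) : ℕ := keyC (nr e)

/-- Glue two lists of labels overlapping in one. -/
def glue (l m : List ℕ) : List ℕ := l ++ m.tail

theorem incC_glue {l m : List ℕ} (hl : incC (l.map keyE) = true) (hm : incC (m.map keyE) = true)
    (h : (l.getLast? == m.head?) = true) : incC ((glue l m).map keyE) = true := by
  rw [beq_iff_eq] at h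
  cases m with
  | nil => simpa [glue] using hl
  | cons a m =>
    rw [List.head?_cons, List.getLast?_eq_some_iff] at h
    obtain ⟨ys, rfl⟩ := h
    rw [List.map_append] at hl
    rw [glue, List.tail_cons, List.append_assoc, List.singleton_append, List.map_append, List.map_cons]
    exact incC_append hl hm

/-- All labels by increasing key. -/
def ordAll : List ℕ :=
  glue (glue (glue (glue (glue (glue (glue (glue (glue (glue (glue (glue (glue Dat.ord0 Dat.ord1) Dat.ord2)
    Dat.ord3) Dat.ord4) Dat.ord5) Dat.ord6) Dat.ord7) Dat.ord8) Dat.ord9) Dat.ord10) Dat.ord11) Dat.ord12)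
    Dat.ord13

theorem ordAll_inc : incC (ordAll.map keyE) = true :=
  incC_glue (incC_glue (incC_glue (incC_glue (incC_glue (incC_glue (incC_glue (incC_glue (incC_glue (incC_glue
    (incC_glue (incC_glue (incC_glue key_inc0 key_inc1 (by decide +kernel)) key_inc2 (by decide +kernel))
    key_inc3 (by decide +kernel)) key_inc4 (by decide +kernel)) key_inc5 (by decide +kernel))
    key_inc6 (by decide +kernel)) key_inc7 (by decide +kernel)) key_inc8 (by decide +kernel))
    key_inc9 (by decide +kernel)) key_inc10 (by decide +kernel)) key_inc11 (by decide +kernel))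
    key_inc12 (by decide +kernel)) key_inc13 (by decide +kernel)

theorem ordAll_length : ordAll.length = 3542 := by decide +kernel

theorem ordAll_lt : (ordAll.all fun e => Nat.blt e 3542) = true := by decide +kernel

/-- The coset of a position in the order. -/
noncomputable def posCoset (i : Fin ordAll.length) : MN ⧸ passSub := (el (nr (ordAll.get i)) : MN)

theorem posCoset_injective : Function.Injective posCoset := by
  intro i j h
  have hk := keyC_eq (Cl_of_coset h)
  rw [cd_el (val_nr _), cd_el (val_nr _)] at hk
  rcases lt_trichotomy i j with hij | hij | hij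
  · exact absurd hk (ne_of_lt (List.pairwise_iff_get.1 ((List.pairwise_map (f := keyE)).1
      (nodup_of_incC ordAll_inc)) i j hij))
  · exact hij
  · exact absurd hk (Ne.symm (ne_of_lt (List.pairwise_iff_get.1 ((List.pairwise_map (f := keyE)).1
      (nodup_of_incC ordAll_inc)) j i hij)))

theorem index_passSub_ge : 3542 ≤ passSub.index := by
  have h := Nat.card_le_card_of_injective _ posCoset_injective
  rw [Nat.card_fin, ← Subgroup.index_eq_card, ordAll_length] at h
  exact h

theorem kGens_ok : (kGens.all fun c => validC c && passOK c) = true := by decide +kernel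

theorem kGens_mem : ∀ c ∈ kGens, Val c ∧ el c ∈ passSub := by
  intro c hc
  have h := List.all_eq_true.1 kGens_ok c hc
  rw [Bool.and_eq_true] at h
  obtain ⟨g, hg, -⟩ := pass_spec (val_of_validC h.1) h.2
  exact ⟨val_of_validC h.1, mem_passSub.2 (hg ▸ g.2)⟩

theorem card_of_kGens {H : Subgroup MN} (h : ∀ c ∈ kGens, Val c ∧ el c ∈ H) : 283115520 ≤ Nat.card H := by
  have h0 : ∀ c ∈ slpC Dat.slpK (oneC :: kGens), Val c ∧ el c ∈ H := by
    refine slpC_mem _ _ fun c hc => ?_
    rcases List.mem_cons.1 hc with rfl | hc
    · exact ⟨val_one, el_one ▸ one_mem H⟩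
    · exact h c hc
  have h1 := chain_le kLevels [] H (by simp) k_chain (mkLevels_mem h0 _)
  rw [k_prod] at h1
  refine h1.trans (le_of_eq (Nat.card_congr (Equiv.subtypeEquivRight fun x => ?_)))
  simp

theorem card_passSub_le : Nat.card passSub * 3542 ≤ 4096 * 244823040 := by
  calc Nat.card passSub * 3542 ≤ Nat.card passSub * passSub.index := Nat.mul_le_mul_left _ index_passSub_ge
    _ = Nat.card MN := Subgroup.card_mul_index _
    _ = _ := card_monoGroup

/-- A subgroup with the generators contains everything passing the sextet element. -/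
theorem passSub_le {H : Subgroup MN} (h : ∀ c ∈ kGens, Val c ∧ el c ∈ H) (hle : H ≤ passSub) : passSub ≤ H := by
  haveI : Finite MN := Nat.finite_of_card_ne_zero (by rw [card_monoGroup]; norm_num)
  refine ge_of_eq (Subgroup.eq_of_le_of_card_ge hle ?_)
  have h1 := card_of_kGens h
  have h2 := card_passSub_le
  omega

theorem index_passSub : passSub.index = 3542 := by
  have h1 := Subgroup.card_mul_index passSub
  have h2 := card_of_kGens (H := passSub) kGens_mem
  rw [card_monoGroup] at h1
  refine le_antisymm (Nat.le_of_mul_le_mul_left ?_ (by norm_num : 0 < 283115520)) index_passSub_ge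
  calc 283115520 * passSub.index ≤ Nat.card passSub * passSub.index := Nat.mul_le_mul_right _ h2
    _ = _ := h1.trans (by norm_num)

/-- Every class has a label. -/
theorem exists_label (n : MN) : ∃ e < 3542, Cl n = Cl (el (nr e)) := by
  haveI : Finite MN := Nat.finite_of_card_ne_zero (by rw [card_monoGroup]; norm_num)
  have hb : Function.Bijective posCoset :=
    (Nat.bijective_iff_injective_and_card posCoset).2 ⟨posCoset_injective,
      by rw [Nat.card_fin, ordAll_length, ← Subgroup.index_eq_card, index_passSub]⟩
  obtain ⟨i, hi⟩ := hb.2 (n : MN ⧸ passSub)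
  exact ⟨ordAll.get i, by simpa [Nat.blt_eq] using List.all_eq_true.1 ordAll_lt _ (List.get_mem ordAll i),
    (Cl_of_coset hi).symm⟩

end CfsgLib.Co1Uniq
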