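import Cfsg.Agent.Leech.Simple
import Cfsg.Agent.Co0Model.Pack
import Cfsg.Agent.Golay.TableHom

/-!
Monomial automorphisms of the Leech lattice as codes: twenty-four slots of six bits, slot `j` holding the signed
point `2 k + ε` to which the `j`-th signed point is sent.
-/

set_option autoImplicit false
set_option maxRecDepth 100000
set_option linter.style.haveILetI false

namespace CfsgLib.Co1Uniq

open Cfsg CfsgLib CfsgLib.Golay CfsgLib.Golay.Cert CfsgLib.Leech CfsgLib.Co0Model

/-- The monomial subgroup. -/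
abbrev MN : Type := ↥monoGroup

/-- A slot of a code. -/
def slot (c j : ℕ) : ℕ := (c >>> (6 * j)) % 64

/-- A code from its slots. -/
def enc6 (s : ℕ → ℕ) : ℕ := pk 6 24 s

/-- The image of a signed point. -/
def img (c x : ℕ) : ℕ := slot c (x / 2) ^^^ (x % 2)

/-- The product of codes. -/
def mulC (a b : ℕ) : ℕ := enc6 fun j => img a (slot b j)

/-- The code of one. -/
def oneC : ℕ := enc6 fun j => 2 * j

/-- The negated code. -/
def negC (c : ℕ) : ℕ := enc6 fun j => slot c j ^^^ 1

/-- The signed point sent to `y`. -/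
def preImg (c y : ℕ) : ℕ := ((List.range 48).find? fun x => img c x == y).getD 0

/-- The inverse code. -/
def invC (c : ℕ) : ℕ := enc6 fun k => preImg c (2 * k)

/-- The permutation of a code. -/
def permC (c : ℕ) : List ℕ := (List.range 24).map fun j => slot c j / 2

/-- The negated points of a code. -/
def maskC (c : ℕ) : ℕ := (List.range 24).foldr (fun j m => Nat.lor (Nat.shiftLeft (slot c j % 2) (slot c j / 2)) m) 0

/-- The code is that of a monomial automorphism. -/
def validC (c : ℕ) : Bool :=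
  genOK (permC c) && word (maskC c % 4096) == maskC c && enc6 (slot c) == c

theorem slot_enc6 {s : ℕ → ℕ} (hs : ∀ j < 24, s j < 48) {j : ℕ} (hj : j < 24) : slot (enc6 s) j = s j := by
  unfold slot enc6
  exact digit_pk 6 j 24 s (fun i hi => lt_trans (hs i hi) (by norm_num)) hj

theorem enc6_congr {s t : ℕ → ℕ} (h : ∀ j < 24, s j = t j) : enc6 s = enc6 t := pk_congr 6 24 s t h

theorem xor_one_lt {x : ℕ} (hx : x < 48) : x ^^^ 1 < 48 :=
  (by decide +kernel : ∀ x < 48, x ^^^ 1 < 48) x hx

theorem img_lt {c x : ℕ} (hc : ∀ j < 24, slot c j < 48) (hx : x < 48) : img c x < 48 := by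
  have h := hc (x / 2) (by omega)
  unfold img
  rcases Nat.mod_two_eq_zero_or_one x with e | e <;> rw [e]
  · simpa using h
  · exact xor_one_lt h

/-- A signed frame vector. -/
def sp (x : ℕ) : leechLattice := if x % 2 = 0 then eightAt (pt (x / 2)) else -eightAt (pt (x / 2))

theorem sp_inj {x y : ℕ} (hx : x < 48) (hy : y < 48) (h : sp x = sp y) : x = y := by
  have h1 := congrArg (fun v : leechLattice => (v : GolayPt → ℤ) (pt (x / 2))) h
  have e : ∀ (z : ℕ) (p : GolayPt), (sp z : GolayPt → ℤ) p =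
      if p = pt (z / 2) then (if z % 2 = 0 then 8 else -8) else 0 := fun z p => by
    unfold sp
    split_ifs <;> simp_all [eightAt_apply]
  simp only [e, if_true] at h1
  have hpt : pt (x / 2) = pt (y / 2) → x / 2 = y / 2 := fun h => by
    rw [← idx_pt (x / 2) (by omega), h, idx_pt _ (by omega)]
  split_ifs at h1 with ha hb hc <;> first | omega | (have := hpt (by assumption); omega)

theorem sp_xor (x : ℕ) : sp (x ^^^ 1) = -sp x := by
  have e : ∀ z, (z ^^^ 1) % 2 = 1 - z % 2 ∧ (z ^^^ 1) / 2 = z / 2 := fun z => by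
    have h := Nat.xor_div_two (a := z) (b := 1)
    have h2 := Nat.xor_mod_two_eq_one (a := z) (b := 1)
    rw [show (1 : ℕ) / 2 = 0 from rfl, Nat.xor_zero] at h
    refine ⟨?_, h⟩
    rcases Nat.mod_two_eq_zero_or_one z with h' | h' <;> omega
  obtain ⟨e1, e2⟩ := e x
  unfold sp
  rw [e1, e2]
  rcases Nat.mod_two_eq_zero_or_one x with h | h <;> simp [h]

/-- The slot of a monomial automorphism at a point. -/
noncomputable def slotOf (g : MN) (j : ℕ) : ℕ :=
  2 * idx (((monoPart g).2 : Equiv.Perm GolayPt) (pt j)) +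
    (((monoPart g).1 : GolayPt → ZMod 2) (((monoPart g).2 : Equiv.Perm GolayPt) (pt j))).val

/-- The code of a monomial automorphism. -/
noncomputable def cd (g : MN) : ℕ := enc6 (slotOf g)

theorem slotOf_lt (g : MN) (j : ℕ) : slotOf g j < 48 := by
  have h1 := idx_lt (((monoPart g).2 : Equiv.Perm GolayPt) (pt j))
  have h2 := ZMod.val_lt (((monoPart g).1 : GolayPt → ZMod 2) (((monoPart g).2 : Equiv.Perm GolayPt) (pt j)))
  unfold slotOf
  omega

theorem slot_cd (g : MN) {j : ℕ} (hj : j < 24) : slot (cd g) j = slotOf g j :=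
  slot_enc6 (fun i _ => slotOf_lt g i) hj

theorem slot_cd_lt (g : MN) : ∀ j < 24, slot (cd g) j < 48 := fun j hj => by
  rw [slot_cd g hj]; exact slotOf_lt g j

theorem smul_eightAt (g : MN) {j : ℕ} (hj : j < 24) :
    (g : Co0) • eightAt (pt j) = sp (slot (cd g) j) := by
  rw [slot_cd g hj]
  set σ := ((monoPart g).2 : Equiv.Perm GolayPt) with hσ
  set w := ((monoPart g).1 : GolayPt → ZMod 2) with hw
  have h := monoAut_eightAt (monoPart g) (pt j)
  rw [monoPart_spec] at h
  refine Subtype.ext (h.trans ?_)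
  show flipSign w (eightAt (σ (pt j))) = (sp (slotOf g j) : GolayPt → ℤ)
  have hs : slotOf g j = 2 * idx (σ (pt j)) + (w (σ (pt j))).val := rfl
  rw [hs]
  rcases (by decide : ∀ a : ZMod 2, a = 0 ∨ a = 1) (w (σ (pt j))) with e | e <;> rw [e]
  · rw [show (0 : ZMod 2).val = 0 from rfl, sp, if_pos (by omega), show (2 * idx (σ (pt j)) + 0) / 2 = idx (σ (pt j)) by omega,
      pt_idx]
    funext p
    simp only [flipSign, eightAt_apply]
    by_cases hp : p = σ (pt j)
    · subst hp; simp [e]
    · simp [hp]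
  · rw [show (1 : ZMod 2).val = 1 from rfl, sp, if_neg (by omega), show (2 * idx (σ (pt j)) + 1) / 2 = idx (σ (pt j)) by omega,
      pt_idx]
    funext p
    simp only [flipSign, eightAt_apply, AddSubgroup.coe_neg, Pi.neg_apply]
    by_cases hp : p = σ (pt j)
    · subst hp; simp [e]
    · simp [hp]

theorem smul_sp (g : MN) {x : ℕ} (hx : x < 48) : (g : Co0) • sp x = sp (img (cd g) x) := by
  unfold img
  have h := smul_eightAt g (j := x / 2) (by omega)
  rcases Nat.mod_two_eq_zero_or_one x with e | e <;> rw [e]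
  · rw [Nat.xor_zero, ← h, sp, if_pos e]
  · rw [sp_xor, ← h, sp, if_neg (by omega), smul_neg']

theorem cd_injective : Function.Injective cd := fun g h e => by
  refine Subtype.ext (eq_of_mat_eq fun p q => ?_)
  have hg := smul_eightAt g (idx_lt q)
  have hh := smul_eightAt h (idx_lt q)
  rw [e, ← hh, pt_idx] at hg
  show ((((g : Co0) • eightAt q : leechLattice)) : GolayPt → ℤ) p = _
  rw [hg]
  rfl

theorem cd_eq_iff {g : MN} {c : ℕ} (hc : enc6 (slot c) = c) (hlt : ∀ j < 24, slot c j < 48) :
    cd g = c ↔ ∀ j < 24, (g : Co0) • eightAt (pt j) = sp (slot c j) := by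
  refine ⟨fun e j hj => by rw [smul_eightAt g hj, e], fun h => ?_⟩
  rw [← hc]
  refine enc6_congr fun j hj => ?_
  have := (smul_eightAt g hj).symm.trans (h j hj)
  rw [← slot_cd g hj]
  exact sp_inj (slot_cd_lt g j hj) (hlt j hj) this

theorem cd_one : cd 1 = oneC := by
  refine enc6_congr fun j hj => ?_
  rw [← slot_cd 1 hj]
  refine sp_inj (slot_cd_lt 1 j hj) (by omega) ?_
  rw [← smul_eightAt 1 hj, OneMemClass.coe_one, one_smul, sp, if_pos (by omega), show 2 * j / 2 = j by omega]

theorem cd_mul (g h : MN) : cd (g * h) = mulC (cd g) (cd h) := by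
  refine enc6_congr fun j hj => ?_
  rw [← slot_cd _ hj]
  refine sp_inj (slot_cd_lt _ j hj) (img_lt (slot_cd_lt g) (slot_cd_lt h j hj)) ?_
  rw [← smul_eightAt _ hj, ← smul_sp g (slot_cd_lt h j hj), ← smul_eightAt h hj, Subgroup.coe_mul, mul_smul]

theorem negAut_mem : negAut ∈ monoGroup := by
  show cls ((negAut • eightAt none : leechLattice) : GolayPt → ℤ) = _
  rw [negAut_smul]
  exact cls_neg (eightAt none).2

/-- Negation as a monomial automorphism. -/
def negM : MN := ⟨negAut, negAut_mem⟩

theorem cd_neg_mul (g : MN) : cd (negM * g) = negC (cd g) := by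
  refine enc6_congr fun j hj => ?_
  rw [← slot_cd _ hj]
  refine sp_inj (slot_cd_lt _ j hj) (xor_one_lt (slot_cd_lt g j hj)) ?_
  rw [← smul_eightAt _ hj, sp_xor, ← smul_eightAt g hj, Subgroup.coe_mul, mul_smul]
  exact negAut_smul _

theorem cd_inv (g : MN) : cd g⁻¹ = invC (cd g) := by
  refine enc6_congr fun k hk => ?_
  rw [← slot_cd _ hk]
  unfold preImg
  have hx := slot_cd_lt g⁻¹ k hk
  have huniq : ∀ x < 48, img (cd g) x = 2 * k → x = slot (cd g⁻¹) k := fun x hx' e => by
    refine sp_inj hx' hx ?_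
    rw [← smul_eightAt g⁻¹ hk, show eightAt (pt k) = sp (2 * k) by
      rw [sp, if_pos (by omega), show 2 * k / 2 = k by omega], ← e, ← smul_sp g hx', ← mul_smul,
      InvMemClass.coe_inv, inv_mul_cancel, one_smul]
  have hex : img (cd g) (slot (cd g⁻¹) k) = 2 * k := by
    refine sp_inj (img_lt (slot_cd_lt g) hx) (by omega) ?_
    rw [← smul_sp g hx, ← smul_eightAt g⁻¹ hk, ← mul_smul, InvMemClass.coe_inv, mul_inv_cancel, one_smul, sp,
      if_pos (by omega), show 2 * k / 2 = k by omega]
  cases hfind : (List.range 48).find? (fun x => img (cd g) x == 2 * k) with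
  | none =>
    have := List.find?_eq_none.1 hfind _ (List.mem_range.2 hx)
    simp [hex] at this
  | some x =>
    rw [Option.getD_some]
    have hp := List.find?_some hfind
    exact (huniq x (List.mem_range.1 (List.mem_of_find?_eq_some hfind)) (beq_iff_eq.1 hp)).symm

/-- The code is that of some monomial automorphism. -/
def Val (c : ℕ) : Prop := ∃ g : MN, cd g = c

open Classical in
/-- The monomial automorphism with a given code. -/
noncomputable def el (c : ℕ) : MN := if h : Val c then h.choose else 1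

theorem cd_el {c : ℕ} (h : Val c) : cd (el c) = c := by
  rw [el, dif_pos h]
  exact h.choose_spec

theorem el_cd (g : MN) : el (cd g) = g := cd_injective (cd_el ⟨g, rfl⟩)

theorem val_cd (g : MN) : Val (cd g) := ⟨g, rfl⟩

theorem val_one : Val oneC := ⟨1, cd_one⟩

theorem el_one : el oneC = 1 := by rw [← cd_one, el_cd]

theorem Val.mul {a b : ℕ} (ha : Val a) (hb : Val b) : Val (mulC a b) := by
  obtain ⟨g, rfl⟩ := ha
  obtain ⟨h, rfl⟩ := hb
  exact ⟨g * h, cd_mul g h⟩

theorem el_mul {a b : ℕ} (ha : Val a) (hb : Val b) : el (mulC a b) = el a * el b := by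
  obtain ⟨g, rfl⟩ := ha
  obtain ⟨h, rfl⟩ := hb
  rw [← cd_mul, el_cd, el_cd, el_cd]

theorem Val.inv {a : ℕ} (ha : Val a) : Val (invC a) := by
  obtain ⟨g, rfl⟩ := ha
  exact ⟨g⁻¹, cd_inv g⟩

theorem el_inv {a : ℕ} (ha : Val a) : el (invC a) = (el a)⁻¹ := by
  obtain ⟨g, rfl⟩ := ha
  rw [← cd_inv, el_cd, el_cd]

theorem testBit_foldr {s : ℕ → ℕ} : ∀ (l : List ℕ) (b : ℕ),
    (l.foldr (fun j m => Nat.lor (Nat.shiftLeft (s j % 2) (s j / 2)) m) 0).testBit b = true ↔
      ∃ j ∈ l, s j % 2 = 1 ∧ s j / 2 = b := by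
  intro l
  induction l with
  | nil => intro b; simp
  | cons a l ih =>
    intro b
    rw [List.foldr_cons, show ∀ x y : ℕ, Nat.lor x y = x ||| y from fun _ _ => rfl, Nat.testBit_or, Bool.or_eq_true, ih,
      show Nat.shiftLeft (s a % 2) (s a / 2) = (s a % 2) <<< (s a / 2) from rfl, Nat.testBit_shiftLeft]
    constructor
    · rintro (h | ⟨j, hj, h⟩)
      · rcases Nat.mod_two_eq_zero_or_one (s a) with e | e
        · simp [e] at h
        · rw [e] at h
          simp only [Bool.and_eq_true, decide_eq_true_eq, Nat.testBit_one_eq_true_iff_self_eq_zero] at h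
          exact ⟨a, List.mem_cons_self, e, by omega⟩
      · exact ⟨j, List.mem_cons_of_mem _ hj, h⟩
    · rintro ⟨j, hj, e1, e2⟩
      rcases List.mem_cons.1 hj with rfl | hj
      · left
        simp [e1, e2]
      · exact Or.inr ⟨j, hj, e1, e2⟩

/-- A checked code is a monomial automorphism. -/
theorem val_of_validC {c : ℕ} (h : validC c = true) : Val c := by
  simp only [validC, Bool.and_eq_true, beq_iff_eq] at h
  obtain ⟨⟨hperm, hword⟩, henc⟩ := h
  set σ := ofList (permC c) with hσ
  have hL := toList_ofList hperm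
  have hidx : ∀ j < 24, idx ((σ : Equiv.Perm GolayPt) (pt j)) = slot c j / 2 := fun j hj => by
    rw [← toList_getD _ hj, hL, permC]
    simp [hj]
  have hlt : ∀ j < 24, slot c j < 48 := fun j hj => by
    have := idx_lt ((σ : Equiv.Perm GolayPt) (pt j))
    rw [hidx j hj] at this
    omega
  have hw : vec (maskC c) ∈ golayCode := by rw [← hword]; exact vec_word_mem _
  refine ⟨⟨monoAut (⟨vec (maskC c), hw⟩, σ), (mem_monoGroup_iff _).2 ⟨_, rfl⟩⟩, (cd_eq_iff henc hlt).2 fun j hj => ?_⟩
  refine Subtype.ext ((monoAut_eightAt _ _).trans ?_)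
  have hk : (σ : Equiv.Perm GolayPt) (pt j) = pt (slot c j / 2) := by rw [← hidx j hj, pt_idx]
  show flipSign (vec (maskC c)) (eightAt ((σ : Equiv.Perm GolayPt) (pt j))) = (sp (slot c j) : GolayPt → ℤ)
  rw [hk]
  have hbit : (maskC c).testBit (slot c j / 2) = true ↔ slot c j % 2 = 1 := by
    unfold maskC
    rw [testBit_foldr]
    refine ⟨?_, fun e => ⟨j, List.mem_range.2 hj, e, rfl⟩⟩
    rintro ⟨i, hi, e1, e2⟩
    rw [List.mem_range] at hi
    have : pt i = pt j := (σ : Equiv.Perm GolayPt).injective (idx_injective (by rw [hidx i hi, hidx j hj, e2]))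
    have hij : i = j := by rw [← idx_pt i hi, this, idx_pt j hj]
    rwa [← hij]
  have hv : vec (maskC c) (pt (slot c j / 2)) = if slot c j % 2 = 1 then 1 else 0 := by
    simp only [vec, idx_pt _ (show slot c j / 2 < 24 by have := hlt j hj; omega), hbit]
  funext p
  unfold sp
  rcases Nat.mod_two_eq_zero_or_one (slot c j) with e | e
  · rw [if_pos e]
    simp only [flipSign, eightAt_apply]
    by_cases hp : p = pt (slot c j / 2)
    · subst hp; simp [hv, e]
    · simp [hp]
  · rw [if_neg (by omega)]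
    simp only [flipSign, eightAt_apply, AddSubgroup.coe_neg, Pi.neg_apply]
    by_cases hp : p = pt (slot c j / 2)
    · subst hp; simp [hv, e]
    · simp [hp]

end CfsgLib.Co1Uniq
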