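import Cfsg.Agent.Co1Loc.Subspace
import Cfsg.Agent.Quad.SimpleOmega
import Cfsg.Agent.Quad.POmega
import Mathlib.GroupTheory.GroupAction.Quotient

/-!
The stabiliser of a maximal totally singular subspace and any element moving that subspace generate the
commutator subgroup of the orthogonal group.
-/

set_option autoImplicit false
set_option maxRecDepth 100000
set_option synthInstance.maxSize 4096
set_option linter.style.haveILetI false
set_option linter.unusedSectionVars false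

namespace CfsgLib.Co1Uniq.TopSpace

open CfsgLib CfsgLib.Quad CfsgLib.Co1Invol CfsgLib.Co1Golay CfsgLib.Co1Loc Subgroup
open Matrix

/-- The element with given mask and matrix. -/
noncomputable def pE (p : Fin 64 × GL4) : O8 := glHom p.2 * sgL (selL topLs p.1.val)

theorem sel_fix (k : Fin 64) {w : M8} (hw : inW w) : (sgL (selL topLs k.val)).1 w = w := by
  have h : ∀ i, (sgL (selL topLs k.val)).1 (xb i) = xb i := fun i => by
    rw [sgL_apply _ (topLs_sel _ k.2).1]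
    exact smL_val (topLs_sel _ k.2).2 ((sel_values _ k.2).1 i)
  conv_rhs => rw [inW_span hw]
  conv_lhs => rw [inW_span hw]
  simp only [map_sum, map_smul, h]

theorem pE_apply_inW (p : Fin 64 × GL4) {w : M8} (hw : inW w) : (pE p).1 w = (glHom p.2).1 w :=
  congrArg (glHom p.2).1 (sel_fix p.1 hw)

theorem pE_inW (p : Fin 64 × GL4) {w : M8} (hw : inW w) : inW ((pE p).1 w) := by
  rw [pE_apply_inW p hw]
  exact glHom_inW _ hw

theorem mask_inj : ∀ a < 64, ∀ b < 64, (∀ i j : Fin 4, (mBit a i j : ZMod 2) = mBit b i j) → a = b := by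
  decide +kernel

theorem pE_injective : Function.Injective pE := by
  rintro ⟨k, A⟩ ⟨k', A'⟩ h
  have hA : A = A' := glHom_injective_W fun w hw => by
    rw [← pE_apply_inW (k, A) hw, ← pE_apply_inW (k', A') hw, h]
  subst hA
  have hs : sgL (selL topLs k.val) = sgL (selL topLs k'.val) := mul_left_cancel h
  refine Prod.ext (Fin.ext (mask_inj _ k.2 _ k'.2 fun i j => ?_)) rfl
  have hv : ∀ k : Fin 64, bf ((sgL (selL topLs k.val)).1 (yb i)) (yb j) = (mBit k.val i j : ZMod 2) := fun k => by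
    rw [sgL_apply _ (topLs_sel _ k.2).1, bf_yb, encN_smL _ (topLs_sel _ k.2).2, (sel_values _ k.2).2]
  rw [← hv k, ← hv k', hs]

/-- A matrix with given first column. -/
def colMat (y : Fin 4 → ZMod 2) : Matrix (Fin 4) (Fin 4) (ZMod 2) :=
  Matrix.of fun i j =>
    if j = 0 then y i
    else if y 0 = 1 then (if i = j then 1 else 0)
    else if y 1 = 1 then (if i = ![1, 0, 2, 3] j then 1 else 0)
    else if y 2 = 1 then (if i = ![2, 0, 1, 3] j then 1 else 0)
    else (if i = ![3, 0, 1, 2] j then 1 else 0)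

theorem colMat_spec : ∀ y : Fin 4 → ZMod 2, y ≠ 0 →
    (colMat y).det ≠ 0 ∧ colMat y *ᵥ ![1, 0, 0, 0] = y := by decide +kernel

theorem exists_col {y : Fin 4 → ZMod 2} (hy : y ≠ 0) :
    ∃ A : GL4, (A : Matrix (Fin 4) (Fin 4) (ZMod 2)) *ᵥ ![1, 0, 0, 0] = y :=
  ⟨Matrix.GeneralLinearGroup.mkOfDetNeZero (colMat y) (colMat_spec y hy).1, (colMat_spec y hy).2⟩

theorem base_coords : (e0 : M8) ∘ Sum.inl = ![1, 0, 0, 0] ∧ (e0 : M8) ∘ Sum.inr = 0 ∧
    (f0 : M8) ∘ Sum.inl = 0 ∧ (f0 : M8) ∘ Sum.inr = ![1, 0, 0, 0] := ⟨rfl, rfl, rfl, rfl⟩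

theorem exists_gl_e0 {w : M8} (hw : inW w) (h0 : w ≠ 0) : ∃ A : GL4, (glHom A).1 e0 = w := by
  have hy : w ∘ Sum.inl ≠ 0 := fun h => h0 (funext fun i => i.casesOn (congrFun h) hw)
  obtain ⟨A, hA⟩ := exists_col hy
  refine ⟨A, ?_⟩
  rw [glHom_apply, glFun, base_coords.1, base_coords.2.1, hA, Matrix.mulVec_zero]
  exact funext fun i => i.casesOn (fun _ => rfl) fun j => (hw j).symm

theorem above_f0 : ∀ u : M8, qf u = 0 → u ∘ Sum.inr = (![1, 0, 0, 0] : Fin 4 → ZMod 2) →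
    ∃ k : Fin 64, sLN (selL topLs k.val) (encN f0) = encN u := by decide +kernel

theorem exists_pE_f0 {v : M8} (hv : qf v = 0) (hW : ¬ inW v) : ∃ p, (pE p).1 f0 = v := by
  obtain ⟨A, hA⟩ := exists_col (y := v ∘ Sum.inr) fun h => hW fun i => congrFun h i
  have h1 : (A : Matrix (Fin 4) (Fin 4) (ZMod 2))ᵀ * ((A⁻¹ : GL4) : Matrix (Fin 4) (Fin 4) (ZMod 2))ᵀ = 1 := by
    rw [← Matrix.transpose_mul, ← Units.val_mul, inv_mul_cancel, Units.val_one, Matrix.transpose_one]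
  have h2 : ((A⁻¹ : GL4) : Matrix (Fin 4) (Fin 4) (ZMod 2))ᵀ * (A : Matrix (Fin 4) (Fin 4) (ZMod 2))ᵀ = 1 := by
    rw [← Matrix.transpose_mul, ← Units.val_mul, mul_inv_cancel, Units.val_one, Matrix.transpose_one]
  let T : GL4 := ⟨(A : Matrix (Fin 4) (Fin 4) (ZMod 2))ᵀ, ((A⁻¹ : GL4) : Matrix (Fin 4) (Fin 4) (ZMod 2))ᵀ, h1, h2⟩
  have hu : (glFun T v) ∘ Sum.inr = (![1, 0, 0, 0] : Fin 4 → ZMod 2) := by
    rw [glFun, Sum.elim_comp_inr, ← hA, Matrix.mulVec_mulVec]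
    show ((((A⁻¹ : GL4) : Matrix (Fin 4) (Fin 4) (ZMod 2))ᵀ)ᵀ * (A : Matrix (Fin 4) (Fin 4) (ZMod 2))) *ᵥ _ = _
    rw [Matrix.transpose_transpose, ← Units.val_mul, inv_mul_cancel, Units.val_one, Matrix.one_mulVec]
  obtain ⟨k, hk⟩ := above_f0 _ (by rw [qf_glFun, hv]) hu
  refine ⟨(k, T⁻¹), ?_⟩
  show glFun T⁻¹ ((sgL (selL topLs k.val)).1 f0) = v
  rw [sgL_apply _ (topLs_sel _ k.2).1, smL_val (topLs_sel _ k.2).2 hk, ← glFun_mul, inv_mul_cancel, glFun_one]

theorem card_sing : Fintype.card {v : M8 // qf v = 0 ∧ v ≠ 0} = 135 ∧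
    Fintype.card {w : M8 // inW w ∧ w ≠ 0} = 15 := by decide +kernel

theorem simple_omega8 : IsSimpleGroup ↥(commutator (oGroup q8)) := by
  haveI := isSimpleGroup_omega (Q := q8) nondeg8 (by simp)
  have hc : Subgroup.center ↥(commutator (oGroup q8)) = ⊥ := Subgroup.eq_bot_of_card_eq _
    (card_center_omega_one nondeg8 (by simp) (Or.inl (by decide)))
  exact ((QuotientGroup.quotientMulEquivOfEq hc).trans QuotientGroup.quotientBot).symm.isSimpleGroup

/-- A simple group has no proper subgroup of index at most fifteen unless its order divides `15!`. -/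
theorem eq_top_of_index_le {H : Type*} [Group H] [Finite H] [IsSimpleGroup H]
    (hH : ¬ Nat.card H ∣ (15).factorial) (K : Subgroup H) (hK : K.index ≤ 15) : K = ⊤ := by
  haveI : K.normalCore.Normal := Subgroup.normalCore_normal K
  rcases (inferInstance : K.normalCore.Normal).eq_bot_or_eq_top with h | h
  · exfalso
    refine hH (dvd_trans ?_ (Nat.factorial_dvd_factorial hK))
    rw [Subgroup.normalCore_eq_ker] at h
    have := Subgroup.card_dvd_of_injective _ ((MonoidHom.ker_eq_bot_iff _).1 h)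
    rwa [Nat.card_perm, ← Subgroup.index_eq_card] at this
  · exact eq_top_iff.2 (h ▸ K.normalCore_le)

/-- A subgroup containing the stabiliser of the subspace and an element moving it is everything. -/
theorem omega_le {Γ : Subgroup O8} (hΓ : Γ ≤ commutator (oGroup q8)) (hP : ∀ p, pE p ∈ Γ) {g : O8} (hg : g ∈ Γ)
    (hmove : ∃ w, inW w ∧ ¬ inW (g.1 w)) : commutator (oGroup q8) ≤ Γ := by
  classical
  have hcol : ∀ w : M8, inW w → w ≠ 0 → ∃ t ∈ Γ, t.1 e0 = w := fun w hw h0 => by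
    obtain ⟨A, hA⟩ := exists_gl_e0 hw h0
    refine ⟨pE (0, A), hP _, ?_⟩
    rw [pE_apply_inW _ inW_facts.1, hA]
  obtain ⟨w, hw, hgw⟩ := hmove
  have hw0 : w ≠ 0 := fun h => hgw (by rw [h, map_zero]; exact inW_facts.2.2)
  obtain ⟨t, ht, htw⟩ := hcol w hw hw0
  obtain ⟨p, hp⟩ := exists_pE_f0 (v := g.1 w) (by rw [qf_oGroup, inW_sing _ hw]) hgw
  have htrans : ∀ v : {v : M8 // qf v = 0 ∧ v ≠ 0}, ∃ γ ∈ Γ, γ.1 e0 = v.1 := by
    rintro ⟨v, hv, hv0⟩
    by_cases hvW : inW v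
    · exact hcol v hvW hv0
    obtain ⟨p', hp'⟩ := exists_pE_f0 hv hvW
    refine ⟨pE p' * (pE p)⁻¹ * g * t, mul_mem (mul_mem (mul_mem (hP _) (inv_mem (hP _))) hg) ht, ?_⟩
    show (pE p').1 ((pE p).1.symm (g.1 (t.1 e0))) = v
    rw [htw, ← hp, LinearEquiv.symm_apply_apply, hp']
  choose γ hγ hγe using htrans
  have hne : ∀ q, (pE q).1 e0 ≠ 0 := fun q h => e0_ne ((pE q).1.map_eq_zero_iff.1 h)
  choose τ hτ hτe using fun w : {w : M8 // inW w ∧ w ≠ 0} => hcol w.1 w.2.1 w.2.2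
  let f : (Fin 64 × GL4) × {v : M8 // qf v = 0 ∧ v ≠ 0} → Γ × {w : M8 // inW w ∧ w ≠ 0} := fun x =>
    (⟨γ x.2 * (τ ⟨(pE x.1).1 e0, pE_inW _ inW_facts.1, hne _⟩)⁻¹ * pE x.1,
      mul_mem (mul_mem (hγ _) (inv_mem (hτ _))) (hP _)⟩, ⟨(pE x.1).1 e0, pE_inW _ inW_facts.1, hne _⟩)
  have hf : Function.Injective f := by
    rintro ⟨q, v⟩ ⟨q', v'⟩ e
    obtain ⟨e1, e2⟩ := Prod.ext_iff.1 e
    have hval : ∀ x, (f x).1.1.1 e0 = x.2.1 := fun x => by
      show (γ x.2).1 ((τ _).1.symm ((pE x.1).1 e0)) = _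
      have := hτe ⟨(pE x.1).1 e0, pE_inW _ inW_facts.1, hne _⟩
      conv_lhs => arg 2; arg 2; rw [show (pE x.1).1 e0 = _ from this.symm]
      rw [LinearEquiv.symm_apply_apply, hγe]
    have hv : v = v' := Subtype.ext (by rw [← hval (q, v), ← hval (q', v'), e1])
    subst hv
    have e1' : γ v * (τ ⟨(pE q).1 e0, pE_inW _ inW_facts.1, hne _⟩)⁻¹ * pE q =
        γ v * (τ ⟨(pE q').1 e0, pE_inW _ inW_facts.1, hne _⟩)⁻¹ * pE q' := congrArg Subtype.val e1
    have e2' : (⟨(pE q).1 e0, pE_inW _ inW_facts.1, hne _⟩ : {w : M8 // inW w ∧ w ≠ 0}) =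
        ⟨(pE q').1 e0, pE_inW _ inW_facts.1, hne _⟩ := e2
    rw [e2'] at e1'
    rw [pE_injective (mul_left_cancel e1')]
  have hcard := Nat.card_le_card_of_injective f hf
  rw [Nat.card_prod, Nat.card_prod, Nat.card_prod, Nat.card_fin, card_GL4, Nat.card_eq_fintype_card,
    Nat.card_eq_fintype_card (α := {w : M8 // inW w ∧ w ≠ 0}), card_sing.1, card_sing.2] at hcard
  haveI := simple_omega8
  have hidx : (Γ.subgroupOf (commutator (oGroup q8))).index ≤ 15 := by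
    have h := (Γ.subgroupOf (commutator (oGroup q8))).index_mul_card
    rw [Nat.card_congr (Subgroup.subgroupOfEquivOfLe hΓ).toEquiv, card_omega8] at h
    by_contra hlt
    have := Nat.mul_le_mul_right (Nat.card Γ) (Nat.succ_le_of_lt (Nat.lt_of_not_le hlt))
    omega
  have htop := eq_top_of_index_le (H := ↥(commutator (oGroup q8))) (by rw [card_omega8]; decide +kernel) _ hidx
  exact Subgroup.subgroupOf_eq_top.1 htop

end CfsgLib.Co1Uniq.TopSpace
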