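import Cfsg.Agent.Co1Uniq.WeakCount
import Cfsg.Agent.Co1Uniq.TopSpace
import Cfsg.Agent.SectRankFour.Module
import Cfsg.Agent.LocalB.FStar
import Cfsg.Agent.ZStar.Final

/-!
A constrained involution centraliser of type `2^(1+8).Ω₈⁺(2)` in a group without odd core and centre: the
generalised Fitting subgroup is the extraspecial group and the involution is not weakly closed in it.
-/

set_option autoImplicit false
set_option maxRecDepth 100000
set_option synthInstance.maxSize 4096
set_option linter.style.haveILetI false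
set_option linter.unusedSectionVars false

universe u

namespace CfsgLib.Co1Uniq

open CfsgLib CfsgLib.Quad CfsgLib.Co1Invol Subgroup

variable {G : Type u} [Group G] [Finite G]

/-- An extension of a two-group by the simple group `Ω₈⁺(2)` has no odd core. -/
theorem oddCore_eq_bot {C : Type u} [Group C] [Finite C] {Q : Subgroup C} [Q.Normal] (hQ : IsPGroup 2 Q)
    (e : C ⧸ Q ≃* Cfsg.Omega (ZMod 2) (Cfsg.quadFormPlus 4 (ZMod 2))) : Cfsg.oddCore C = ⊥ := by
  let e' : C ⧸ Q ≃* ↥(commutator (oGroup q8)) := e.trans (by rw [← plusQ_coe]; exact omegaEquiv _)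
  haveI := TopSpace.simple_omega8
  haveI : IsSimpleGroup (C ⧸ Q) := e'.isSimpleGroup
  obtain ⟨hn, hco⟩ := CfsgLib.Solvable.pPrimeCore_spec (G := C) 2
  have hodd : Odd (Nat.card (Cfsg.oddCore C)) := Nat.coprime_two_right.1 hco
  haveI := hn.map (QuotientGroup.mk' Q) (QuotientGroup.mk'_surjective Q)
  have hle : Cfsg.oddCore C ≤ Q := by
    rcases Subgroup.Normal.eq_bot_or_eq_top
      (inferInstance : ((Cfsg.pPrimeCore 2 C).map (QuotientGroup.mk' Q)).Normal) with h | h
    · exact (Subgroup.map_eq_bot_iff _).1 h |>.trans (QuotientGroup.ker_mk' Q).le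
    · exfalso
      have hd := Subgroup.card_map_dvd (Cfsg.pPrimeCore 2 C) (QuotientGroup.mk' Q)
      rw [h, Subgroup.card_top, Nat.card_congr e'.toEquiv, card_omega8] at hd
      exact Nat.not_even_iff_odd.2 (hodd.of_dvd_nat hd) (by decide)
  obtain ⟨n, hn2⟩ := IsPGroup.iff_card.1 hQ
  have hd := Subgroup.card_dvd_of_le hle
  rw [hn2] at hd
  obtain ⟨m, -, hm⟩ := (Nat.dvd_prime_pow Nat.prime_two).1 hd
  refine Subgroup.card_eq_one.1 ?_
  rcases m with _ | m
  · exact hm
  · exact absurd hodd (by rw [hm, Nat.not_odd_iff_even]; exact (Nat.even_pow).2 ⟨even_two, by omega⟩)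

/-- The hypotheses on the centraliser of the characterisation follow from the constrained ones. -/
theorem hyps_of_constrained (hO : Cfsg.oddCore G = ⊥) (hZ : center G = ⊥) (t : G) (ht : orderOf t = 2)
    (hcon : Cfsg.IsPConstrained 2 (centralizer ({t} : Set G)))
    [(Cfsg.pCore 2 (centralizer ({t} : Set G))).Normal]
    (hQ : Cfsg.IsExtraspecial 2 (Cfsg.pCore 2 (centralizer ({t} : Set G))))
    (hcard : Nat.card (Cfsg.pCore 2 (centralizer ({t} : Set G))) = 2 ^ 9)
    (e : (centralizer ({t} : Set G)) ⧸ Cfsg.pCore 2 (centralizer ({t} : Set G)) ≃*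
      Cfsg.Omega (ZMod 2) (Cfsg.quadFormPlus 4 (ZMod 2))) :
    Cfsg.generalizedFittingSubgroup (centralizer ({t} : Set G)) = Cfsg.pCore 2 (centralizer ({t} : Set G)) ∧
      ∃ g : G, (∃ hq : g * t * g⁻¹ ∈ centralizer ({t} : Set G), (⟨g * t * g⁻¹, hq⟩ : centralizer ({t} : Set G)) ∈
        Cfsg.pCore 2 (centralizer ({t} : Set G))) ∧ g * t * g⁻¹ ≠ t := by
  haveI : Fact (Nat.Prime 2) := ⟨Nat.prime_two⟩
  have hOC := oddCore_eq_bot (CfsgLib.Solvable.isPGroup_pCore 2) e
  have hF := LocalB.fstar_eq_pCore (SectRankFour.centralizer_pCore_le hcon hOC)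
  refine ⟨hF, ?_⟩
  obtain ⟨D, hDQ⟩ := Co1Invol.exists_dat ht _ hF hQ hcard e
  by_contra hno
  push Not at hno
  have hW : Weak.WC D := by
    intro g hg
    rw [hDQ] at hg
    obtain ⟨⟨x, hx⟩, hxQ, hxg⟩ := hg
    have hx' : x = g * t * g⁻¹ := hxg
    subst hx'
    exact hno g ⟨hx, hxQ⟩
  have hiso : Cfsg.IsIsolatedInvolution t := ⟨ht, fun g hg => Weak.isolated hW hg.eq.symm⟩
  obtain ⟨N, hN, hodd, hcomm⟩ := CfsgLib.ZStar.zstar hiso
  have hNbot : N = ⊥ := le_bot_iff.1 (hO ▸ CfsgLib.Solvable.le_pPrimeCore 2 hN (Nat.coprime_two_right.2 hodd))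
  subst hNbot
  have htc : t ∈ center G := mem_center_iff.2 fun g => by
    have h : t * g * t⁻¹ * g⁻¹ = 1 := mem_bot.1 (hcomm g)
    calc g * t = (t * g * t⁻¹ * g⁻¹) * (g * t) := by rw [h, one_mul]
      _ = t * g := by group
  rw [hZ, mem_bot] at htc
  rw [htc, orderOf_one] at ht
  norm_num at ht

end CfsgLib.Co1Uniq
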