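import Cfsg.Agent.Co1Uniq.Bound

/-!
Checks for the cover of the labels by orbits of the stabilisers, straight line programs for chains, and keys
separating the labels.
-/

set_option autoImplicit false
set_option maxRecDepth 100000
set_option linter.style.haveILetI false

namespace CfsgLib.Co1Uniq

open Cfsg CfsgLib CfsgLib.Golay CfsgLib.Leech

variable {G : Type*} [Group G] {R : Base G} {g : ℕ → G}

/-- A label of a packed table of codes, sixty-four to a number. -/
def nrAt (T : List ℕ) (e : ℕ) : ℕ := (T.getD (e / 64) 0 >>> (144 * (e % 64))) % 2 ^ 144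

/-- Add the seeds to a set of labels. -/
def seedStep (nr : ℕ → ℕ) (F : List Fact) (k K : ℕ) : List (ℕ × ℕ) → ℕ → Option ℕ
  | [], B => some B
  | (e, i) :: l, B =>
    match F[i]? with
    | some f => if f.k == k && Nat.blt f.m K && f.c == nr e then seedStep nr F k K l (Nat.lor B (Nat.shiftLeft 1 e))
      else none
    | none => none

/-- The match of a move. -/
def moveOK (nr : ℕ → ℕ) (h e p y : ℕ) : Bool :=
  Nat.blt y 48 && ((colS 0).map fun x => img h (img (nr p) x)).isPerm ((colS y).map (img (nr e)))

/-- Add the moves to a set of labels. -/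
def moveStep (nr : ℕ → ℕ) (P : List SPair) (k : ℕ) : List ℕ → ℕ → Option ℕ
  | [], B => some B
  | v :: l, B =>
    match P[v / 16777216 % 128]? with
    | some q =>
      if q.k == k && B.testBit (v / 4096 % 4096) &&
          moveOK nr q.h (v % 4096) (v / 4096 % 4096) (v / 2147483648) then
        moveStep nr P k l (Nat.lor B (Nat.shiftLeft 1 (v % 4096)))
      else none
    | none => none

/-- An option has the given value. -/
def optIs : Option ℕ → ℕ → Bool
  | some a, b => a == b
  | none, _ => false

theorem eq_of_optIs {o : Option ℕ} {b : ℕ} (h : optIs o b = true) : o = some b := by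
  cases o with
  | none => simp [optIs] at h
  | some a => simpa [optIs] using h

/-- The translates by the labels of a set stay in the union. -/
def Covers (R : Base G) (g : ℕ → G) (nr : ℕ → ℕ) (K k B : ℕ) : Prop :=
  ∀ e, B.testBit e = true → Stays R g K k (el (nr e))

theorem covers_zero {nr : ℕ → ℕ} {K k : ℕ} : Covers R g nr K k 0 := fun e he => by simp at he

theorem Covers.insert {nr : ℕ → ℕ} {K k B e : ℕ} (h : Covers R g nr K k B) (he : Stays R g K k (el (nr e))) :
    Covers R g nr K k (Nat.lor B (Nat.shiftLeft 1 e)) := fun i hi => by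
  rw [show Nat.lor B (Nat.shiftLeft 1 e) = B ||| (1 <<< e) from rfl, Nat.testBit_or, Bool.or_eq_true] at hi
  rcases hi with hi | hi
  · exact h i hi
  · rw [Nat.one_shiftLeft, Nat.testBit_two_pow, decide_eq_true_eq] at hi
    exact hi ▸ he

theorem seedStep_spec {nr : ℕ → ℕ} {F : List Fact} (hF : ∀ f ∈ F, f.Holds R g) {k K : ℕ} :
    ∀ (l : List (ℕ × ℕ)) (B B' : ℕ), seedStep nr F k K l B = some B' → Covers R g nr K k B →
      Covers R g nr K k B' := by
  intro l
  induction l with
  | nil => intro B B' e h; exact Option.some.inj e ▸ h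
  | cons q l ih =>
    intro B B' e h
    obtain ⟨e0, i⟩ := q
    simp only [seedStep] at e
    split at e
    · rename_i f hf
      split_ifs at e with hok
      simp only [Bool.and_eq_true, beq_iff_eq, Nat.blt_eq] at hok
      refine ih _ _ e (h.insert ?_)
      have hs := stays_of_fact (hF f (List.mem_of_getElem? hf)) hok.1.2
      rwa [hok.1.1, hok.2] at hs
    · exact absurd e (by simp)

theorem moveStep_spec {nr : ℕ → ℕ} (hnr : ∀ e, Val (nr e)) {P : List SPair} (hP : ∀ q ∈ P, q.Holds R g) {k K : ℕ} :
    ∀ (l : List ℕ) (B B' : ℕ), moveStep nr P k l B = some B' → Covers R g nr K k B →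
      Covers R g nr K k B' := by
  intro l
  induction l with
  | nil => intro B B' e h; exact Option.some.inj e ▸ h
  | cons v l ih =>
    intro B B' e h
    simp only [moveStep] at e
    split at e
    · rename_i q hq
      split_ifs at e with hok
      simp only [moveOK, Bool.and_eq_true, beq_iff_eq, Nat.blt_eq] at hok
      obtain ⟨⟨hk, hB⟩, hy, hperm⟩ := hok
      refine ih _ _ e (h.insert ?_)
      have hqH := hP q (List.mem_of_getElem? hq)
      have hcd : cd (el q.h * el (nr (v / 4096 % 4096))) = mulC q.h (nr (v / 4096 % 4096)) := by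
        rw [cd_mul, cd_el hqH.2.1, cd_el (hnr _)]
      have himg : (colS 0).map (img (cd (el q.h * el (nr (v / 4096 % 4096))))) =
          (colS 0).map fun x => img q.h (img (nr (v / 4096 % 4096)) x) := by
        refine List.map_congr_left fun x hx => ?_
        have hx48 := (col_check 0 (by norm_num)).1 x hx
        have hlt := slot_cd_lt (el (nr (v / 4096 % 4096)))
        refine sp_inj (img_lt (slot_cd_lt _) hx48) ?_ ?_
        · rw [← cd_el hqH.2.1]
          refine img_lt (slot_cd_lt _) ?_
          rw [← cd_el (hnr (v / 4096 % 4096))]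
          exact img_lt hlt hx48
        · rw [← smul_sp _ hx48, Subgroup.coe_mul, mul_smul, smul_sp _ hx48, smul_sp _ (img_lt hlt hx48),
            cd_el hqH.2.1, cd_el (hnr _)]
      have hCl : Cl (el q.h * el (nr (v / 4096 % 4096))) = Cl (el (nr (v % 4096))) := by
        refine Cl_of_match (x := 0) (y := v / 2147483648) (by norm_num) hy ?_
        rw [himg, cd_el (hnr _)]
        exact hperm
      exact stays_of_Cl hCl.symm (stays_of_mem (hk ▸ mem_stabN_of_pair hqH) (h _ hB))
    · exact absurd e (by simp)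

/-- Run a straight line program on codes; an entry is a product or a quotient of earlier values. -/
def slpC : List (ℕ × ℕ × ℕ) → List ℕ → List ℕ
  | [], acc => acc
  | (a, b, iv) :: l, acc =>
    slpC l (acc ++ [mulC (acc.getD a oneC) (if iv == 1 then invC (acc.getD b oneC) else acc.getD b oneC)])

theorem slpC_mem {H : Subgroup MN} : ∀ (l : List (ℕ × ℕ × ℕ)) (acc : List ℕ),
    (∀ c ∈ acc, Val c ∧ el c ∈ H) → ∀ c ∈ slpC l acc, Val c ∧ el c ∈ H := by
  intro l
  induction l with
  | nil => intro acc h; exact h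
  | cons q l ih =>
    obtain ⟨a, b, iv⟩ := q
    intro acc h
    have hget : ∀ i, Val (acc.getD i oneC) ∧ el (acc.getD i oneC) ∈ H := fun i => by
      rcases lt_or_ge i acc.length with hi | hi
      · rw [List.getD_eq_getElem _ _ hi]; exact h _ (List.getElem_mem _)
      · rw [List.getD_eq_default _ _ hi]; exact ⟨val_one, el_one ▸ one_mem H⟩
    refine ih _ fun c hc => ?_
    rcases List.mem_append.1 hc with hc | hc
    · exact h c hc
    · rw [List.mem_singleton] at hc
      rw [hc]
      obtain ⟨va, ma⟩ := hget a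
      obtain ⟨vb, mb⟩ := hget b
      by_cases hiv : (iv == 1) = true
      · rw [if_pos hiv]
        exact ⟨va.mul vb.inv, by rw [el_mul va vb.inv, el_inv vb]; exact mul_mem ma (inv_mem mb)⟩
      · rw [if_neg hiv]
        exact ⟨va.mul vb, by rw [el_mul va vb]; exact mul_mem ma mb⟩

/-- The levels of a chain from the values of a program. -/
def mkLevels (vals : List ℕ) (lv : List (ℕ × List ℕ)) : List Level :=
  lv.map fun q => ⟨q.1, q.2.map fun i => vals.getD i oneC⟩

theorem mkLevels_mem {H : Subgroup MN} {vals : List ℕ} (h : ∀ c ∈ vals, Val c ∧ el c ∈ H)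
    (lv : List (ℕ × List ℕ)) : ∀ l ∈ mkLevels vals lv, ∀ c ∈ l.els, Val c ∧ el c ∈ H := by
  intro l hl c hc
  obtain ⟨q, -, rfl⟩ := List.mem_map.1 hl
  obtain ⟨i, -, rfl⟩ := List.mem_map.1 hc
  rcases lt_or_ge i vals.length with hi | hi
  · rw [List.getD_eq_getElem _ _ hi]; exact h _ (List.getElem_mem _)
  · rw [List.getD_eq_default _ _ hi]; exact ⟨val_one, el_one ▸ one_mem H⟩

/-- The set of signed points of a list. -/
def maskL (l : List ℕ) : ℕ := l.foldr (fun x m => Nat.lor (Nat.shiftLeft 1 x) m) 0

/-- The smallest of a list, with a bound. -/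
def minL (l : List ℕ) : ℕ := l.foldr Nat.min (2 ^ 48)

/-- The key of the translate by a code. -/
def keyC (c : ℕ) : ℕ := minL ((List.range 48).map fun y => maskL ((colS y).map (img c)))

theorem testBit_maskL : ∀ (l : List ℕ) (x : ℕ), (maskL l).testBit x = true ↔ x ∈ l
  | [], x => by simp [maskL]
  | a :: l, x => by
    show (Nat.shiftLeft 1 a ||| maskL l).testBit x = true ↔ _
    rw [show Nat.shiftLeft 1 a = 1 <<< a from rfl, Nat.testBit_or, Bool.or_eq_true, testBit_maskL l x,
      Nat.one_shiftLeft, Nat.testBit_two_pow, decide_eq_true_eq, List.mem_cons, eq_comm]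

theorem minL_le : ∀ {l : List ℕ} {x : ℕ}, x ∈ l → minL l ≤ x
  | [], _, h => by simp at h
  | a :: l, x, h => by
    rcases List.mem_cons.1 h with rfl | h
    · exact Nat.min_le_left _ _
    · exact le_trans (Nat.min_le_right _ _) (minL_le h)

theorem minL_mem_or : ∀ l : List ℕ, minL l ∈ l ∨ minL l = 2 ^ 48
  | [] => Or.inr rfl
  | a :: l => by
    show Nat.min a (minL l) ∈ a :: l ∨ Nat.min a (minL l) = 2 ^ 48
    rcases Nat.le_total a (minL l) with h | h
    · exact Or.inl (by rw [show Nat.min a (minL l) = a from Nat.min_eq_left h]; exact List.mem_cons_self)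
    · rw [show Nat.min a (minL l) = minL l from Nat.min_eq_right h]
      exact (minL_mem_or l).imp (List.mem_cons_of_mem _) id

theorem minL_le_of_subset {l m : List ℕ} (h : ∀ x ∈ m, x ∈ l) (hl : ∀ x ∈ l, x ≤ 2 ^ 48) :
    minL l ≤ minL m := by
  rcases minL_mem_or m with h' | h'
  · exact minL_le (h _ h')
  · rw [h']
    rcases minL_mem_or l with h'' | h''
    · exact hl _ h''
    · exact le_of_eq h''

theorem colS_nodup : ∀ y < 48, ((colS y).map fun x => x / 2).Nodup := by decide +kernel

theorem image_nodup (a : MN) {y : ℕ} (hy : y < 48) :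
    (((colS y).map (img (cd a))).map fun x => x / 2).Nodup := by
  rw [List.map_map]
  refine List.Nodup.map_on (fun x hx x' hx' e => ?_) (colS_nodup y hy).of_map
  have hlt := (col_check y hy).1
  have hinj := List.inj_on_of_nodup_map (colS_nodup y hy) hx hx'
  refine hinj ?_
  have h1 : img (cd a) x = img (cd a) x' ∨ img (cd a) x = img (cd a) x' ^^^ 1 := by
    have e' : img (cd a) x / 2 = img (cd a) x' / 2 := e
    have h2 := Nat.xor_div_two (a := img (cd a) x') (b := 1)
    have h3 := Nat.xor_mod_two_eq_one (a := img (cd a) x') (b := 1)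
    rw [show (1 : ℕ) / 2 = 0 from rfl, Nat.xor_zero] at h2
    rcases Nat.mod_two_eq_zero_or_one (img (cd a) x') with h4 | h4 <;>
      rcases Nat.mod_two_eq_zero_or_one (img (cd a) x) with h5 | h5 <;> omega
  rcases h1 with h1 | h1
  · exact congrArg (· / 2) (sp_inj (hlt x hx) (hlt x' hx') (MulAction.injective (a : Co0)
      (show (a : Co0) • sp x = (a : Co0) • sp x' by rw [smul_sp a (hlt x hx), smul_sp a (hlt x' hx'), h1])))
  · have h2 : sp x = sp (x' ^^^ 1) := MulAction.injective (a : Co0) (show (a : Co0) • sp x = (a : Co0) • sp (x' ^^^ 1) by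
      rw [sp_xor x', smul_neg', smul_sp a (hlt x hx), smul_sp a (hlt x' hx'), h1, sp_xor])
    rw [sp_inj (hlt x hx) (xor_one_lt (hlt x' hx')) h2, Nat.xor_div_two, show (1 : ℕ) / 2 = 0 from rfl, Nat.xor_zero]

theorem mem_iff_coord : ∀ {l : List ℕ}, (l.map fun x => x / 2).Nodup → (∀ x ∈ l, x < 48) → ∀ {x : ℕ}, x < 48 →
    (x ∈ l ↔ (vsum l : GolayPt → ℤ) (pt (x / 2)) = spF x (pt (x / 2))) := by
  intro l
  induction l with
  | nil =>
    intro _ _ x _
    simp only [List.not_mem_nil, false_iff, coe_vsum, List.map_nil, List.sum_nil, spF, if_true]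
    split <;> norm_num
  | cons a l ih =>
    intro hnd hlt x hx
    rw [List.map_cons, List.nodup_cons] at hnd
    have hlt' := fun y hy => hlt y (List.mem_cons_of_mem _ hy)
    have ha := hlt a List.mem_cons_self
    rw [coe_vsum, List.map_cons, List.sum_cons, ← coe_vsum]
    by_cases hp : x / 2 = a / 2
    · have hno : (vsum l : GolayPt → ℤ) (pt (x / 2)) = 0 := by
        rw [coe_vsum]
        refine List.sum_eq_zero fun z hz => ?_
        obtain ⟨w, hw, rfl⟩ := List.mem_map.1 hz
        rw [spF, if_neg]
        intro h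
        apply hnd.1
        rw [← hp, ← idx_pt (x / 2) (by omega), h, idx_pt _ (by have := hlt' w hw; omega)]
        exact List.mem_map.2 ⟨w, hw, rfl⟩
      rw [hno, add_zero, List.mem_cons]
      constructor
      · rintro (rfl | h)
        · rfl
        · exact absurd (List.mem_map.2 ⟨x, h, rfl⟩) (hp ▸ hnd.1)
      · intro h
        left
        simp only [spF, hp, if_true] at h
        rcases Nat.mod_two_eq_zero_or_one x with e | e <;> rcases Nat.mod_two_eq_zero_or_one a with e' | e' <;>
          simp [e, e'] at h <;> omega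
    · have hne : pt (x / 2) ≠ pt (a / 2) := fun h => hp (by
        rw [← idx_pt (x / 2) (by omega), h, idx_pt _ (by omega)])
      rw [show spF a (pt (x / 2)) = 0 by rw [spF, if_neg hne], zero_add, List.mem_cons, ← ih hnd.2 hlt' hx]
      exact ⟨fun h => h.resolve_left fun e => hp (by rw [e]), Or.inr⟩

theorem maskL_le {l : List ℕ} (h : ∀ x ∈ l, x < 48) : maskL l ≤ 2 ^ 48 := by
  refine le_of_lt (Nat.lt_pow_two_of_testBit _ fun i hi => ?_)
  rw [Bool.eq_false_iff]
  intro h'
  have := h i ((testBit_maskL l i).1 h')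
  omega

theorem keyC_le {a b : MN} (m : MN) (h : (b : Co0) * xiAut = (a : Co0) * xiAut * (m : Co0)) :
    keyC (cd a) ≤ keyC (cd b) := by
  have hlta : ∀ y < 48, ∀ x ∈ (colS y).map (img (cd a)), x < 48 := fun y hy x hx => by
    obtain ⟨z, hz, rfl⟩ := List.mem_map.1 hx
    exact img_lt (slot_cd_lt a) ((col_check y hy).1 z hz)
  have hltb : ∀ y < 48, ∀ x ∈ (colS y).map (img (cd b)), x < 48 := fun y hy x hx => by
    obtain ⟨z, hz, rfl⟩ := List.mem_map.1 hx
    exact img_lt (slot_cd_lt b) ((col_check y hy).1 z hz)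
  refine minL_le_of_subset (fun x hx => ?_) fun x hx => ?_
  · obtain ⟨y, hy, rfl⟩ := List.mem_map.1 hx
    rw [List.mem_range] at hy
    set y' := img (cd m) y with hy'
    have hy48 : y' < 48 := img_lt (slot_cd_lt m) hy
    refine List.mem_map.2 ⟨y', List.mem_range.2 hy48, ?_⟩
    have hv : vsum ((colS y).map (img (cd b))) = vsum ((colS y').map (img (cd a))) := by
      rw [← smul_vsum b _ (col_check y hy).1, ← smul_vsum a _ (col_check y' hy48).1, ← two_xi hy, ← two_xi hy48,
        smul_zsmul', smul_zsmul', ← mul_smul, h, mul_smul, mul_smul, smul_sp m hy]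
    refine Nat.eq_of_testBit_eq fun i => ?_
    rw [Bool.eq_iff_iff, testBit_maskL, testBit_maskL]
    by_cases hi : i < 48
    · rw [mem_iff_coord (image_nodup a hy48) (hlta y' hy48) hi, mem_iff_coord (image_nodup b hy) (hltb y hy) hi, hv]
    · exact ⟨fun h' => absurd (hlta y' hy48 i h') hi, fun h' => absurd (hltb y hy i h') hi⟩
  · obtain ⟨y, hy, rfl⟩ := List.mem_map.1 hx
    exact maskL_le (hlta y (List.mem_range.1 hy))

/-- Monomial elements of one class have the same key. -/
theorem keyC_eq {a b : MN} (h : Cl a = Cl b) : keyC (cd a) = keyC (cd b) := by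
  obtain ⟨m, hm⟩ := exists_of_Cl_eq h
  refine le_antisymm ?_ (keyC_le m hm)
  obtain ⟨m', hm'⟩ := exists_of_Cl_eq h.symm
  exact keyC_le m' hm'

end CfsgLib.Co1Uniq
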