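import Cfsg.Agent.Co1Uniq.Base

/-!
A checker for derivations of coset facts `g_k ξ_c = n g_m h` and stabiliser pairs `s g_k = g_k h` from the
relations of the monomial group, the sextet element and one triangle.
-/

set_option autoImplicit false
set_option maxRecDepth 100000
set_option linter.style.haveILetI false

namespace CfsgLib.Co1Uniq

open Cfsg CfsgLib CfsgLib.Leech

/-- The node, label, target node and two monomial factors of a fact. -/
structure Fact where
  k : ℕ
  c : ℕ
  m : ℕ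
  n : ℕ
  h : ℕ

/-- A node with a pair of monomial elements. -/
structure SPair where
  k : ℕ
  s : ℕ
  h : ℕ

/-- A translate of the triangle: the element and the three labels. -/
structure TMove where
  n : ℕ
  cc : ℕ
  ca : ℕ
  cb : ℕ

/-- A step of a derivation. -/
inductive DStep where
  | defn (i : ℕ)
  | inv (i c' : ℕ)
  | app (i p c' : ℕ)
  | triA (t : TMove) (iA iB c' : ℕ)
  | triC (t : TMove) (iA iC c' : ℕ)
  | coin (i j : ℕ)

/-- The facts and pairs derived. -/
structure DState where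
  F : List Fact
  P : List SPair

/-- The triangle. -/
structure TriData where
  a : ℕ
  b : ℕ
  c : ℕ
  nu : ℕ

/-- The factor when `h` passes from the label `c` to the label `c'`. -/
def passTo (h c c' : ℕ) : Option ℕ :=
  if passOK (mulC (invC c') (mulC h c)) then some (mulC (mulC c' (passC (mulC (invC c') (mulC h c)))) (invC c))
  else none

/-- The factor of a translate of the triangle. -/
def moveTri (T : TriData) (t : TMove) : Option ℕ :=
  if validC t.n && validC t.cc && validC t.ca && validC t.cb then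
    (passTo t.n T.c t.cc).bind fun p1 => (passTo p1 T.a t.ca).bind fun p2 => (passTo p2 T.b t.cb).bind fun p3 =>
      some (mulC (mulC t.n T.nu) (invC p3))
  else none

/-- Apply a step. -/
def DState.step (defs : List (ℕ × ℕ)) (T : TriData) (st : DState) : DStep → Option DState
  | .defn i => defs[i]?.bind fun d =>
      if validC d.2 then some { st with F := st.F ++ [⟨d.1, d.2, i + 1, oneC, oneC⟩] } else none
  | .inv i c' => st.F[i]?.bind fun f => if validC c' then
      (passTo f.h f.c c').bind fun p => some { st with F := st.F ++ [⟨f.m, c', f.k, invC f.n, invC p⟩] }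
      else none
  | .app i j c' => st.F[i]?.bind fun f => st.P[j]?.bind fun q =>
      if validC c' && q.k == f.k then
        (passTo q.h f.c c').bind fun p =>
          some { st with F := st.F ++ [⟨f.k, c', f.m, mulC q.s f.n, mulC f.h (invC p)⟩] }
      else none
  | .triA t iA iB c' => st.F[iA]?.bind fun A => st.F[iB]?.bind fun B =>
      if validC c' && A.c == t.ca && B.k == A.m && B.c == c' then
        (moveTri T t).bind fun mu => (passTo A.h t.cb c').bind fun p =>
          some { st with F := st.F ++ [⟨A.k, t.cc, B.m, mulC A.n B.n, mulC (mulC B.h p) (invC mu)⟩] }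
      else none
  | .triC t iA iC c' => st.F[iA]?.bind fun A => st.F[iC]?.bind fun C =>
      if validC c' && A.c == t.ca && C.k == A.k && C.c == t.cc then
        (moveTri T t).bind fun mu => (passTo A.h t.cb c').bind fun p =>
          some { st with F := st.F ++ [⟨A.m, c', C.m, mulC (invC A.n) C.n, mulC (mulC C.h mu) (invC p)⟩] }
      else none
  | .coin i j => st.F[i]?.bind fun f => st.F[j]?.bind fun f' =>
      if f.k == f'.k && f.c == f'.c && f.m == f'.m then
        some { st with P := st.P ++ [⟨f.m, mulC (invC f'.n) f.n, mulC f'.h (invC f.h)⟩] }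
      else none

/-- Run a derivation. -/
def DState.run (defs : List (ℕ × ℕ)) (T : TriData) : List DStep → DState → Option DState
  | [], st => some st
  | d :: ds, st => (st.step defs T d).bind (DState.run defs T ds)

variable {G : Type*} [Group G] (R : Base G) (g : ℕ → G)

/-- The fact holds. -/
def Fact.Holds (f : Fact) : Prop :=
  Val f.c ∧ Val f.n ∧ Val f.h ∧ g f.k * R.xiE f.c = R.th f.n * g f.m * R.th f.h

/-- The pair holds. -/
def SPair.Holds (q : SPair) : Prop := Val q.s ∧ Val q.h ∧ R.th q.s * g q.k = g q.k * R.th q.h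

/-- Everything derived holds. -/
def DState.Holds (st : DState) : Prop := (∀ f ∈ st.F, f.Holds R g) ∧ ∀ q ∈ st.P, q.Holds R g

theorem passTo_spec {h c c' p : ℕ} (hh : Val h) (hc : Val c) (hc' : Val c') (e : passTo h c c' = some p) :
    Val p ∧ R.th h * R.xiE c = R.xiE c' * R.th p := by
  unfold passTo at e
  split_ifs at e with hok
  obtain rfl := Option.some.inj e
  set b := mulC (invC c') (mulC h c) with hb
  have hbv : Val b := hc'.inv.mul (hh.mul hc)
  obtain ⟨m, hm, hmc⟩ := pass_spec hbv hok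
  have hp := R.pass _ _ hm
  have hmv : Val (passC b) := hmc ▸ val_cd m
  refine ⟨(hc'.mul hmv).mul hc.inv, ?_⟩
  have e1 : el (passC b) = m := by rw [← hmc, el_cd]
  have e2 : R.th b = (R.th c')⁻¹ * (R.th h * R.th c) := by
    rw [hb, R.th_mul hc'.inv (hh.mul hc), R.th_inv hc', R.th_mul hh hc]
  rw [R.th_mul (hc'.mul hmv) hc.inv, R.th_mul hc' hmv, R.th_inv hc]
  show R.th h * R.xiE c = R.xiE c' * (R.th c' * R.θ (el (passC b)) * (R.th c)⁻¹)
  rw [e1, ← hp, show R.θ (el b) = R.th b from rfl, e2]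
  unfold Base.xiE
  calc R.th h * (R.th c * R.ξ * (R.th c)⁻¹)
      = R.th c' * 1 * ((R.th c')⁻¹ * (R.th h * R.th c)) * R.ξ * (R.th c)⁻¹ := by group
    _ = R.th c' * (R.ξ * R.ξ) * ((R.th c')⁻¹ * (R.th h * R.th c)) * R.ξ * (R.th c)⁻¹ := by rw [R.sq]
    _ = _ := by group

theorem moveTri_spec {T : TriData} (hTv : Val T.a ∧ Val T.b ∧ Val T.c ∧ Val T.nu)
    (hT : R.xiE T.c * R.xiE T.a * R.xiE T.b = R.th T.nu) {t : TMove} {mu : ℕ} (e : moveTri T t = some mu) :
    Val t.ca ∧ Val t.cb ∧ Val t.cc ∧ Val mu ∧ R.xiE t.cc * R.xiE t.ca * R.xiE t.cb = R.th mu := by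
  obtain ⟨va, vb, vc, vn⟩ := hTv
  unfold moveTri at e
  split_ifs at e with hok
  simp only [Bool.and_eq_true] at hok
  obtain ⟨⟨⟨h1, h2⟩, h3⟩, h4⟩ := hok
  obtain ⟨v1, v2, v3, v4⟩ := And.intro (val_of_validC h1)
    (And.intro (val_of_validC h2) (And.intro (val_of_validC h3) (val_of_validC h4)))
  simp only [Option.bind_eq_some_iff] at e
  obtain ⟨p1, e1, p2, e2, p3, e3, e4⟩ := e
  obtain rfl := Option.some.inj e4
  obtain ⟨w1, q1⟩ := passTo_spec R v1 vc v2 e1
  obtain ⟨w2, q2⟩ := passTo_spec R w1 va v3 e2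
  obtain ⟨w3, q3⟩ := passTo_spec R w2 vb v4 e3
  refine ⟨v3, v4, v2, (v1.mul vn).mul w3.inv, ?_⟩
  rw [R.th_mul (v1.mul vn) w3.inv, R.th_mul v1 vn, R.th_inv w3, eq_mul_inv_iff_mul_eq, ← hT]
  calc R.xiE t.cc * R.xiE t.ca * R.xiE t.cb * R.th p3
      = R.xiE t.cc * R.xiE t.ca * (R.th p2 * R.xiE T.b) := by rw [q3]; group
    _ = R.xiE t.cc * (R.th p1 * R.xiE T.a) * R.xiE T.b := by rw [q2]; group
    _ = R.th t.n * R.xiE T.c * R.xiE T.a * R.xiE T.b := by rw [q1]; group
    _ = _ := by group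

theorem step_spec {defs : List (ℕ × ℕ)} {T : TriData} (hTv : Val T.a ∧ Val T.b ∧ Val T.c ∧ Val T.nu)
    (hT : R.xiE T.c * R.xiE T.a * R.xiE T.b = R.th T.nu)
    (hg : ∀ i d, defs[i]? = some d → g (i + 1) = g d.1 * R.xiE d.2)
    {st st' : DState} {d : DStep} (hst : st.Holds R g) (e : st.step defs T d = some st') : st'.Holds R g := by
  obtain ⟨hF, hP⟩ := hst
  have addF : ∀ {f : Fact}, f.Holds R g → ∀ x ∈ st.F ++ [f], x.Holds R g := fun hf x hx => by
    rcases List.mem_append.1 hx with hx | hx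
    · exact hF x hx
    · rw [List.mem_singleton] at hx
      exact hx ▸ hf
  cases d with
  | defn i =>
    simp only [DState.step, Option.bind_eq_some_iff] at e
    obtain ⟨d, hd, e⟩ := e
    split_ifs at e with hv
    obtain rfl := Option.some.inj e
    refine ⟨addF ⟨val_of_validC hv, val_one, val_one, ?_⟩, hP⟩
    rw [R.th_one, one_mul, mul_one, hg i d hd]
  | inv i c' =>
    simp only [DState.step, Option.bind_eq_some_iff] at e
    obtain ⟨f, hf, e⟩ := e
    split_ifs at e with hv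
    simp only [Option.bind_eq_some_iff] at e
    obtain ⟨p, hp, e⟩ := e
    obtain rfl := Option.some.inj e
    obtain ⟨fc, fn, fh, fe⟩ := hF f (List.mem_of_getElem? hf)
    obtain ⟨pv, pe⟩ := passTo_spec R fh fc (val_of_validC hv) hp
    refine ⟨addF ⟨val_of_validC hv, fn.inv, pv.inv, ?_⟩, hP⟩
    have h1 : g f.k = R.th f.n * g f.m * (R.xiE c' * R.th p) := by
      calc g f.k = g f.k * R.xiE f.c * R.xiE f.c := by rw [mul_assoc, R.xiE_sq, mul_one]
        _ = R.th f.n * g f.m * (R.th f.h * R.xiE f.c) := by rw [fe]; group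
        _ = _ := by rw [pe]
    show g f.m * R.xiE c' = R.th (invC f.n) * g f.k * R.th (invC p)
    rw [R.th_inv fn, R.th_inv pv, h1]
    group
  | app i j c' =>
    simp only [DState.step, Option.bind_eq_some_iff] at e
    obtain ⟨f, hf, q, hq, e⟩ := e
    split_ifs at e with hv
    simp only [Option.bind_eq_some_iff] at e
    obtain ⟨p, hp, e⟩ := e
    obtain rfl := Option.some.inj e
    simp only [Bool.and_eq_true, beq_iff_eq] at hv
    obtain ⟨fc, fn, fh, fe⟩ := hF f (List.mem_of_getElem? hf)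
    obtain ⟨qs, qh, qe⟩ := hP q (List.mem_of_getElem? hq)
    obtain ⟨pv, pe⟩ := passTo_spec R qh fc (val_of_validC hv.1) hp
    refine ⟨addF ⟨val_of_validC hv.1, qs.mul fn, fh.mul pv.inv, ?_⟩, hP⟩
    show g f.k * R.xiE c' = R.th (mulC q.s f.n) * g f.m * R.th (mulC f.h (invC p))
    rw [hv.2] at qe
    rw [R.th_mul qs fn, R.th_mul fh pv.inv, R.th_inv pv, ← mul_assoc, eq_mul_inv_iff_mul_eq, mul_assoc, ← pe,
      ← mul_assoc, ← qe, mul_assoc _ _ (R.xiE f.c), fe]
    group
  | triA t iA iB c' =>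
    simp only [DState.step, Option.bind_eq_some_iff] at e
    obtain ⟨A, hA, B, hB, e⟩ := e
    split_ifs at e with hv
    simp only [Option.bind_eq_some_iff] at e
    obtain ⟨mu, hmu, p, hp, e⟩ := e
    obtain rfl := Option.some.inj e
    simp only [Bool.and_eq_true, beq_iff_eq] at hv
    obtain ⟨⟨⟨hv1, hv2⟩, hv3⟩, hv4⟩ := hv
    obtain ⟨Ac, An, Ah, Ae⟩ := hF A (List.mem_of_getElem? hA)
    obtain ⟨Bc, Bn, Bh, Be⟩ := hF B (List.mem_of_getElem? hB)
    obtain ⟨ta, tb, tc, mv, te⟩ := moveTri_spec R hTv hT hmu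
    obtain ⟨pv, pe⟩ := passTo_spec R Ah tb (val_of_validC hv1) hp
    refine ⟨addF ⟨tc, An.mul Bn, (Bh.mul pv).mul mv.inv, ?_⟩, hP⟩
    show g A.k * R.xiE t.cc = R.th (mulC A.n B.n) * g B.m * R.th (mulC (mulC B.h p) (invC mu))
    rw [hv3, hv4] at Be
    rw [hv2] at Ae
    rw [R.th_mul An Bn, R.th_mul (Bh.mul pv) mv.inv, R.th_mul Bh pv, R.th_inv mv]
    have h1 : R.xiE t.ca * R.xiE t.cb = R.xiE t.cc * R.th mu := by
      rw [← te]
      calc R.xiE t.ca * R.xiE t.cb = R.xiE t.cc * R.xiE t.cc * (R.xiE t.ca * R.xiE t.cb) := by rw [R.xiE_sq, one_mul]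
        _ = _ := by group
    calc g A.k * R.xiE t.cc = g A.k * (R.xiE t.cc * R.th mu) * (R.th mu)⁻¹ := by group
      _ = g A.k * R.xiE t.ca * R.xiE t.cb * (R.th mu)⁻¹ := by rw [← h1]; group
      _ = R.th A.n * g A.m * (R.th A.h * R.xiE t.cb) * (R.th mu)⁻¹ := by rw [Ae]; group
      _ = R.th A.n * (g A.m * R.xiE c') * R.th p * (R.th mu)⁻¹ := by rw [pe]; group
      _ = _ := by rw [Be]; group
  | triC t iA iC c' =>
    simp only [DState.step, Option.bind_eq_some_iff] at e
    obtain ⟨A, hA, C, hC, e⟩ := e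
    split_ifs at e with hv
    simp only [Option.bind_eq_some_iff] at e
    obtain ⟨mu, hmu, p, hp, e⟩ := e
    obtain rfl := Option.some.inj e
    simp only [Bool.and_eq_true, beq_iff_eq] at hv
    obtain ⟨⟨⟨hv1, hv2⟩, hv3⟩, hv4⟩ := hv
    obtain ⟨Ac, An, Ah, Ae⟩ := hF A (List.mem_of_getElem? hA)
    obtain ⟨Cc, Cn, Ch, Ce⟩ := hF C (List.mem_of_getElem? hC)
    obtain ⟨ta, tb, tc, mv, te⟩ := moveTri_spec R hTv hT hmu
    obtain ⟨pv, pe⟩ := passTo_spec R Ah tb (val_of_validC hv1) hp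
    refine ⟨addF ⟨val_of_validC hv1, An.inv.mul Cn, (Ch.mul mv).mul pv.inv, ?_⟩, hP⟩
    show g A.m * R.xiE c' = R.th (mulC (invC A.n) C.n) * g C.m * R.th (mulC (mulC C.h mu) (invC p))
    rw [hv3, hv4] at Ce
    rw [hv2] at Ae
    rw [R.th_mul An.inv Cn, R.th_mul (Ch.mul mv) pv.inv, R.th_mul Ch mv, R.th_inv An, R.th_inv pv]
    have h1 : R.xiE t.ca * R.xiE t.cb = R.xiE t.cc * R.th mu := by
      rw [← te]
      calc R.xiE t.ca * R.xiE t.cb = R.xiE t.cc * R.xiE t.cc * (R.xiE t.ca * R.xiE t.cb) := by rw [R.xiE_sq, one_mul]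
        _ = _ := by group
    calc g A.m * R.xiE c' = (R.th A.n)⁻¹ * (R.th A.n * g A.m * (R.xiE c' * R.th p)) * (R.th p)⁻¹ := by group
      _ = (R.th A.n)⁻¹ * (R.th A.n * g A.m * R.th A.h * R.xiE t.cb) * (R.th p)⁻¹ := by rw [← pe]; group
      _ = (R.th A.n)⁻¹ * (g A.k * (R.xiE t.ca * R.xiE t.cb)) * (R.th p)⁻¹ := by rw [← Ae]; group
      _ = (R.th A.n)⁻¹ * (g A.k * R.xiE t.cc * R.th mu) * (R.th p)⁻¹ := by rw [h1]; group
      _ = _ := by rw [Ce]; group
  | coin i j =>
    simp only [DState.step, Option.bind_eq_some_iff] at e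
    obtain ⟨f, hf, f', hf', e⟩ := e
    split_ifs at e with hv
    obtain rfl := Option.some.inj e
    simp only [Bool.and_eq_true, beq_iff_eq] at hv
    obtain ⟨fc, fn, fh, fe⟩ := hF f (List.mem_of_getElem? hf)
    obtain ⟨fc', fn', fh', fe'⟩ := hF f' (List.mem_of_getElem? hf')
    refine ⟨hF, fun x hx => ?_⟩
    rcases List.mem_append.1 hx with hx | hx
    · exact hP x hx
    rw [List.mem_singleton] at hx
    subst hx
    refine ⟨fn'.inv.mul fn, fh'.mul fh.inv, ?_⟩
    show R.th (mulC (invC f'.n) f.n) * g f.m = g f.m * R.th (mulC f'.h (invC f.h))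
    rw [← hv.1.1, ← hv.1.2, fe, ← hv.2] at fe'
    rw [R.th_mul fn'.inv fn, R.th_mul fh' fh.inv, R.th_inv fn', R.th_inv fh]
    calc (R.th f'.n)⁻¹ * R.th f.n * g f.m = (R.th f'.n)⁻¹ * (R.th f.n * g f.m * R.th f.h) * (R.th f.h)⁻¹ := by group
      _ = _ := by rw [fe']; group

theorem run_spec {defs : List (ℕ × ℕ)} {T : TriData} (hTv : Val T.a ∧ Val T.b ∧ Val T.c ∧ Val T.nu)
    (hT : R.xiE T.c * R.xiE T.a * R.xiE T.b = R.th T.nu)
    (hg : ∀ i d, defs[i]? = some d → g (i + 1) = g d.1 * R.xiE d.2) :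
    ∀ (ds : List DStep) (st st' : DState), st.Holds R g → st.run defs T ds = some st' → st'.Holds R g := by
  intro ds
  induction ds with
  | nil =>
    intro st st' h e
    exact Option.some.inj e ▸ h
  | cons d ds ih =>
    intro st st' h e
    simp only [DState.run, Option.bind_eq_some_iff] at e
    obtain ⟨st1, e1, e2⟩ := e
    exact ih st1 st' (step_spec R g hTv hT hg h e1) e2

end CfsgLib.Co1Uniq
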