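import Cfsg.Agent.Co1Uniq.Bridge
import Cfsg.Agent.Leech.MonoMaximal
import Cfsg.Prelude.Def_Spor_Conway

/-!
The relations hold in the first Conway group for the images of the monomial group and the sextet element.
-/

set_option autoImplicit false
set_option maxRecDepth 100000
set_option linter.style.haveILetI false

namespace CfsgLib.Co1Uniq

open Cfsg Cfsg.Spor CfsgLib CfsgLib.Golay CfsgLib.Golay.Cert CfsgLib.Leech

/-- The quotient map onto the first Conway group. -/
def prCo1 : Co0 →* Co1 := QuotientGroup.mk' (Subgroup.center Co0)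

theorem prCo1_neg : prCo1 negAut = 1 :=
  (QuotientGroup.eq_one_iff _).2 (by
    show negAut ∈ (Subgroup.center Co0 : Set Co0)
    rw [center_eq]
    exact Or.inr rfl)

open Classical in
/-- The image of a sign change. -/
noncomputable def sgCo1 (a : ℕ) : Co1 :=
  if h : IsWord a then prCo1 (signAut ⟨vec a, h.2⟩) else 1

theorem sgCo1_word {a : ℕ} (h : IsWord a) : sgCo1 a = prCo1 (signAut ⟨vec a, h.2⟩) := dif_pos h

theorem sgCo1_xor (a b : ℕ) (ha : IsWord a) (hb : IsWord b) : sgCo1 (a ^^^ b) = sgCo1 a * sgCo1 b := by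
  have h : IsWord (a ^^^ b) := ⟨(Nat.xor_lt_two_pow (n := 24) ha.1 hb.1 : _ < 2 ^ 24), by rw [vec_xor]; exact add_mem ha.2 hb.2⟩
  rw [sgCo1_word h, sgCo1_word ha, sgCo1_word hb, ← map_mul, signAut_mul]
  exact congrArg (fun w => prCo1 (signAut w)) (Subtype.ext (vec_xor a b))

theorem sgCo1_one : sgCo1 16777215 = 1 := by
  have e : vec 16777215 = (oneWord : GolayPt → ZMod 2) := by
    have h : ∀ i < 24, (16777215 : ℕ).testBit i = true := by decide
    funext p
    show (if (16777215 : ℕ).testBit (idx p) then 1 else 0) = (1 : ZMod 2)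
    rw [if_pos (h _ (idx_lt p))]
  have h : IsWord 16777215 := ⟨by norm_num, e ▸ oneWord.2⟩
  rw [sgCo1_word h, show (⟨vec 16777215, h.2⟩ : golayCode) = oneWord from Subtype.ext e, signAut_one, prCo1_neg]

theorem pm_sgCo1 (σ : ↥M24) (a b : ℕ) (ha : IsWord a) (hb : IsWord b)
    (h : ∀ p, vec b p = vec a ((σ : Equiv.Perm GolayPt).symm p)) :
    prCo1 (permHom σ) * sgCo1 a * (prCo1 (permHom σ))⁻¹ = sgCo1 b := by
  rw [sgCo1_word ha, sgCo1_word hb, mul_inv_eq_iff_eq_mul, ← map_mul, ← map_mul, permHom_mul_signAut]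
  exact congrArg (fun w => prCo1 (signAut w * permHom σ)) (Subtype.ext (funext fun p => (h p).symm))

theorem prCo1_el {q : MonoW} {c : ℕ} (h : isCode q c = true) :
    Val c ∧ sgCo1 q.2 * prCo1 (permHom (permM q.1)) = prCo1 ((el c : MN) : Co0) := by
  simp only [isCode, Bool.and_eq_true, beq_iff_eq, decide_eq_true_eq] at h
  obtain ⟨⟨⟨⟨hv, hp⟩, hm⟩, hg⟩, hl⟩ := h
  have hgen : genOK (permC c) = true := by
    simp only [validC, Bool.and_eq_true] at hv
    exact hv.1.1
  obtain ⟨h1, h2, h3⟩ := monoPart_el hv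
  refine ⟨val_of_validC hv, ?_⟩
  have hw : IsWord q.2 := ⟨hm ▸ h2, hm ▸ h1 ▸ (monoPart (el c)).1.2⟩
  rw [sgCo1_word hw, ← map_mul, ← monoPart_spec (el c), Rels.permM_eq (hp ▸ hgen) hg hl]
  refine congrArg prCo1 ?_
  show signAut _ * permHom _ = signAut _ * permHom _
  rw [h3, hp]
  exact congrArg (fun w => signAut w * permHom (ofList q.1)) (Subtype.ext (by rw [← h1, hm]))

/-- The code of a sign change. -/
def sgC (m : ℕ) : ℕ := enc6 fun j => 2 * j + if m.testBit j then 1 else 0

theorem zw_ok : ∀ m ∈ [zw0, zw1, zw2],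
    (isCode (List.range 24, m) (sgC m) && passOK (sgC m) && passC (sgC m) == sgC m) = true := by
  decide +kernel

theorem ofList_range : ofList (List.range 24) = 1 := by
  have h : genOK (List.range 24) = true := by decide +kernel
  have e : toList (1 : Equiv.Perm GolayPt) = List.range 24 := by decide +kernel
  exact Subtype.ext (CfsgLib.Golay.Cert.toList_injective ((toList_ofList h).trans e.symm))

theorem xiCo1_zw {m : ℕ} (h : m ∈ [zw0, zw1, zw2]) : prCo1 xiAut * sgCo1 m = sgCo1 m * prCo1 xiAut := by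
  have hk := zw_ok m h
  simp only [Bool.and_eq_true, beq_iff_eq] at hk
  obtain ⟨⟨h1, h2⟩, h3⟩ := hk
  obtain ⟨v, e⟩ := prCo1_el h1
  have hk' := h1
  simp only [isCode, Bool.and_eq_true, beq_iff_eq, decide_eq_true_eq] at hk'
  rw [Rels.permM_eq (by decide +kernel) hk'.1.2 hk'.2, ofList_range, map_one, map_one, mul_one] at e
  obtain ⟨g, hg, hgc⟩ := pass_spec v h2
  have hge : g = el (sgC m) := by rw [← h3] at v ⊢; rw [← hgc, el_cd]
  rw [hge] at hg
  simp only [] at e
  rw [e, ← map_mul, ← map_mul]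
  refine congrArg prCo1 ?_
  calc xiAut * (el (sgC m) : Co0) = xiAut * (el (sgC m) : Co0) * (xiAut * xiAut) := by rw [xiAut_sq, mul_one]
    _ = xiAut * (el (sgC m) : Co0) * xiAut * xiAut := by group
    _ = _ := by rw [← hg]

theorem passCo1 (q : MonoW × MonoW) (hq : q ∈ passGens) :
    prCo1 xiAut * (sgCo1 q.1.2 * prCo1 (permHom (permM q.1.1))) * prCo1 xiAut =
      sgCo1 q.2.2 * prCo1 (permHom (permM q.2.1)) := by
  obtain ⟨i, hi, rfl⟩ := List.mem_iff_getElem.1 hq
  have hi' : i < Dat.pgens.length := Rels.pgens_ok.1.symm ▸ hi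
  have h := Rels.pgens_ok.2 (Dat.pgens[i], passGens[i]) (List.mem_iff_getElem.2 ⟨i, by simp [List.length_zip]; omega,
    List.getElem_zip⟩)
  simp only [Bool.and_eq_true, Bool.or_eq_true, beq_iff_eq] at h
  obtain ⟨⟨⟨h1, h2⟩, h3⟩, h4⟩ := h
  obtain ⟨v1, e1⟩ := prCo1_el h1
  obtain ⟨v2, e2⟩ := prCo1_el h2
  obtain ⟨g, hg, hgc⟩ := pass_spec v1 h3
  erw [e1, e2]
  rw [← map_mul, ← map_mul, ← hg]
  rcases h4 with h4 | h4 <;> rw [← hgc] at h4
  · rw [← h4, el_cd]
  · rw [show g = negM * el Dat.pgens[i].2 from cd_injective (by rw [cd_neg_mul, cd_el v2, h4]), Subgroup.coe_mul,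
      map_mul, show ((negM : MN) : Co0) = negAut from rfl, prCo1_neg, one_mul]

/-- Four times the image of a frame vector under one side of the triangle. -/
def triL (A j : ℕ) : List ℕ := ((col0 j).map (img A)).flatMap colS

/-- Twice the image of a frame vector under the other side. -/
def triR (B C j : ℕ) : List ℕ := (colS (img (invC B) (2 * j))).map (img C)

theorem tri_cols : ∀ j < 24, (List.range 24).all (fun i =>
    ((triL (Dat.triCodes.getD 0 0) j).map fun x => spF x (pt i)).sum ==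
      2 * ((triR (Dat.triCodes.getD 1 0) (negC (Dat.triCodes.getD 2 0)) j).map fun x => spF x (pt i)).sum) = true := by
  decide +kernel

theorem xi_vsum : ∀ l : List ℕ, (∀ x ∈ l, x < 48) → (2 : ℤ) • (xiAut • vsum l) = vsum (l.flatMap colS)
  | [], _ => by
    show (2 : ℤ) • (xiAut • (0 : leechLattice)) = 0
    rw [smul_zero', smul_zero]
  | x :: l, h => by
    show (2 : ℤ) • (xiAut • (sp x + vsum l)) = vsum (colS x ++ l.flatMap colS)
    rw [smul_add', smul_add, two_xi (h x List.mem_cons_self), xi_vsum l fun y hy => h y (List.mem_cons_of_mem _ hy)]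
    simp [vsum, List.map_append, List.sum_append]

theorem tri_co0 {A B C : MN} (h : ∀ j < 24, (List.range 24).all (fun i =>
      ((triL (cd A) j).map fun x => spF x (pt i)).sum ==
        2 * ((triR (cd B) (cd C) j).map fun x => spF x (pt i)).sum) = true) :
    xiAut * (A : Co0) * xiAut = (C : Co0) * xiAut * (B : Co0)⁻¹ := by
  refine eq_of_mat_eq fun p q => ?_
  have hq := idx_lt q
  have hb : img (invC (cd B)) (2 * idx q) < 48 := by
    rw [← cd_inv]
    exact img_lt (slot_cd_lt _) (by omega)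
  have e1 : (2 : ℤ) • ((2 : ℤ) • ((xiAut * (A : Co0) * xiAut) • eightAt q)) = vsum (triL (cd A) (idx q)) := by
    rw [mul_smul, mul_smul, ← pt_idx q, ← sp_even, ← smul_zsmul' xiAut, ← smul_zsmul' (A : Co0), idx_pt _ hq,
      two_xi (by omega : 2 * idx q < 48), smul_vsum A _ (col_check _ (by omega)).1, colS_even, xi_vsum _ ?_]
    · rfl
    · intro x hx
      obtain ⟨y, hy, rfl⟩ := List.mem_map.1 hx
      exact img_lt (slot_cd_lt A) ((col_check (2 * idx q) (by omega)).1 y (by rwa [colS_even]))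
  have e2 : (2 : ℤ) • (((C : Co0) * xiAut * (B : Co0)⁻¹) • eightAt q) = vsum (triR (cd B) (cd C) (idx q)) := by
    rw [mul_smul, mul_smul, ← pt_idx q, ← sp_even, idx_pt _ hq, ← Subgroup.coe_inv, smul_sp B⁻¹ (by omega), cd_inv,
      ← smul_zsmul' (C : Co0), two_xi hb, smul_vsum C _ (col_check _ hb).1]
    rfl
  show ((((xiAut * (A : Co0) * xiAut) • eightAt q : leechLattice)) : GolayPt → ℤ) p =
    ((((C : Co0) * xiAut * (B : Co0)⁻¹) • eightAt q : leechLattice) : GolayPt → ℤ) p
  have h1 := congrArg (fun v : leechLattice => (v : GolayPt → ℤ) p) e1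
  have h2 := congrArg (fun v : leechLattice => (v : GolayPt → ℤ) p) e2
  have h3 := List.all_eq_true.1 (h (idx q) hq) (idx p) (List.mem_range.2 (idx_lt p))
  rw [beq_iff_eq, pt_idx, ← coe_vsum, ← coe_vsum] at h3
  simp only [AddSubgroup.coe_zsmul, Pi.smul_apply, smul_eq_mul] at h1 h2
  omega

theorem triCo1 : prCo1 xiAut * (sgCo1 triA.2 * prCo1 (permHom (permM triA.1))) * prCo1 xiAut *
    (sgCo1 triB.2 * prCo1 (permHom (permM triB.1))) * prCo1 xiAut = sgCo1 triC.2 * prCo1 (permHom (permM triC.1)) := by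
  obtain ⟨hA, hB, hC, -⟩ := Rels.tri_codes
  obtain ⟨vA, eA⟩ := prCo1_el hA
  obtain ⟨vB, eB⟩ := prCo1_el hB
  obtain ⟨vC, eC⟩ := prCo1_el hC
  rw [eA, eB, eC]
  have hcols := tri_cols
  generalize Dat.triCodes.getD 0 0 = A at *
  generalize Dat.triCodes.getD 1 0 = B at *
  generalize Dat.triCodes.getD 2 0 = C at *
  have e := tri_co0 (A := el A) (B := el B) (C := negM * el C)
    (by rw [cd_neg_mul, cd_el vA, cd_el vB, cd_el vC]; exact hcols)
  rw [Subgroup.coe_mul, show ((negM : MN) : Co0) = negAut from rfl] at e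
  rw [← map_mul, ← map_mul, e]
  simp only [map_mul, map_inv, prCo1_neg, one_mul]
  rw [show ∀ c x b : Co1, c * x * b⁻¹ * b * x = c * (x * x) from fun c x b => by group, ← map_mul, xiAut_sq, map_one,
    mul_one]

/-- The relations in the first Conway group. -/
noncomputable def relCo1 : Rels Co1 where
  sg := sgCo1
  pm := prCo1.comp permHom
  xi := prCo1 xiAut
  sg_xor := sgCo1_xor
  sg_one := sgCo1_one
  pm_sg := pm_sgCo1
  xi_sq := by rw [← map_mul, xiAut_sq, map_one]
  xi_zw0 := xiCo1_zw (by simp)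
  xi_zw1 := xiCo1_zw (by simp)
  xi_zw2 := xiCo1_zw (by simp)
  pass := passCo1
  tri := triCo1

/-- The value of a monomial automorphism in the first Conway group. -/
theorem relCo1_theta (g : MN) : relCo1.theta g = prCo1 (g : Co0) := by
  show sgCo1 (maskW (monoPart g).1) * prCo1 (permHom (monoPart g).2) = _
  conv_rhs => rw [← monoPart_spec g]
  rw [sgCo1_word (isWord_maskW _), ← map_mul]
  exact congrArg (fun w => prCo1 (signAut w * permHom (monoPart g).2)) (Subtype.ext (maskW_spec _).2)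

theorem xi_not_mono_check : (List.range 48).all (fun s => (List.range 24).any fun i =>
    !(((colS 46).map fun x => spF x (pt i)).sum == 2 * spF s (pt i))) = true := by decide +kernel

theorem xiAut_not_mem : xiAut ∉ monoGroup := fun hm => by
  have h1 := two_xi (x := 46) (by norm_num)
  rw [show xiAut • sp 46 = sp (img (cd ⟨xiAut, hm⟩) 46) from smul_sp ⟨xiAut, hm⟩ (by norm_num)] at h1
  have hlt := img_lt (slot_cd_lt ⟨xiAut, hm⟩) (show 46 < 48 by norm_num)
  have h2 := List.all_eq_true.1 xi_not_mono_check _ (List.mem_range.2 hlt)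
  rw [List.any_eq_true] at h2
  obtain ⟨i, -, hi⟩ := h2
  have h3 := congrArg (fun v : leechLattice => (v : GolayPt → ℤ) (pt i)) h1
  simp only [AddSubgroup.coe_zsmul, Pi.smul_apply, smul_eq_mul, coe_sp, coe_vsum] at h3
  simp [← h3] at hi

theorem relCo1_top : relCo1.top = ⊤ := by
  have hmono : monoGroup ≤ relCo1.top.comap prCo1 := fun g hg => by
    refine Subgroup.mem_sup_left ?_
    show prCo1 g ∈ relCo1.mono
    rw [show prCo1 g = relCo1.theta ⟨g, hg⟩ from (relCo1_theta ⟨g, hg⟩).symm]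
    exact mul_mem (Subgroup.mem_sup_left (Subgroup.subset_closure ⟨_, isWord_maskW _, rfl⟩))
      (Subgroup.mem_sup_right ⟨_, rfl⟩)
  have hxi : xiAut ∈ relCo1.top.comap prCo1 := Subgroup.mem_sup_right (Subgroup.mem_zpowers _)
  rcases MonoMax.maximal hmono with h | h
  · exact absurd (h ▸ hxi) xiAut_not_mem
  · refine (Subgroup.eq_top_iff' _).2 fun x => ?_
    obtain ⟨g, rfl⟩ := QuotientGroup.mk'_surjective _ x
    exact (h ▸ Subgroup.mem_top g : g ∈ relCo1.top.comap prCo1)

end CfsgLib.Co1Uniq
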