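import Cfsg.Agent.Co1Uniq.Main
import Cfsg.Agent.Co1Uniq.Model

/-!
A group generated by a monomial group and a sextet element with the relations is the image of the first Conway
group, compatibly with the generators.
-/

set_option autoImplicit false
set_option linter.style.haveILetI false

namespace CfsgLib.Co1Uniq

open Cfsg Cfsg.Spor CfsgLib CfsgLib.Leech

namespace Rels

variable {G H : Type*} [Group G] [Group H]

/-- The relations in a product. -/
def prod (R : Rels G) (S : Rels H) : Rels (G × H) where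
  sg a := (R.sg a, S.sg a)
  pm := R.pm.prod S.pm
  xi := (R.xi, S.xi)
  sg_xor a b ha hb := Prod.ext (R.sg_xor a b ha hb) (S.sg_xor a b ha hb)
  sg_one := Prod.ext R.sg_one S.sg_one
  pm_sg σ a b ha hb h := Prod.ext (R.pm_sg σ a b ha hb h) (S.pm_sg σ a b ha hb h)
  xi_sq := Prod.ext R.xi_sq S.xi_sq
  xi_zw0 := Prod.ext R.xi_zw0 S.xi_zw0
  xi_zw1 := Prod.ext R.xi_zw1 S.xi_zw1
  xi_zw2 := Prod.ext R.xi_zw2 S.xi_zw2
  pass q hq := Prod.ext (R.pass q hq) (S.pass q hq)
  tri := Prod.ext R.tri S.tri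

theorem map_top_fst (R : Rels G) (S : Rels H) : (R.prod S).top.map (MonoidHom.fst G H) = R.top := by
  rw [top, top, mono, mono, Subgroup.map_sup, Subgroup.map_sup, MonoidHom.map_closure, MonoidHom.map_zpowers,
    MonoidHom.map_range]
  refine congrArg₂ (· ⊔ ·) (congrArg₂ (· ⊔ ·) (congrArg Subgroup.closure (Set.ext fun x => ?_)) rfl) rfl
  constructor
  · rintro ⟨_, ⟨a, ha, rfl⟩, rfl⟩
    exact ⟨a, ha, rfl⟩
  · rintro ⟨a, ha, rfl⟩
    exact ⟨_, ⟨a, ha, rfl⟩, rfl⟩

theorem map_top_snd (R : Rels G) (S : Rels H) : (R.prod S).top.map (MonoidHom.snd G H) = S.top := by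
  rw [top, top, mono, mono, Subgroup.map_sup, Subgroup.map_sup, MonoidHom.map_closure, MonoidHom.map_zpowers,
    MonoidHom.map_range]
  refine congrArg₂ (· ⊔ ·) (congrArg₂ (· ⊔ ·) (congrArg Subgroup.closure (Set.ext fun x => ?_)) rfl) rfl
  constructor
  · rintro ⟨_, ⟨a, ha, rfl⟩, rfl⟩
    exact ⟨a, ha, rfl⟩
  · rintro ⟨a, ha, rfl⟩
    exact ⟨_, ⟨a, ha, rfl⟩, rfl⟩

/-- A group generated with the relations and of the order of the first Conway group maps onto every other. -/
theorem exists_hom_of [Finite G] [Finite H] (R : Rels G) (S : Rels H) (hS : S.top = ⊤)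
    (hcard : Nat.card H = 4157776806543360000) :
    ∃ psi : H →* G, psi.range = R.top ∧ (∀ a, IsWord a → psi (S.sg a) = R.sg a) ∧
      (∀ σ, psi (S.pm σ) = R.pm σ) ∧ psi S.xi = R.xi := by
  set T := (R.prod S).top with hT
  let p : T →* H := (MonoidHom.snd G H).comp T.subtype
  have hsurj : Function.Surjective p := fun h => by
    have : h ∈ T.map (MonoidHom.snd G H) := by rw [hT, map_top_snd, hS]; exact Subgroup.mem_top h
    obtain ⟨x, hx, rfl⟩ := this
    exact ⟨⟨x, hx⟩, rfl⟩
  have hbij : Function.Bijective p := hsurj.bijective_of_nat_card_le (by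
    rw [hcard]; exact card_top_le _)
  let e : T ≃* H := MulEquiv.ofBijective p hbij
  let psi : H →* G := ((MonoidHom.fst G H).comp T.subtype).comp e.symm.toMonoidHom
  have key : ∀ x : G × H, x ∈ T → psi x.2 = x.1 := fun x hx => by
    show ((e.symm x.2 : T) : G × H).1 = x.1
    rw [show x.2 = e ⟨x, hx⟩ from rfl, MulEquiv.symm_apply_apply]
  refine ⟨psi, le_antisymm ?_ ?_, fun a ha => key (R.sg a, S.sg a)
      (Subgroup.mem_sup_left (Subgroup.mem_sup_left (Subgroup.subset_closure ⟨a, ha, rfl⟩))),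
    fun σ => key (R.pm σ, S.pm σ) (Subgroup.mem_sup_left (Subgroup.mem_sup_right ⟨σ, rfl⟩)),
    key (R.xi, S.xi) (Subgroup.mem_sup_right (Subgroup.mem_zpowers _))⟩
  · rintro _ ⟨h, rfl⟩
    rw [← map_top_fst R S]
    exact ⟨_, (e.symm h).2, rfl⟩
  · rw [← map_top_fst R S]
    rintro _ ⟨x, hx, rfl⟩
    exact ⟨x.2, key x hx⟩

/-- Two nontrivial groups generated with the relations, one simple of the order of the first Conway group, are
isomorphic. -/
theorem iso_of_top [Finite G] [Nontrivial G] [Finite H] [IsSimpleGroup H] (R : Rels G) (hR : R.top = ⊤)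
    (S : Rels H) (hS : S.top = ⊤) (hcard : Nat.card H = 4157776806543360000) : Nonempty (G ≃* H) := by
  obtain ⟨psi, hr, -⟩ := exists_hom_of R S hS hcard
  rw [hR] at hr
  rcases Subgroup.Normal.eq_bot_or_eq_top (inferInstance : psi.ker.Normal) with h | h
  · exact ⟨(MulEquiv.ofBijective psi ⟨(MonoidHom.ker_eq_bot_iff psi).1 h, MonoidHom.range_eq_top.1 hr⟩).symm⟩
  · rw [MonoidHom.ker_eq_top_iff] at h
    rw [h, MonoidHom.range_one] at hr
    exact absurd hr bot_ne_top

/-- The first Conway group embeds with the relations: the monomial automorphism of a code word and a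
permutation goes to the sign change times the permutation, the sextet element to the sextet element. -/
theorem exists_hom [Finite G] (R : Rels G) (hR : R.top ≠ ⊥) :
    ∃ psi : Co1 →* G, Function.Injective psi ∧ psi.range = R.top ∧
      (∀ (w : golayCode) (σ : ↥M24) (m : ℕ), m < 16777216 → CfsgLib.Golay.vec m = (w : GolayPt → ZMod 2) →
        psi (prCo1 (monoAut (w, σ))) = R.sg m * R.pm σ) ∧
      psi (prCo1 xiAut) = R.xi := by
  obtain ⟨hsimple, hcard⟩ := isCo1_quotient
  haveI : Finite Co1 := Nat.finite_of_card_ne_zero (by rw [hcard]; norm_num)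
  haveI := hsimple
  obtain ⟨psi, hr, hs, hp, hx⟩ := exists_hom_of R relCo1 relCo1_top hcard
  refine ⟨psi, ?_, hr, fun w σ m hm hv => ?_, hx⟩
  · rcases Subgroup.Normal.eq_bot_or_eq_top (inferInstance : psi.ker.Normal) with h | h
    · exact (MonoidHom.ker_eq_bot_iff psi).1 h
    · rw [MonoidHom.ker_eq_top_iff] at h
      rw [h, MonoidHom.range_one] at hr
      exact absurd hr.symm hR
  · have hw : IsWord m := ⟨hm, hv ▸ w.2⟩
    have e : prCo1 (monoAut (w, σ)) = relCo1.sg m * relCo1.pm σ := by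
      show _ = sgCo1 m * prCo1 (permHom σ)
      rw [sgCo1_word hw, ← map_mul, show (⟨CfsgLib.Golay.vec m, hw.2⟩ : golayCode) = w from Subtype.ext hv]
      rfl
    rw [e, map_mul, hs m hw, hp]

/-- A nontrivial finite group generated with the relations is the first Conway group. -/
theorem iso_co1 [Finite G] [Nontrivial G] (R : Rels G) (hR : R.top = ⊤) : Nonempty (G ≃* Co1) := by
  obtain ⟨hsimple, hcard⟩ := isCo1_quotient
  haveI : Finite Co1 := Nat.finite_of_card_ne_zero (by rw [hcard]; norm_num)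
  haveI := hsimple
  exact iso_of_top R hR relCo1 relCo1_top hcard

end Rels

end CfsgLib.Co1Uniq
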