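import Cfsg.Agent.Co1Uniq.Bridge
import Cfsg.Agent.Co1Uniq.ChkRun
import Cfsg.Agent.Co1Uniq.ChkCover0
import Cfsg.Agent.Co1Uniq.ChkCover1
import Cfsg.Agent.Co1Uniq.ChkCover2
import Cfsg.Agent.Co1Uniq.ChkCover3
import Cfsg.Agent.Co1Uniq.ChkCover4
import Cfsg.Agent.Co1Uniq.ChkCover5

/-!
The order of a group generated by a monomial group and a sextet element with these relations is at most that of
the first Conway group.
-/

set_option autoImplicit false
set_option maxRecDepth 100000
set_option linter.style.haveILetI false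

namespace CfsgLib.Co1Uniq

open Cfsg CfsgLib CfsgLib.Leech

variable {G : Type*} [Group G] (R : Base G)

/-- The six nodes. -/
noncomputable def node : ℕ → G
  | 1 => R.xiE (nr 0)
  | 2 => R.xiE (nr 0) * R.xiE (nr 1)
  | 3 => R.xiE (nr 0) * R.xiE (nr 2)
  | 4 => R.xiE (nr 0) * R.xiE (nr 1) * R.xiE (nr 4)
  | 5 => R.xiE (nr 0) * R.xiE (nr 2) * R.xiE (nr 8)
  | _ => 1

theorem node_defs (i : ℕ) (d : ℕ × ℕ) (h : Dat.defs[i]? = some d) :
    node R (i + 1) = node R d.1 * R.xiE d.2 := by
  have hi : i < 5 := (List.getElem?_eq_some_iff.1 h).1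
  interval_cases i <;> simp [Dat.defs] at h <;> subst h <;> simp [node, mul_assoc]

theorem init_ok : (Dat.init.all fun q => validC q.s && q.s == q.h && (q.k == 0 || q.s == negC oneC)) = true := by
  decide +kernel

theorem init_holds : (⟨[], Dat.init⟩ : DState).Holds R (node R) := by
  refine ⟨fun f hf => by simp at hf, fun q hq => ?_⟩
  have h := List.all_eq_true.1 init_ok q hq
  simp only [Bool.and_eq_true, Bool.or_eq_true, beq_iff_eq] at h
  obtain ⟨⟨hv, he⟩, hk⟩ := h
  refine ⟨val_of_validC hv, he ▸ val_of_validC hv, ?_⟩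
  rw [← he]
  rcases hk with hk | hk
  · rw [hk, node, one_mul, mul_one] <;> simp
  · rw [hk, R.th_neg, one_mul, mul_one]

theorem derived_holds (hTv : Val Dat.tri.a ∧ Val Dat.tri.b ∧ Val Dat.tri.c ∧ Val Dat.tri.nu)
    (hT : R.xiE Dat.tri.c * R.xiE Dat.tri.a * R.xiE Dat.tri.b = R.th Dat.tri.nu) :
    (⟨Dat.facts, Dat.pairs⟩ : DState).Holds R (node R) :=
  run_spec R (node R) hTv hT (node_defs R) Dat.steps _ _ (init_holds R) run_eq

theorem stays_of_full {k B : ℕ} (hB : B = 2 ^ 3542 - 1) (h : Covers R (node R) nr 6 k B) (n : MN) :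
    Stays R (node R) 6 k n := by
  obtain ⟨e, he, hc⟩ := exists_label n
  refine stays_of_Cl hc (h e ?_)
  rw [hB, Nat.testBit_two_pow_sub_one]
  exact decide_eq_true he

theorem index_le {k I : ℕ} {ids : List ℕ} {slp : List (ℕ × ℕ × ℕ)} {lv : List (ℕ × List ℕ)}
    (hP : ∀ q ∈ Dat.pairs, q.Holds R (node R))
    (hnode : (ids.all fun i => Nat.blt i Dat.pairs.length && (Dat.pairs.getD i ⟨0, oneC, oneC⟩).k == k) = true)
    (hok : chainOKU [] (mkLevels (chainVals ids slp) lv) = true)
    (hI : Nat.ble (4096 * 244823040) (((mkLevels (chainVals ids slp) lv).map fun l => l.els.length).prod * I) = true) :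
    (stabN R (node R) k).index ≤ I := by
  refine index_le_of_chain hok (mkLevels_mem (slpC_mem _ _ fun c hc => ?_) _) card_monoGroup (Nat.le_of_ble_eq_true hI)
  rcases List.mem_cons.1 hc with rfl | hc
  · exact ⟨val_one, el_one ▸ one_mem _⟩
  obtain ⟨i, hi, rfl⟩ := List.mem_map.1 hc
  have h := List.all_eq_true.1 hnode i hi
  simp only [Bool.and_eq_true, beq_iff_eq, Nat.blt_eq] at h
  obtain ⟨h1, h2⟩ := h
  have key : ∀ q ∈ Dat.pairs, q.k = k → Val q.h ∧ el q.h ∈ stabN R (node R) k := fun q hq e =>
    ⟨(hP q hq).2.1, e ▸ mem_stabN_of_pair (hP q hq)⟩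
  refine key _ ?_ h2
  rw [List.getD_eq_getElem _ _ h1]
  exact List.getElem_mem h1

/-- A group with these relations generated by the monomial group and the sextet element is no larger than the
first Conway group. -/
theorem Rels.card_top_le [Finite G] (R : Rels G) : Nat.card R.top ≤ 4157776806543360000 := by
  obtain ⟨hTv, hT⟩ := R.tri_holds
  set S := R.toBase
  obtain ⟨hF, hP⟩ := derived_holds S hTv hT
  have hall : ∀ k < 6, ∀ n, Stays S (node S) 6 k n := by
    intro k hk n
    interval_cases k
    · refine stays_of_full S cov_full0 ?_ n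
      refine moveStep_spec val_nr hP _ _ _ (eq_of_optIs move_chk0_13) ?_
      refine moveStep_spec val_nr hP _ _ _ (eq_of_optIs move_chk0_12) ?_
      refine moveStep_spec val_nr hP _ _ _ (eq_of_optIs move_chk0_11) ?_
      refine moveStep_spec val_nr hP _ _ _ (eq_of_optIs move_chk0_10) ?_
      refine moveStep_spec val_nr hP _ _ _ (eq_of_optIs move_chk0_9) ?_
      refine moveStep_spec val_nr hP _ _ _ (eq_of_optIs move_chk0_8) ?_
      refine moveStep_spec val_nr hP _ _ _ (eq_of_optIs move_chk0_7) ?_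
      refine moveStep_spec val_nr hP _ _ _ (eq_of_optIs move_chk0_6) ?_
      refine moveStep_spec val_nr hP _ _ _ (eq_of_optIs move_chk0_5) ?_
      refine moveStep_spec val_nr hP _ _ _ (eq_of_optIs move_chk0_4) ?_
      refine moveStep_spec val_nr hP _ _ _ (eq_of_optIs move_chk0_3) ?_
      refine moveStep_spec val_nr hP _ _ _ (eq_of_optIs move_chk0_2) ?_
      refine moveStep_spec val_nr hP _ _ _ (eq_of_optIs move_chk0_1) ?_
      refine moveStep_spec val_nr hP _ _ _ (eq_of_optIs move_chk0_0) ?_
      exact seedStep_spec hF _ _ _ (eq_of_optIs seed_chk0) covers_zero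
    · refine stays_of_full S cov_full1 ?_ n
      refine moveStep_spec val_nr hP _ _ _ (eq_of_optIs move_chk1_13) ?_
      refine moveStep_spec val_nr hP _ _ _ (eq_of_optIs move_chk1_12) ?_
      refine moveStep_spec val_nr hP _ _ _ (eq_of_optIs move_chk1_11) ?_
      refine moveStep_spec val_nr hP _ _ _ (eq_of_optIs move_chk1_10) ?_
      refine moveStep_spec val_nr hP _ _ _ (eq_of_optIs move_chk1_9) ?_
      refine moveStep_spec val_nr hP _ _ _ (eq_of_optIs move_chk1_8) ?_
      refine moveStep_spec val_nr hP _ _ _ (eq_of_optIs move_chk1_7) ?_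
      refine moveStep_spec val_nr hP _ _ _ (eq_of_optIs move_chk1_6) ?_
      refine moveStep_spec val_nr hP _ _ _ (eq_of_optIs move_chk1_5) ?_
      refine moveStep_spec val_nr hP _ _ _ (eq_of_optIs move_chk1_4) ?_
      refine moveStep_spec val_nr hP _ _ _ (eq_of_optIs move_chk1_3) ?_
      refine moveStep_spec val_nr hP _ _ _ (eq_of_optIs move_chk1_2) ?_
      refine moveStep_spec val_nr hP _ _ _ (eq_of_optIs move_chk1_1) ?_
      refine moveStep_spec val_nr hP _ _ _ (eq_of_optIs move_chk1_0) ?_
      exact seedStep_spec hF _ _ _ (eq_of_optIs seed_chk1) covers_zero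
    · refine stays_of_full S cov_full2 ?_ n
      refine moveStep_spec val_nr hP _ _ _ (eq_of_optIs move_chk2_13) ?_
      refine moveStep_spec val_nr hP _ _ _ (eq_of_optIs move_chk2_12) ?_
      refine moveStep_spec val_nr hP _ _ _ (eq_of_optIs move_chk2_11) ?_
      refine moveStep_spec val_nr hP _ _ _ (eq_of_optIs move_chk2_10) ?_
      refine moveStep_spec val_nr hP _ _ _ (eq_of_optIs move_chk2_9) ?_
      refine moveStep_spec val_nr hP _ _ _ (eq_of_optIs move_chk2_8) ?_
      refine moveStep_spec val_nr hP _ _ _ (eq_of_optIs move_chk2_7) ?_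
      refine moveStep_spec val_nr hP _ _ _ (eq_of_optIs move_chk2_6) ?_
      refine moveStep_spec val_nr hP _ _ _ (eq_of_optIs move_chk2_5) ?_
      refine moveStep_spec val_nr hP _ _ _ (eq_of_optIs move_chk2_4) ?_
      refine moveStep_spec val_nr hP _ _ _ (eq_of_optIs move_chk2_3) ?_
      refine moveStep_spec val_nr hP _ _ _ (eq_of_optIs move_chk2_2) ?_
      refine moveStep_spec val_nr hP _ _ _ (eq_of_optIs move_chk2_1) ?_
      refine moveStep_spec val_nr hP _ _ _ (eq_of_optIs move_chk2_0) ?_
      exact seedStep_spec hF _ _ _ (eq_of_optIs seed_chk2) covers_zero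
    · refine stays_of_full S cov_full3 ?_ n
      refine moveStep_spec val_nr hP _ _ _ (eq_of_optIs move_chk3_13) ?_
      refine moveStep_spec val_nr hP _ _ _ (eq_of_optIs move_chk3_12) ?_
      refine moveStep_spec val_nr hP _ _ _ (eq_of_optIs move_chk3_11) ?_
      refine moveStep_spec val_nr hP _ _ _ (eq_of_optIs move_chk3_10) ?_
      refine moveStep_spec val_nr hP _ _ _ (eq_of_optIs move_chk3_9) ?_
      refine moveStep_spec val_nr hP _ _ _ (eq_of_optIs move_chk3_8) ?_
      refine moveStep_spec val_nr hP _ _ _ (eq_of_optIs move_chk3_7) ?_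
      refine moveStep_spec val_nr hP _ _ _ (eq_of_optIs move_chk3_6) ?_
      refine moveStep_spec val_nr hP _ _ _ (eq_of_optIs move_chk3_5) ?_
      refine moveStep_spec val_nr hP _ _ _ (eq_of_optIs move_chk3_4) ?_
      refine moveStep_spec val_nr hP _ _ _ (eq_of_optIs move_chk3_3) ?_
      refine moveStep_spec val_nr hP _ _ _ (eq_of_optIs move_chk3_2) ?_
      refine moveStep_spec val_nr hP _ _ _ (eq_of_optIs move_chk3_1) ?_
      refine moveStep_spec val_nr hP _ _ _ (eq_of_optIs move_chk3_0) ?_
      exact seedStep_spec hF _ _ _ (eq_of_optIs seed_chk3) covers_zero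
    · refine stays_of_full S cov_full4 ?_ n
      refine moveStep_spec val_nr hP _ _ _ (eq_of_optIs move_chk4_13) ?_
      refine moveStep_spec val_nr hP _ _ _ (eq_of_optIs move_chk4_12) ?_
      refine moveStep_spec val_nr hP _ _ _ (eq_of_optIs move_chk4_11) ?_
      refine moveStep_spec val_nr hP _ _ _ (eq_of_optIs move_chk4_10) ?_
      refine moveStep_spec val_nr hP _ _ _ (eq_of_optIs move_chk4_9) ?_
      refine moveStep_spec val_nr hP _ _ _ (eq_of_optIs move_chk4_8) ?_
      refine moveStep_spec val_nr hP _ _ _ (eq_of_optIs move_chk4_7) ?_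
      refine moveStep_spec val_nr hP _ _ _ (eq_of_optIs move_chk4_6) ?_
      refine moveStep_spec val_nr hP _ _ _ (eq_of_optIs move_chk4_5) ?_
      refine moveStep_spec val_nr hP _ _ _ (eq_of_optIs move_chk4_4) ?_
      refine moveStep_spec val_nr hP _ _ _ (eq_of_optIs move_chk4_3) ?_
      refine moveStep_spec val_nr hP _ _ _ (eq_of_optIs move_chk4_2) ?_
      refine moveStep_spec val_nr hP _ _ _ (eq_of_optIs move_chk4_1) ?_
      refine moveStep_spec val_nr hP _ _ _ (eq_of_optIs move_chk4_0) ?_
      exact seedStep_spec hF _ _ _ (eq_of_optIs seed_chk4) covers_zero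
    · refine stays_of_full S cov_full5 ?_ n
      refine moveStep_spec val_nr hP _ _ _ (eq_of_optIs move_chk5_13) ?_
      refine moveStep_spec val_nr hP _ _ _ (eq_of_optIs move_chk5_12) ?_
      refine moveStep_spec val_nr hP _ _ _ (eq_of_optIs move_chk5_11) ?_
      refine moveStep_spec val_nr hP _ _ _ (eq_of_optIs move_chk5_10) ?_
      refine moveStep_spec val_nr hP _ _ _ (eq_of_optIs move_chk5_9) ?_
      refine moveStep_spec val_nr hP _ _ _ (eq_of_optIs move_chk5_8) ?_
      refine moveStep_spec val_nr hP _ _ _ (eq_of_optIs move_chk5_7) ?_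
      refine moveStep_spec val_nr hP _ _ _ (eq_of_optIs move_chk5_6) ?_
      refine moveStep_spec val_nr hP _ _ _ (eq_of_optIs move_chk5_5) ?_
      refine moveStep_spec val_nr hP _ _ _ (eq_of_optIs move_chk5_4) ?_
      refine moveStep_spec val_nr hP _ _ _ (eq_of_optIs move_chk5_3) ?_
      refine moveStep_spec val_nr hP _ _ _ (eq_of_optIs move_chk5_2) ?_
      refine moveStep_spec val_nr hP _ _ _ (eq_of_optIs move_chk5_1) ?_
      refine moveStep_spec val_nr hP _ _ _ (eq_of_optIs move_chk5_0) ?_
      exact seedStep_spec hF _ _ _ (eq_of_optIs seed_chk5) covers_zero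
  have hsub : (R.top : Set G) ⊆ cosets S (node S) 6 := fun x hx =>
    closure_subset rfl (by norm_num) hall (R.top_le hx)
  have h1 : Nat.card R.top ≤ Nat.card (cosets S (node S) 6) :=
    Nat.card_le_card_of_injective (Set.inclusion hsub) (Set.inclusion_injective hsub)
  have h2 := card_cosets_le (R := S) (g := node S) 6
  have h3 := card_range_le (R := S)
  rw [card_monoGroup] at h3
  simp only [Finset.sum_range_succ, Finset.sum_range_zero] at h2
  have i0 := index_le S hP chain_node0 chain_ok0 chain_prod0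
  have i1 := index_le S hP chain_node1 chain_ok1 chain_prod1
  have i2 := index_le S hP chain_node2 chain_ok2 chain_prod2
  have i3 := index_le S hP chain_node3 chain_ok3 chain_prod3
  have i4 := index_le S hP chain_node4 chain_ok4 chain_prod4
  have i5 := index_le S hP chain_node5 chain_ok5 chain_prod5
  refine h1.trans (h2.trans ((Nat.mul_le_mul (show Nat.card S.θ.range ≤ 501397585920 by omega)
    (show _ ≤ 8292375 by omega)).trans (le_of_eq (by norm_num))))

end CfsgLib.Co1Uniq
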