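import Cfsg.Agent.Co1Uniq.Words
import Cfsg.Agent.Co1Golay.Main

/-!
The normaliser of the elementary subgroup as a group of monomial elements.
-/

set_option autoImplicit false
set_option maxRecDepth 100000
set_option synthInstance.maxSize 4096
set_option linter.style.haveILetI false
set_option linter.unusedSectionVars false

namespace CfsgLib.Co1Uniq

open CfsgLib.Golay (vec vec_xor word word_mod word_lt vec_inj comb comb_xor wt permMask toList vec_permMask)
open CfsgLib.Co1Invol CfsgLib.Co1Golay Subgroup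

variable {G : Type*} [Group G]

/-- The sign changes and the permutations inside the normaliser. -/
structure NormFrame (z : G) (A : Subgroup G) where
  /-- Sign changes, by masks. -/
  sg : ℕ → G
  /-- Permutations. -/
  pm : ↥Cfsg.M24 →* G
  sg_xor : ∀ a b, IsWord a → IsWord b → sg (a ^^^ b) = sg a * sg b
  sg_one : sg 16777215 = 1
  pm_sg : ∀ (σ : ↥Cfsg.M24) (a b : ℕ), IsWord a → IsWord b →
    (∀ p, vec b p = vec a ((σ : Equiv.Perm Cfsg.GolayPt).symm p)) → pm σ * sg a * (pm σ)⁻¹ = sg b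
  sg_eq_one : ∀ a, IsWord a → sg a = 1 → a = 0 ∨ a = 16777215
  mem_A : ∀ x, x ∈ A ↔ ∃ a, IsWord a ∧ sg a = x
  pm_meet : ∀ σ, pm σ ∈ A → σ = 1
  norm_eq : A ⊔ pm.range = normalizer (A : Set G)
  oct_z : ∀ a, IsWord a → wt 24 a = 8 ∨ wt 24 a = 16 → IsConj z (sg a)
  z_word : sg 13062145 = z

namespace NormFrame

variable {z : G} {A : Subgroup G} (F : NormFrame z A)

/-- The value of a monomial element. -/
noncomputable def ev (q : MonoW) : G := F.sg q.2 * F.pm (permM q.1)

theorem sg_zero : F.sg 0 = 1 := by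
  have h := F.sg_xor 0 0 isWord_zero isWord_zero
  rw [Nat.xor_self] at h
  exact left_eq_mul.1 h

theorem sg_sq {a : ℕ} (ha : IsWord a) : F.sg a * F.sg a = 1 := by
  rw [← F.sg_xor a a ha ha, Nat.xor_self, sg_zero]

theorem sg_full {a : ℕ} (ha : IsWord a) : F.sg (a ^^^ 16777215) = F.sg a := by
  rw [F.sg_xor a _ ha isWord_full, F.sg_one, mul_one]

theorem pm_sg' (σ : ↥Cfsg.M24) {a : ℕ} (ha : IsWord a) : F.pm σ * F.sg a * (F.pm σ)⁻¹ =
    F.sg (permMask (toList (σ : Equiv.Perm Cfsg.GolayPt)) a 24) :=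
  F.pm_sg σ a _ ha (ha.permMask_mem σ) fun p => by rw [vec_permMask]; rfl

theorem ev_mul {a b : MonoW} (ha : OKW a) (hb : OKW b) (hab : OKW (mulW a b)) :
    F.ev (mulW a b) = F.ev a * F.ev b := by
  have hl := ha.toList
  have hp : permM (mulW a b).1 = permM a.1 * permM b.1 := by
    refine permM_eq _ ?_ hab.1
    rw [show ((permM a.1 * permM b.1 : ↥Cfsg.M24) : Equiv.Perm Cfsg.GolayPt) =
      (permM a.1 : Equiv.Perm Cfsg.GolayPt) * (permM b.1 : Equiv.Perm Cfsg.GolayPt) from rfl,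
      CfsgLib.Golay.toList_mul, ha.toList, hb.toList]
    rfl
  show F.sg (a.2 ^^^ permMask a.1 b.2 24) * F.pm (permM (mulW a b).1) = _
  rw [hp, map_mul]
  have e1 := F.pm_sg' (permM a.1) hb.isWord
  rw [hl] at e1
  rw [F.sg_xor _ _ ha.isWord (hl ▸ hb.isWord.permMask_mem (permM a.1)), ← e1]
  simp only [ev]
  group

theorem ev_eqW {a b : MonoW} (ha : OKW a) (hb : OKW b) (h : eqW a b = true) : F.ev a = F.ev b := by
  simp only [eqW, Bool.and_eq_true, Bool.or_eq_true, beq_iff_eq] at h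
  unfold ev
  rw [h.1]
  rcases h.2 with e | e <;> rw [e]
  rw [F.sg_full hb.isWord]

end NormFrame

variable [Finite G] {z : G}

theorem z_octad : wt 24 (cWord 1) = 8 ∨ wt 24 (cWord 1) = 16 := by decide +kernel

theorem cWord_one : cWord 1 = 13062145 := by decide +kernel

/-- The mask of a word. -/
def maskOf (w : ℕ) : ℕ := comb maskImgs (w % 4096)

theorem xor_mod_4096 (a b : ℕ) : (a ^^^ b) % 4096 = a % 4096 ^^^ b % 4096 :=
  Nat.xor_mod_two_pow (n := 12)

theorem maskOf_xor (a b : ℕ) : maskOf (a ^^^ b) = maskOf a ^^^ maskOf b := by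
  rw [maskOf, xor_mod_4096, comb_xor]; rfl

theorem maskOf_spec {w : ℕ} (hw : IsWord w) :
    maskOf w < 2048 ∧ ∃ k : ZMod 2, ∀ p, vec w p = V (maskOf w) p + k := by
  obtain ⟨h1, h2, h3⟩ := CfsgLib.Golay.forall_lt_4096 (P := fun c => comb maskImgs c < 2048 ∧
    comb oneImgs c < 2 ∧ comb codeImgs (comb maskImgs c) ^^^ (4095 * comb oneImgs c) = c) code_coords
      (w % 4096) (Nat.mod_lt _ (by norm_num))
  refine ⟨h1, (comb oneImgs (w % 4096) : ZMod 2), fun p => ?_⟩
  conv_lhs => rw [← hw.word_eq, ← h3, word, comb_xor, vec_xor, Pi.add_apply]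
  show V _ p + _ = _
  congr 1
  interval_cases hk : comb oneImgs (w % 4096)
  · rw [mul_zero, show comb CfsgLib.Golay.rows 0 = 0 by decide +kernel, CfsgLib.Golay.vec_zero]; simp
  · rw [mul_one, show comb CfsgLib.Golay.rows 4095 = word 4095 from rfl, one_vec]; simp

theorem shift_aux : ∀ x y k ka kb : ZMod 2, y + kb = x + ka → x + k = y + (k + ka + kb) := by decide

/-- The normaliser of the elementary subgroup, in monomial form. -/
theorem exists_normFrame {D : Dat z} {B : Base D} (St : Pr B w2 v2) (Su : Pr B x1 x2) (hB : Good B) :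
    ∃ F : NormFrame z (Ab B hB), ∀ w, F.sg w = phi B (maskOf w) := by
  classical
  let N := normalizer (Ab B hB : Set G)
  obtain ⟨θ, hθ, hker, hsurj, -⟩ : ∃ θ : ↥N →* ↥Cfsg.M24, _ := exists_iso St Su hB
  obtain ⟨K, hK⟩ : ∃ K : Subgroup ↥N, _ := exists_split St Su hB
  have hinj : Function.Injective (θ.comp K.subtype) := by
    rw [← MonoidHom.ker_eq_bot_iff, eq_bot_iff]
    intro k hk
    have hk' : (k : N) ∈ (Ab B hB).subgroupOf N := hker ▸ (MonoidHom.mem_ker.2 hk)
    exact Subgroup.mem_bot.2 (Subtype.ext (Subgroup.mem_bot.1 (hK.disjoint.le_bot ⟨hk', k.2⟩)))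
  have hsurj' : Function.Surjective (θ.comp K.subtype) := fun s => by
    obtain ⟨n, rfl⟩ := hsurj s
    obtain ⟨⟨a, k⟩, rfl⟩ := hK.2 n
    refine ⟨k, ?_⟩
    have ha : θ (a : N) = 1 := by
      rw [← MonoidHom.mem_ker, hker]
      exact a.2
    show θ (k : N) = θ ((a : N) * (k : N))
    rw [map_mul, ha, one_mul]
  let e := MulEquiv.ofBijective (θ.comp K.subtype) ⟨hinj, hsurj'⟩
  let pm : ↥Cfsg.M24 →* G := (N.subtype.comp K.subtype).comp e.symm.toMonoidHom
  have hpm : ∀ σ, pm σ ∈ N := fun σ => ((e.symm σ : K) : N).2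
  have hpθ : ∀ σ (h : pm σ ∈ N), θ ⟨pm σ, h⟩ = σ := fun σ _ => e.apply_symm_apply σ
  refine ⟨{
    sg := fun w => phi B (maskOf w)
    pm := pm
    sg_xor := fun a b _ _ => by show phi B (maskOf (a ^^^ b)) = _; rw [maskOf_xor, phi_xor hB]
    sg_one := ?_
    pm_sg := ?_
    sg_eq_one := ?_
    mem_A := ?_
    pm_meet := ?_
    norm_eq := ?_
    oct_z := ?_
    z_word := ?_ }, fun w => rfl⟩
  · show phi B (maskOf 16777215) = 1
    rw [show maskOf 16777215 = 0 by decide +kernel]; exact ev_zero _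
  · intro σ a b ha hb h
    obtain ⟨hma, ka, hka⟩ := maskOf_spec ha
    obtain ⟨hmb, kb, hkb⟩ := maskOf_spec hb
    obtain ⟨m', hm', he⟩ := conj_phi hB (hpm σ) (maskOf a)
    obtain ⟨k, hk⟩ := hθ ⟨pm σ, hpm σ⟩ _ hma m' hm' he
    rw [hpθ σ] at hk
    rw [he, (V_inj hm' hmb (k := k + ka + kb) fun p => ?_).1]
    have e1 := h p
    rw [hkb p, hka _] at e1
    rw [hk p]
    exact shift_aux _ _ _ _ _ e1
  · intro a ha h
    obtain ⟨hma, k, hk⟩ := maskOf_spec ha
    have h0 := phi_eq_one hB hma h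
    have hv : ∀ p, vec a p = k := fun p => by
      rw [hk p, h0]
      show vec (cWord 0) p + k = k
      rw [show cWord 0 = 0 by decide +kernel, CfsgLib.Golay.vec_zero]; simp
    rcases (by decide : ∀ k : ZMod 2, k = 0 ∨ k = 1) k with rfl | rfl
    · left
      exact vec_inj ha.1 (by norm_num) (funext fun p => by rw [hv p, CfsgLib.Golay.vec_zero]; rfl)
    · right
      refine vec_inj ha.1 (by norm_num) (funext fun p => ?_)
      rw [hv p, ← one_word.1, one_vec]; rfl
  · intro x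
    constructor
    · intro hx
      obtain ⟨m, hm, rfl⟩ := mem_Ab.1 hx
      have hc : comb codeImgs m < 4096 := (two_level (P := fun m => comb codeImgs m < 4096 ∧
        comb codeImgs m ≠ 4095 ∧ (comb codeImgs m = 0 → m = 0)) imgs_indep hm).1
      have hW : IsWord (cWord m) := isWord_word hc
      obtain ⟨h1, k, hk⟩ := maskOf_spec hW
      exact ⟨_, hW, congrArg (phi B) (V_inj hm h1 (k := k) hk).1.symm⟩
    · rintro ⟨a, -, rfl⟩; exact phi_mem hB _
  · intro σ h
    rw [← hpθ σ (hpm σ), ← MonoidHom.mem_ker, hker]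
    exact h
  · refine le_antisymm (sup_le le_normalizer (by rintro _ ⟨σ, rfl⟩; exact hpm σ)) fun n hn => ?_
    obtain ⟨⟨a, k⟩, he⟩ := hK.2 ⟨n, hn⟩
    have h1 : ((a : N) : G) * ((k : N) : G) = n := congrArg Subtype.val he
    rw [← h1]
    exact mul_mem_sup a.2 ⟨e k, congrArg (fun x : K => ((x : N) : G)) (e.symm_apply_apply k)⟩
  · intro a ha h
    obtain ⟨hma, k, hk⟩ := maskOf_spec ha
    have hn := (norm_shift k (w := vec a) (w' := V (maskOf a)) hk).1 (by
      rw [CfsgLib.Golay.hammingNorm_eq, CfsgLib.Golay.support_vec, CfsgLib.Golay.card_pts]; exact h)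
    rw [norm_V] at hn
    have h0 : maskOf a ≠ 0 := fun e0 => by rw [e0] at hn; revert hn; decide +kernel
    have hw := (two_level (P := fun m => (octSet.testBit m = true ↔ wt 24 (cWord m) = 8 ∨ wt 24 (cWord m) = 16) ∧
      (dodSet.testBit m = true ↔ wt 24 (cWord m) = 12)) weights hma).1.2 hn
    exact (bit_iff St Su hB hma h0).1.1 hw
  · show phi B (maskOf 13062145) = z
    rw [show maskOf 13062145 = 1 by decide +kernel]; exact z_eq_phi

end CfsgLib.Co1Uniq
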