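import Cfsg.Agent.Co1Uniq.NormModel
import Cfsg.Agent.Co1Loc.Local
import Cfsg.Agent.Golay.Complement

/-!
The extraspecial subgroup inside the monomial group: sign changes constant on the octad of the central involution
and the permutations fixing it pointwise.
-/

set_option autoImplicit false
set_option maxRecDepth 100000
set_option synthInstance.maxSize 4096
set_option linter.style.haveILetI false
set_option linter.unusedSectionVars false

namespace CfsgLib.Co1Uniq

open CfsgLib.Golay (vec vec_xor word word_lt word_mod vec_inj comb wt pts permMask toList vec_permMask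
  idx pt idx_pt pt_idx idx_lt compL)
open CfsgLib.Co1Invol CfsgLib.Co1Golay Subgroup
open scoped Pointwise

/-- The octad of the central involution, as a mask. -/
def zO : ℕ := 13062145

/-- Constant on the octad. -/
def ConstO (w : ℕ) : Prop := w &&& zO = 0 ∨ w &&& zO = zO

instance (w : ℕ) : Decidable (ConstO w) := by unfold ConstO; infer_instance

theorem zO_word : IsWord zO := isWord_of_eq (by decide +kernel)

theorem zO_wt : wt 24 zO = 8 := by decide +kernel

/-- The images of the low masks. -/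
def lowπ (m : ℕ) : M8 :=
  (if m.testBit 1 then e0 else 0) + (if m.testBit 2 then x1 else 0) + (if m.testBit 3 then x2 else 0) +
    (if m.testBit 4 then x3 else 0)

theorem lowπ_surj : ∀ u : M8, inW u → ∃ m : Fin 32, lowπ m.val = u := by decide +kernel

theorem const_low : ∀ a < 64, ∀ b < 64,
    maskOf (word (64 * a + b)) < 32 ↔ ConstO (word (64 * a + b)) := by decide +kernel

theorem pair_words : ∀ i < 24, ∀ j < 24, zO.testBit i = true → zO.testBit j = true → i ≠ j →
    (List.range 4096).any (fun c => word c &&& zO == 2 ^ i ||| 2 ^ j) = true := by decide +kernel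

theorem zO_pts : ∀ p : Cfsg.GolayPt, ∀ q : Cfsg.GolayPt, zO.testBit (idx p) = true → zO.testBit (idx q) = true →
    ∃ r : Cfsg.GolayPt, zO.testBit (idx r) = true ∧ r ≠ p ∧ r ≠ q := by decide +kernel

theorem zO_four : ∀ p q r s : Cfsg.GolayPt, ∃ t : Cfsg.GolayPt,
    zO.testBit (idx t) = true ∧ t ≠ p ∧ t ≠ q ∧ t ≠ r ∧ t ≠ s := by
  intro p q r s
  by_contra h
  push Not at h
  have hsub : pts zO ⊆ {p, q, r, s} := fun t ht => by
    simp only [pts, Finset.mem_filter, Finset.mem_univ, true_and] at ht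
    by_cases h1 : t = p; · simp [h1]
    by_cases h2 : t = q; · simp [h2]
    by_cases h3 : t = r; · simp [h3]
    simp [h t ht h1 h2 h3]
  have := (Finset.card_le_card hsub).trans Finset.card_le_four
  rw [CfsgLib.Golay.card_pts, zO_wt] at this
  omega

theorem vec_and_bit {w : ℕ} {p : Cfsg.GolayPt} (hp : zO.testBit (idx p) = true) :
    vec w p = vec (w &&& zO) p := by
  simp [vec, Nat.testBit_and, hp]

theorem ConstO.vec_eq {w : ℕ} (h : ConstO w) {p q : Cfsg.GolayPt} (hp : zO.testBit (idx p) = true)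
    (hq : zO.testBit (idx q) = true) : vec w p = vec w q := by
  rw [vec_and_bit hp, vec_and_bit hq]
  rcases h with h | h <;> rw [h] <;> simp [vec, hp, hq]

/-- A permutation fixing the words modulo those constant on the octad fixes the octad pointwise. -/
theorem fix_of_shift {σ : Equiv.Perm Cfsg.GolayPt}
    (hO : ∀ p, zO.testBit (idx (σ p)) = zO.testBit (idx p))
    (h : ∀ w, IsWord w → ∃ u, ConstO u ∧ ∀ p, vec w (σ.symm p) = vec w p + vec u p)
    {p : Cfsg.GolayPt} (hp : zO.testBit (idx p) = true) : σ p = p := by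
  by_contra hne
  set a := σ p with ha
  have ha' : zO.testBit (idx a) = true := by rw [ha, hO]; exact hp
  obtain ⟨r, hr, hrp, hra⟩ := zO_pts p a hp ha'
  have hidx : idx a ≠ idx r := fun e => hra (CfsgLib.Golay.idx_injective e).symm
  obtain ⟨c, hc, hce⟩ := List.any_eq_true.1 (pair_words _ (idx_lt a) _ (idx_lt r) ha' hr hidx)
  rw [beq_iff_eq] at hce
  have hval : ∀ t, zO.testBit (idx t) = true → vec (word c) t = if t = a ∨ t = r then 1 else 0 := by
    intro t ht
    rw [vec_and_bit ht, hce]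
    simp only [vec, Nat.testBit_or, Nat.testBit_two_pow, Bool.or_eq_true, decide_eq_true_eq]
    by_cases h1 : t = a
    · simp [h1]
    by_cases h2 : t = r
    · simp [h2]
    rw [if_neg, if_neg (by tauto)]
    rintro (e | e) <;> [exact h1 (CfsgLib.Golay.idx_injective e.symm); exact h2 (CfsgLib.Golay.idx_injective e.symm)]
  obtain ⟨u, hu, hsh⟩ := h _ (isWord_word (List.mem_range.1 hc))
  have hsymm : ∀ t, zO.testBit (idx t) = true → zO.testBit (idx (σ.symm t)) = true := fun t ht => by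
    rw [← hO, σ.apply_symm_apply]; exact ht
  obtain ⟨t, ht, h1, h2, h3, h4⟩ := zO_four a r (σ a) (σ r)
  have e1 := hsh t
  rw [hval t ht, hval _ (hsymm t ht), if_neg, if_neg (by tauto), zero_add] at e1
  swap
  · rintro (e | e)
    · exact h3 (by rw [← e, σ.apply_symm_apply])
    · exact h4 (by rw [← e, σ.apply_symm_apply])
  have e2 := hsh a
  rw [hval a ha', hval _ (hsymm a ha'), if_pos (Or.inl rfl), hu.vec_eq ha' ht, ← e1, add_zero, if_neg] at e2
  · exact zero_ne_one e2
  · rw [show σ.symm a = p by rw [ha, σ.symm_apply_apply]]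
    rintro (e | e)
    exacts [hne e.symm, hrp e.symm]

/-- The permutations fixing the octad pointwise, four of them. -/
def sList : List (List ℕ) :=
  [[0, 2, 1, 5, 13, 3, 10, 15, 11, 21, 6, 8, 12, 4, 14, 7, 16, 17, 18, 20, 19, 9, 22, 23],
   [0, 3, 5, 1, 8, 2, 19, 9, 4, 7, 20, 13, 12, 11, 14, 21, 16, 17, 18, 6, 10, 15, 22, 23],
   [0, 4, 13, 8, 1, 11, 9, 19, 3, 6, 21, 5, 12, 2, 14, 20, 16, 17, 18, 7, 15, 10, 22, 23],
   [0, 6, 10, 19, 9, 20, 1, 8, 7, 4, 2, 15, 12, 21, 14, 11, 16, 17, 18, 3, 5, 13, 22, 23]]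

/-- Elements commuting with them, preserving the octad. -/
def tauList : List (List (List ℕ)) :=
  [[[23, 6, 10, 7, 2, 15, 5, 9, 11, 19, 3, 8, 17, 1, 0, 21, 14, 18, 16, 13, 4, 20, 22, 12]],
   [[16, 10, 5, 20, 6, 2, 9, 15, 19, 21, 8, 1, 0, 3, 17, 13, 14, 22, 12, 7, 4, 11, 18, 23]],
   [[16, 5, 13, 9, 11, 19, 1, 20, 6, 4, 8, 7, 17, 2, 22, 21, 14, 18, 0, 15, 10, 3, 12, 23]],
   [[0, 13, 9, 7, 19, 11, 21, 10, 2, 3, 4, 6, 23, 5, 22, 1, 17, 16, 18, 8, 15, 20, 12, 14],
    [12, 5, 15, 19, 10, 8, 20, 6, 1, 2, 11, 9, 14, 13, 22, 4, 17, 0, 23, 3, 7, 21, 16, 18]]]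

theorem sList_ok : ∀ i < 4, OKW (sList.getD i [], 0) ∧
    (List.range 24).all (fun j => !zO.testBit j || (sList.getD i []).getD j 0 == j) = true ∧
    (∀ L ∈ tauList.getD i [], OKW (L, 0) ∧ permMask L zO 24 = zO ∧
      compL L (sList.getD i []) = compL (sList.getD i []) L) := by
  decide +kernel

theorem tau_only : ∀ i < 4, ∀ m < 64,
    (tauList.getD i []).all (fun L => maskOf (permMask L (cWord (32 * m)) 24) / 32 == m) = true → m = 0 := by
  decide +kernel

variable {G : Type*} [Group G] [Finite G] {z : G} {D : Dat z} {B : Base D}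

theorem phi_low (hB : Good B) {m : ℕ} (hm : m < 32) : phi B m ∈ D.Q ∧ D.π (phi B m) = lowπ m := by
  have key : ∀ {g : G} {u : M8}, g ∈ D.Q → D.π g = u → ∀ b : Bool,
      (if b then g else 1) ∈ D.Q ∧ D.π (if b then g else 1) = if b then u else 0 := by
    intro g u hg hu b
    cases b
    · exact ⟨one_mem _, (D.π_eq_zero 1 (one_mem _)).2 (Or.inl rfl)⟩
    · exact ⟨hg, hu⟩
  obtain ⟨h0, p0⟩ := key D.pre.gen.mem (π_z D) (m.testBit 0)
  obtain ⟨h1, p1⟩ := key B.sQ B.πs (m.testBit 1)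
  obtain ⟨h2, p2⟩ := key (av_lift B 0).1 (av_lift B 0).2 (m.testBit 2)
  obtain ⟨h3, p3⟩ := key (av_lift B 1).1 (av_lift B 1).2 (m.testBit 3)
  obtain ⟨h4, p4⟩ := key (av_lift B 2).1 (av_lift B 2).2 (m.testBit 4)
  have he : phi B m = (if m.testBit 0 then z else 1) * ((if m.testBit 1 then B.s else 1) *
      ((if m.testBit 2 then av B 0 else 1) * ((if m.testBit 3 then av B 1 else 1) *
        (if m.testBit 4 then av B 2 else 1)))) := by
    interval_cases m <;> simp [phi, CfsgLib.Co1Golay.gens, CfsgLib.Co1Golay.ev, Nat.testBit_eq_decide_div_mod_eq]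
  rw [he]
  refine ⟨mul_mem h0 (mul_mem h1 (mul_mem h2 (mul_mem h3 h4))), ?_⟩
  rw [D.π_mul _ h0 _ (mul_mem h1 (mul_mem h2 (mul_mem h3 h4))), D.π_mul _ h1 _ (mul_mem h2 (mul_mem h3 h4)),
    D.π_mul _ h2 _ (mul_mem h3 h4), D.π_mul _ h3 _ h4, p0, p1, p2, p3, p4, ite_self, zero_add, lowπ]
  simp only [xv, Matrix.cons_val_zero, Matrix.cons_val_one, Matrix.cons_val, add_assoc]

theorem low_of_inW (hB : Good B) {q : G} (hq : q ∈ D.Q) (hW : inW (D.π q)) : ∃ m < 32, phi B m = q := by
  obtain ⟨m, hm⟩ := lowπ_surj _ hW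
  obtain ⟨hmQ, hmπ⟩ := phi_low hB m.2
  have h0 : D.π (q * (phi B m.val)⁻¹) = 0 := by
    rw [D.π_mul _ hq _ (inv_mem hmQ), π_inv D hmQ, hmπ, hm]
    exact CharTwo.add_self_eq_zero _
  rcases (D.π_eq_zero _ (mul_mem hq (inv_mem hmQ))).1 h0 with h | h
  · exact ⟨m, m.2, (mul_inv_eq_one.1 h).symm⟩
  · refine ⟨m.val ^^^ 1, Nat.xor_lt_two_pow (n := 5) m.2 (by norm_num), ?_⟩
    rw [phi_xor hB, z_eq_phi, mul_inv_eq_iff_eq_mul.1 h, (Ab_le_C hB (phi_mem hB m.val) z (Set.mem_singleton z)).symm]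

theorem conj_low (hB : Good B) {q : G} (hq : q ∈ D.Q) {m : ℕ} (hm : m < 2048) :
    ∃ m0 < 32, q * phi B m * q⁻¹ = phi B (m0 ^^^ m) := by
  have hmC := (hact_phi B m).1
  have hc : q * phi B m * q⁻¹ * (phi B m)⁻¹ ∈ D.Q ∧ inW (D.π (q * phi B m * q⁻¹ * (phi B m)⁻¹)) := by
    obtain ⟨h1, h2⟩ := π_conj hmC hq
    have e : q * phi B m * q⁻¹ * (phi B m)⁻¹ = q * (phi B m * q * (phi B m)⁻¹)⁻¹ := by group
    rw [e]
    refine ⟨mul_mem hq (inv_mem h1), ?_⟩
    rw [D.π_mul _ hq _ (inv_mem h1), π_inv D h1, h2, add_comm]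
    exact CfsgLib.Co1Loc.phi_range hm _
  obtain ⟨m0, h0, he⟩ := low_of_inW hB hc.1 hc.2
  exact ⟨m0, h0, by rw [phi_xor hB, he]; group⟩

theorem Q_le_norm (hB : Good B) : D.Q ≤ normalizer (Ab B hB : Set G) := by
  intro q hq
  refine mem_normalizer_of hB fun x hx => ?_
  obtain ⟨m, hm, rfl⟩ := mem_Ab.1 hx
  obtain ⟨m0, -, he⟩ := conj_low hB hq hm
  rw [he]; exact phi_mem hB _

/-! ### The sign changes and permutations of the extraspecial subgroup -/

variable {hB : Good B}

/-- The permutations fixing the octad pointwise. -/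
abbrev FixO : Type := ↥(Cfsg.M24 ⊓ fixingSubgroup (Equiv.Perm Cfsg.GolayPt) (pts zO : Set Cfsg.GolayPt))

theorem zO_octad : pts zO ∈ Cfsg.octads :=
  ⟨⟨vec zO, zO_word.2, CfsgLib.Golay.support_vec _⟩, by rw [CfsgLib.Golay.card_pts, zO_wt]⟩

theorem permMask_zero (L : List ℕ) : ∀ n, permMask L 0 n = 0
  | 0 => rfl
  | n + 1 => by simp [permMask, permMask_zero L n]

theorem permMask_xor {T : List ℕ} (hT : OKW (T, 0)) (a b : ℕ) :
    permMask T (a ^^^ b) 24 = permMask T a 24 ^^^ permMask T b 24 := by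
  have hl : toList ((permM T : ↥Cfsg.M24) : Equiv.Perm Cfsg.GolayPt) = T := hT.toList
  refine vec_inj ?_ (Nat.xor_lt_two_pow (n := 24) ?_ ?_) ?_
  rotate_right
  · rw [← hl, vec_xor, vec_permMask, vec_permMask, vec_permMask, vec_xor]; rfl
  all_goals rw [← hl]; exact CfsgLib.Golay.permMask_lt _ _

theorem vec_and (a b : ℕ) : vec (a &&& b) = vec a * vec b := by
  funext p
  simp only [vec, Nat.testBit_and, Pi.mul_apply]
  cases a.testBit (idx p) <;> cases b.testBit (idx p) <;> simp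

theorem permMask_and {T : List ℕ} (hT : OKW (T, 0)) (a b : ℕ) :
    permMask T a 24 &&& permMask T b 24 = permMask T (a &&& b) 24 := by
  have hl : toList ((permM T : ↥Cfsg.M24) : Equiv.Perm Cfsg.GolayPt) = T := hT.toList
  refine vec_inj (lt_of_le_of_lt Nat.and_le_left ?_) ?_ ?_
  rotate_right
  · rw [← hl, vec_and, vec_permMask, vec_permMask, vec_permMask, vec_and]; rfl
  all_goals rw [← hl]; exact CfsgLib.Golay.permMask_lt _ _

theorem card_FixO : Nat.card FixO = 16 := (CfsgLib.Golay.octad_fixing zO_octad).1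

theorem cWord_word {m : ℕ} (hm : m < 2048) : IsWord (cWord m) :=
  isWord_word (two_level (P := fun m => comb codeImgs m < 4096 ∧ comb codeImgs m ≠ 4095 ∧
    (comb codeImgs m = 0 → m = 0)) imgs_indep hm).1

theorem maskOf_cWord {m : ℕ} (hm : m < 2048) : maskOf (cWord m) = m := by
  obtain ⟨h1, k, hk⟩ := maskOf_spec (cWord_word hm)
  exact ((V_inj hm h1 (k := k) hk).1).symm

theorem const_of_low {w : ℕ} (hw : IsWord w) : maskOf w < 32 ↔ ConstO w := by
  rw [← hw.word_eq]
  exact CfsgLib.Golay.forall_lt_4096 (P := fun c => maskOf (word c) < 32 ↔ ConstO (word c)) const_low _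
    (Nat.mod_lt _ (by norm_num))

variable (F : NormFrame z (Ab B hB)) (hsg : ∀ w, F.sg w = phi B (maskOf w))

include hsg in
theorem sg_mem_Q {w : ℕ} (hw : IsWord w) (h : ConstO w) : F.sg w ∈ D.Q := by
  rw [hsg]; exact (phi_low hB ((const_of_low hw).2 h)).1

theorem NormFrame.decomp {z : G} {A : Subgroup G} (F : NormFrame z A) {n : G}
    (hn : n ∈ normalizer (A : Set G)) : ∃ w σ, IsWord w ∧ n = F.sg w * F.pm σ := by
  have hle : F.pm.range ≤ normalizer (A : Set G) := F.norm_eq ▸ le_sup_right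
  have h := coe_mul_of_right_le_normalizer_left A F.pm.range hle
  rw [F.norm_eq] at h
  have hmem : n ∈ (A : Set G) * (F.pm.range : Set G) := by rw [← h]; exact hn
  obtain ⟨a, ha, b, ⟨σ, rfl⟩, he⟩ := hmem
  obtain ⟨w, hw, rfl⟩ := (F.mem_A a).1 ha
  exact ⟨w, σ, hw, he.symm⟩

include hsg in
theorem exists_shift {q : G} (hq : q ∈ D.Q) {σ : ↥Cfsg.M24} {v : ℕ} (hv : IsWord v)
    (he : q = F.sg v * F.pm σ) {w : ℕ} (hw : IsWord w) :
    ∃ u, IsWord u ∧ ConstO u ∧ ∀ p, vec w ((σ : Equiv.Perm Cfsg.GolayPt).symm p) = vec w p + vec u p := by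
  set w' := permMask (toList (σ : Equiv.Perm Cfsg.GolayPt)) w 24 with hw'
  have hW' : IsWord w' := hw.permMask_mem σ
  obtain ⟨m0, h0, hc⟩ := conj_low hB hq (maskOf_spec hw).1
  have e1 : q * F.sg w * q⁻¹ = F.sg w' := by
    have e2 := F.pm_sg' σ hw
    rw [← hw'] at e2
    calc q * F.sg w * q⁻¹ = F.sg v * (F.pm σ * F.sg w * (F.pm σ)⁻¹) * (F.sg v)⁻¹ := by rw [he]; group
      _ = F.sg v * F.sg w' * (F.sg v)⁻¹ := by rw [e2]
      _ = F.sg w' := by rw [← F.sg_xor v w' hv hW', Nat.xor_comm, F.sg_xor w' v hW' hv, mul_inv_cancel_right]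
  rw [hsg w, hc, hsg w'] at e1
  have hm' : maskOf w' < 2048 := (maskOf_spec hW').1
  have hx : maskOf w' = m0 ^^^ maskOf w :=
    (phi_inj hB (Nat.xor_lt_two_pow (n := 11) (h0.trans (by norm_num)) (maskOf_spec hw).1) hm' e1).symm
  refine ⟨w' ^^^ w, hW'.xor hw, (const_of_low (hW'.xor hw)).1 ?_, fun p => ?_⟩
  · rw [maskOf_xor, hx, Nat.xor_assoc, Nat.xor_self, Nat.xor_zero]; exact h0
  · have e3 : vec w' p = vec w ((σ : Equiv.Perm Cfsg.GolayPt).symm p) := by
      rw [hw', vec_permMask]; rfl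
    rw [← e3, vec_xor, Pi.add_apply, add_left_comm, CharTwo.add_self_eq_zero, add_zero]

include hsg in
theorem fixes_of_mem_Q {q : G} (hq : q ∈ D.Q) {σ : ↥Cfsg.M24} {v : ℕ} (hv : IsWord v)
    (he : q = F.sg v * F.pm σ) : (σ : Equiv.Perm Cfsg.GolayPt) ∈
      fixingSubgroup (Equiv.Perm Cfsg.GolayPt) (pts zO : Set Cfsg.GolayPt) := by
  set L := toList (σ : Equiv.Perm Cfsg.GolayPt)
  have hz : F.sg (permMask L zO 24) = z := by
    rw [← F.pm_sg' σ zO_word, show F.sg zO = z from F.z_word]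
    have hc : q * z = z * q := (D.pre.gen.comm_z q hq).eq
    rw [he] at hc
    have hsz : F.sg v * z = z * F.sg v := by
      have e := (F.sg_xor v zO hv zO_word).symm.trans
        ((congrArg F.sg (Nat.xor_comm v zO)).trans (F.sg_xor zO v zO_word hv))
      rwa [show F.sg zO = z from F.z_word] at e
    rw [mul_inv_eq_iff_eq_mul]
    refine mul_left_cancel (a := F.sg v) ?_
    rw [← mul_assoc, hc, ← mul_assoc, ← hsz, mul_assoc]
  have hW := (zO_word).permMask_mem σ
  have h1 : F.sg (permMask L zO 24 ^^^ zO) = 1 := by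
    rw [F.sg_xor _ _ hW zO_word, hz, show F.sg zO = z from F.z_word, D.pre.gen.sq]
  have hO : permMask L zO 24 = zO := by
    rcases F.sg_eq_one _ (hW.xor zO_word) h1 with h | h
    · exact Nat.xor_eq_zero_iff.1 h
    · exfalso
      have hwt : wt 24 (permMask L zO 24) = 8 := by
        rw [← CfsgLib.Golay.card_pts, CfsgLib.Golay.pts_permMask, Finset.card_image_of_injective _ (Equiv.injective _),
          CfsgLib.Golay.card_pts, zO_wt]
      rw [show permMask L zO 24 = 16777215 ^^^ zO by rw [← h, Nat.xor_assoc, Nat.xor_self, Nat.xor_zero]] at hwt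
      revert hwt
      decide +kernel
  rw [mem_fixingSubgroup_iff]
  intro p hp
  simp only [pts, Finset.coe_filter, Finset.mem_univ, true_and, Set.mem_ofPred_eq] at hp
  refine fix_of_shift (fun r => ?_) (fun w hw => ?_) hp
  · have h2 := congrFun (congrArg vec hO) ((σ : Equiv.Perm Cfsg.GolayPt) r)
    rw [vec_permMask, Equiv.Perm.inv_def] at h2
    simp only [Equiv.symm_apply_apply, vec] at h2
    cases h3 : zO.testBit (idx r) <;> cases h4 : zO.testBit (idx ((σ : Equiv.Perm Cfsg.GolayPt) r)) <;>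
      simp_all
  · obtain ⟨u, -, hu, h⟩ := exists_shift F hsg hq hv he hw
    exact ⟨u, hu, h⟩

include hsg in
theorem exists_lift {σ : ↥Cfsg.M24} (h : (σ : Equiv.Perm Cfsg.GolayPt) ∈
    fixingSubgroup (Equiv.Perm Cfsg.GolayPt) (pts zO : Set Cfsg.GolayPt)) :
    ∃ v, IsWord v ∧ F.sg v * F.pm σ ∈ D.Q := by
  classical
  have hex : ∀ q : D.Q, ∃ w τ, IsWord w ∧ (q : G) = F.sg w * F.pm τ := fun q =>
    F.decomp (Q_le_norm hB q.2)
  choose W T hW hWT using hex
  let f : D.Q → FixO := fun q => ⟨(T q : Equiv.Perm Cfsg.GolayPt), (T q).2,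
    fixes_of_mem_Q F hsg q.2 (hW q) (hWT q)⟩
  have hdiff : ∀ q q' : D.Q, f q = f q' → ∃ m : Fin 32, ((q : G) * (q' : G)⁻¹) = phi B m.val := by
    intro q q' hqq
    have hT : T q = T q' := Subtype.ext (congrArg (fun x : FixO => (x : Equiv.Perm Cfsg.GolayPt)) hqq)
    have hA : (q : G) * (q' : G)⁻¹ ∈ Ab B hB := by
      rw [hWT q, hWT q', hT, show F.sg (W q) * F.pm (T q') * (F.sg (W q') * F.pm (T q'))⁻¹ =
        F.sg (W q) * (F.sg (W q'))⁻¹ by group]
      exact mul_mem ((F.mem_A _).2 ⟨_, hW q, rfl⟩) (inv_mem ((F.mem_A _).2 ⟨_, hW q', rfl⟩))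
    have hQ := mul_mem q.2 (inv_mem q'.2)
    have hinW : inW (D.π ((q : G) * (q' : G)⁻¹)) := by
      refine (inW_iff _).2 ⟨?_, fun i => ?_⟩
      · rw [← B.πs]
        exact (D.comm_iff _ hQ _ B.sQ).1
          (Ab_comm hB hA (gens_mem hB ((mem_gens B).2 (Or.inr (Or.inl rfl)))))
      · rw [← (av_lift B i).2]
        exact (D.comm_iff _ hQ _ (av_lift B i).1).1
          (Ab_comm hB hA (gens_mem hB ((mem_gens B).2 (Or.inr (Or.inr (Or.inl ⟨i, rfl⟩))))))
    obtain ⟨m, hm, he⟩ := low_of_inW hB hQ hinW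
    exact ⟨⟨m, hm⟩, he.symm⟩
  have hQc : Nat.card D.Q = 512 := D.card
  let g : D.Q → Set.range f × Fin 32 := fun q =>
    (⟨f q, q, rfl⟩, Classical.choose (hdiff q (Set.rangeSplitting f ⟨f q, q, rfl⟩)
      (Set.apply_rangeSplitting f ⟨f q, q, rfl⟩).symm))
  have hg : Function.Injective g := by
    intro a b hab
    have h1 := congrArg Prod.fst hab
    have ha := Classical.choose_spec (hdiff a (Set.rangeSplitting f ⟨f a, a, rfl⟩)
      (Set.apply_rangeSplitting f ⟨f a, a, rfl⟩).symm)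
    have hb := Classical.choose_spec (hdiff b (Set.rangeSplitting f ⟨f b, b, rfl⟩)
      (Set.apply_rangeSplitting f ⟨f b, b, rfl⟩).symm)
    have h2 := congrArg Prod.snd hab
    simp only [g] at h1 h2
    rw [h2] at ha
    rw [← hb] at ha
    simp only [h1] at ha
    exact Subtype.ext (mul_right_cancel ha)
  haveI : Finite FixO := Nat.finite_of_card_ne_zero (by rw [card_FixO]; norm_num)
  have hle : 512 ≤ Nat.card (Set.range f) * 32 := by
    rw [← hQc]
    refine (Nat.card_le_card_of_injective g hg).trans (le_of_eq ?_)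
    rw [Nat.card_prod, Nat.card_fin]
  have hsurj : Set.range f = Set.univ := by
    refine Set.eq_univ_of_forall fun x => ?_
    by_contra hx
    have hlt : Nat.card (Set.range f) < Nat.card FixO := by
      rw [Nat.card_coe_set_eq, ← Set.ncard_univ]
      exact Set.ncard_lt_ncard ⟨Set.subset_univ _, fun hh => hx (hh (Set.mem_univ x))⟩ (Set.toFinite _)
    rw [card_FixO] at hlt
    omega
  obtain ⟨q, hq⟩ : (⟨(σ : Equiv.Perm Cfsg.GolayPt), σ.2, h⟩ : FixO) ∈ Set.range f := hsurj ▸ Set.mem_univ _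
  have hT : T q = σ := Subtype.ext (congrArg (fun x : FixO => (x : Equiv.Perm Cfsg.GolayPt)) hq)
  exact ⟨W q, hW q, by rw [← hT, ← hWT q]; exact q.2⟩

include hsg in
theorem shift_low {u : ℕ} (hu : IsWord u) (h : F.sg u ∈ D.Q) : maskOf u < 32 := by
  have hA : F.sg u ∈ Ab B hB := (F.mem_A _).2 ⟨u, hu, rfl⟩
  have hinW : inW (D.π (F.sg u)) := by
    refine (inW_iff _).2 ⟨?_, fun i => ?_⟩
    · rw [← B.πs]
      exact (D.comm_iff _ h _ B.sQ).1
        (Ab_comm hB hA (gens_mem hB ((mem_gens B).2 (Or.inr (Or.inl rfl)))))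
    · rw [← (av_lift B i).2]
      exact (D.comm_iff _ h _ (av_lift B i).1).1
        (Ab_comm hB hA (gens_mem hB ((mem_gens B).2 (Or.inr (Or.inr (Or.inl ⟨i, rfl⟩))))))
  obtain ⟨m, hm, he⟩ := low_of_inW hB h hinW
  rw [hsg] at he
  rw [← phi_inj hB (hm.trans (by norm_num)) (maskOf_spec hu).1 he]
  exact hm

/-- The high part of the mask of an image depends on the high part only. -/
theorem high_perm {T : List ℕ} (hT : OKW (T, 0)) (hO : permMask T zO 24 = zO) {v : ℕ} (hv : IsWord v) :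
    maskOf (permMask T v 24) / 32 = maskOf (permMask T (cWord (32 * (maskOf v / 32))) 24) / 32 := by
  set m := maskOf v
  have hm : m < 2048 := (maskOf_spec hv).1
  have hlt : 32 * (m / 32) < 2048 := by omega
  set u := v ^^^ cWord (32 * (m / 32)) with hu'
  have hW := cWord_word hlt
  have hu : IsWord u := hv.xor hW
  have hul : maskOf u < 32 := by
    rw [hu', maskOf_xor, maskOf_cWord hlt]
    show m ^^^ 32 * (m / 32) < 2 ^ 5
    refine Nat.lt_of_not_le fun hge => ?_
    have : (m ^^^ 32 * (m / 32)) / 2 ^ 5 = 0 := by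
      rw [Nat.xor_div_two_pow, Nat.xor_eq_zero_iff]
      norm_num
    rw [Nat.div_eq_zero_iff] at this
    omega
  have hcu := (const_of_low hu).1 hul
  have hTl : toList ((permM T : ↥Cfsg.M24) : Equiv.Perm Cfsg.GolayPt) = T := hT.toList
  have hpu : ConstO (permMask T u 24) := by
    have hand : permMask T u 24 &&& zO = permMask T (u &&& zO) 24 := by
      conv_lhs => rw [← hO]
      exact permMask_and hT u zO
    rcases hcu with h | h
    · left; rw [hand, h]; exact permMask_zero T 24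
    · right; rw [hand, h, hO]
  have hvu : v = u ^^^ cWord (32 * (m / 32)) := by
    rw [hu', Nat.xor_assoc, Nat.xor_self, Nat.xor_zero]
  have hPu : IsWord (permMask T u 24) := hTl ▸ hu.permMask_mem _
  have hPc : IsWord (permMask T (cWord (32 * (m / 32))) 24) := hTl ▸ hW.permMask_mem _
  have hlin : permMask T v 24 = permMask T u 24 ^^^ permMask T (cWord (32 * (m / 32))) 24 := by
    conv_lhs => rw [hvu]
    exact permMask_xor hT u _
  have hl : maskOf (permMask T u 24) / 2 ^ 5 = 0 :=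
    Nat.div_eq_of_lt ((const_of_low hPu).2 hpu)
  rw [hlin, maskOf_xor, show (32 : ℕ) = 2 ^ 5 by norm_num, Nat.xor_div_two_pow, hl, Nat.zero_xor]

include hsg in
/-- The permutations of the list lie in the extraspecial subgroup. -/
theorem pm_mem_Q {i : ℕ} (hi : i < 4) : F.pm (permM (sList.getD i [])) ∈ D.Q := by
  obtain ⟨hok, hfix, htau⟩ := sList_ok i hi
  set L := sList.getD i [] with hL
  have hσ : ((permM L : ↥Cfsg.M24) : Equiv.Perm Cfsg.GolayPt) ∈
      fixingSubgroup (Equiv.Perm Cfsg.GolayPt) (pts zO : Set Cfsg.GolayPt) := by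
    rw [mem_fixingSubgroup_iff]
    intro p hp
    simp only [pts, Finset.coe_filter, Finset.mem_univ, true_and, Set.mem_ofPred_eq] at hp
    have h2 := List.all_eq_true.1 hfix (idx p) (List.mem_range.2 (idx_lt p))
    rw [hp] at h2
    simp only [Bool.not_true, Bool.false_or, beq_iff_eq] at h2
    apply CfsgLib.Golay.idx_injective
    rw [Equiv.Perm.smul_def, ← CfsgLib.Golay.toList_getD_idx, hok.toList, h2]
  obtain ⟨v, hv, hvQ⟩ := exists_lift F hsg hσ
  have hmv := (maskOf_spec hv).1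
  have key : maskOf v / 32 = 0 := by
    refine tau_only i hi _ (Nat.div_lt_of_lt_mul hmv) (List.all_eq_true.2 fun T hT => ?_)
    obtain ⟨hTok, hTO, hTc⟩ := htau T hT
    set τ := permM T with hτ
    have hτl : toList (τ : Equiv.Perm Cfsg.GolayPt) = T := hTok.toList
    have hcomm : τ * permM L = permM L * τ := Subtype.ext (CfsgLib.Golay.SylowCert.toList_injective (by
      rw [Subgroup.coe_mul, Subgroup.coe_mul, CfsgLib.Golay.toList_mul, CfsgLib.Golay.toList_mul, hτl,
        hok.toList]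
      exact hTc))
    have hτz : F.pm τ * z = z * F.pm τ := by
      have e := F.pm_sg' τ zO_word
      rw [hτl, hTO, show F.sg zO = z from F.z_word] at e
      exact mul_inv_eq_iff_eq_mul.1 e
    have h1 := D.pre.conj_mem hτz hvQ
    have e : F.pm τ * (F.sg v * F.pm (permM L)) * (F.pm τ)⁻¹ =
        F.sg (permMask T v 24) * F.pm (permM L) := by
      have e1 := F.pm_sg' τ hv
      rw [hτl] at e1
      have e2 : F.pm τ * F.pm (permM L) = F.pm (permM L) * F.pm τ := by rw [← map_mul, hcomm, map_mul]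
      calc F.pm τ * (F.sg v * F.pm (permM L)) * (F.pm τ)⁻¹
          = (F.pm τ * F.sg v * (F.pm τ)⁻¹) * (F.pm τ * F.pm (permM L) * (F.pm τ)⁻¹) := by group
        _ = _ := by rw [e1, e2, mul_inv_cancel_right]
    rw [e] at h1
    have hTv : IsWord (permMask T v 24) := hτl ▸ hv.permMask_mem τ
    have h3 : F.sg (permMask T v 24 ^^^ v) ∈ D.Q := by
      have h4 := mul_mem h1 (inv_mem hvQ)
      rw [show F.sg (permMask T v 24) * F.pm (permM L) * (F.sg v * F.pm (permM L))⁻¹ =
        F.sg (permMask T v 24) * (F.sg v)⁻¹ by group, inv_eq_of_mul_eq_one_right (F.sg_sq hv),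
        ← F.sg_xor _ _ hTv hv] at h4
      exact h4
    have h5 := shift_low F hsg (hTv.xor hv) h3
    rw [maskOf_xor] at h5
    have h6 : maskOf (permMask T v 24) / 32 = maskOf v / 32 := by
      have : (maskOf (permMask T v 24) ^^^ maskOf v) / 2 ^ 5 = 0 := by norm_num; omega
      rw [Nat.xor_div_two_pow, Nat.xor_eq_zero_iff] at this
      simpa using this
    rw [beq_iff_eq, ← high_perm hTok hTO hv]
    exact h6
  have hlow : maskOf v < 32 := by omega
  have hsv : F.sg v ∈ D.Q := sg_mem_Q F hsg hv ((const_of_low hv).1 hlow)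
  have h7 := mul_mem (inv_mem hsv) hvQ
  rwa [inv_mul_cancel_left] at h7

end CfsgLib.Co1Uniq
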