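import Cfsg.Agent.Co1Uniq.Frame
import Cfsg.Agent.Co1Uniq.TopSpace
import Cfsg.Agent.Co1Loc.Cls
import Cfsg.Agent.Co1Loc.Closure
import Cfsg.Agent.Invol.Dihedral

/-!
The monomial subgroup and the sextet element generate the group: their join contains the centraliser of
the central involution, controls the fusion of involutions, and no conjugate of that involution is outside.
-/

set_option autoImplicit false
set_option maxRecDepth 100000
set_option synthInstance.maxSize 4096
set_option linter.style.haveILetI false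
set_option linter.unusedSectionVars false

namespace CfsgLib.Co1Uniq

open CfsgLib CfsgLib.Quad CfsgLib.Co1Invol CfsgLib.Co1Golay CfsgLib.Co1Loc Subgroup

variable {G : Type*} [Group G] [Finite G] {z : G} {D : Dat z} {B : Base D}

theorem z_mem_Ab (hB : Good B) : z ∈ Ab B hB := gens_mem hB ((mem_gens B).2 (Or.inl rfl))

theorem kernel_le_normalizer (hB : Good B) : D.Q ≤ normalizer (Ab B hB : Set G) := fun q hq =>
  mem_normalizer_of_W hB (mem_C D hq) fun w hw => by rw [hact_Q hq]; exact hw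

/-- Members of the class of the central involution in the elementary subgroup are conjugate in its normaliser. -/
theorem exists_normalizer_conj (St : Pr B w2 v2) (Su : Pr B x1 x2) (hB : Good B) {e : G} (he : e ∈ Ab B hB)
    (h : IsConj z e) : ∃ n ∈ normalizer (Ab B hB : Set G), n * z * n⁻¹ = e := by
  obtain ⟨m, hm, rfl⟩ := mem_Ab.1 he
  have hm0 : m ≠ 0 := by
    rintro rfl
    obtain ⟨c, hc⟩ := isConj_iff.1 h
    rw [phi, CfsgLib.Co1Golay.ev_zero] at hc
    exact D.pre.gen.ne_one (conj_eq_one_iff.1 hc)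
  exact ((classify St Su hB hm hm0).resolve_right fun h' => h'.2 h).2

/-- A subgroup over the normaliser with an element centralising the central involution outside the normaliser
contains the whole centraliser. -/
theorem centralizer_le_of_move (hB : Good B) {H : Subgroup G} (hN : normalizer (Ab B hB : Set G) ≤ H) {x : G}
    (hx : x ∈ H) (hxC : x ∈ centralizer ({z} : Set G)) (hxN : x ∉ normalizer (Ab B hB : Set G)) :
    centralizer ({z} : Set G) ≤ H := by
  let C : Subgroup G := centralizer ({z} : Set G)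
  let Γ : Subgroup O8 := (H.subgroupOf C).map D.act
  have hΓ : Γ ≤ commutator (oGroup q8) := by
    rintro _ ⟨c, -, rfl⟩
    exact D.act_mem c
  have hmem : ∀ {y : G}, y ∈ H → y ∈ C → hact D y ∈ Γ := fun {y} h1 h2 => by
    rw [hact_eq h2]
    exact ⟨⟨y, h2⟩, h1, rfl⟩
  have hP : ∀ p, TopSpace.pE p ∈ Γ := fun p => by
    obtain ⟨c, hc, hca⟩ := exists_lift_C D
      (mul_mem (glHom_mem p.2) (sgL_comm _ (topLs_sel _ p.1.2).1) : TopSpace.pE p ∈ commutator (oGroup q8))
    have hcN : c ∈ normalizer (Ab B hB : Set G) :=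
      mem_normalizer_of_W hB hc fun w hw => by rw [hca]; exact TopSpace.pE_inW p hw
    show glHom p.2 * sgL (selL topLs p.1.val) ∈ Γ
    rw [← hca]
    exact hmem (hN hcN) hc
  have hmove : ∃ w, inW w ∧ ¬ inW ((hact D x).1 w) := by
    by_contra hcon
    push Not at hcon
    exact hxN (mem_normalizer_of_W hB hxC hcon)
  have hle := TopSpace.omega_le hΓ hP (hmem hx hxC) hmove
  intro y hy
  obtain ⟨c, hcH, hcy⟩ := hle (D.act_mem ⟨y, hy⟩)
  have hQ : (c : G)⁻¹ * y ∈ D.Q := by
    refine (D.act_eq_one (c⁻¹ * ⟨y, hy⟩)).1 ?_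
    rw [map_mul, map_inv, hcy, inv_mul_cancel]
  have hh : (c : G) * ((c : G)⁻¹ * y) ∈ H := mul_mem hcH (hN (kernel_le_normalizer hB hQ))
  rwa [mul_inv_cancel_left] at hh

/-- The coordinates inside a subgroup containing the centraliser. -/
theorem exists_dat_sub {H : Subgroup G} (hC : centralizer ({z} : Set G) ≤ H) (hzH : z ∈ H) :
    ∃ D₁ : Dat (⟨z, hzH⟩ : H), D₁.Q = D.Q.subgroupOf H := by
  have hQH : D.Q ≤ H := fun q hq => hC (mem_C D hq)
  have hcen : ∀ c : centralizer ({⟨z, hzH⟩} : Set H), ((c : H) : G) ∈ centralizer ({z} : Set G) := fun c =>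
    mem_centralizer_singleton_iff.2 (congrArg Subtype.val (mem_centralizer_singleton_iff.1 c.2))
  let ι : centralizer ({⟨z, hzH⟩} : Set H) →* centralizer ({z} : Set G) :=
    { toFun := fun c => ⟨((c : H) : G), hcen c⟩
      map_one' := rfl
      map_mul' := fun _ _ => rfl }
  have g := D.pre.gen
  refine ⟨
    { Q := D.Q.subgroupOf H
      pre := ⟨⟨g.mem, fun e => g.ne_one (congrArg Subtype.val e), Subtype.ext g.sq,
          fun x hx => Subtype.ext (g.comm_z x hx).eq, fun x hx h => ?_, ?_,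
          fun x hx y hy => ?_, fun x hx => ?_⟩, fun x hx => ?_, fun x hx => ?_⟩
      card := (Nat.card_congr (Subgroup.subgroupOfEquivOfLe hQH).toEquiv).trans D.card
      π := fun x => D.π x
      π_mul := fun a ha b hb => D.π_mul a ha b hb
      π_surj := fun m => by
        obtain ⟨q, hq, e⟩ := D.π_surj m
        exact ⟨⟨q, hQH hq⟩, hq, e⟩
      π_eq_zero := fun q hq => (D.π_eq_zero q hq).trans
        ⟨Or.imp (fun e => Subtype.ext e) (fun e => Subtype.ext e), Or.imp (congrArg Subtype.val) (congrArg Subtype.val)⟩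
      sq_iff := fun q hq => Subtype.ext_iff.trans (D.sq_iff q hq)
      comm_iff := fun a ha b hb => Subtype.ext_iff.trans (D.comm_iff a ha b hb)
      act := D.act.comp ι
      act_π := fun c q hq => D.act_π (ι c) q hq
      act_eq_one := fun c => D.act_eq_one (ι c)
      act_mem := fun c => D.act_mem (ι c)
      act_surj := fun h hh => by
        obtain ⟨c, hc⟩ := D.act_surj h hh
        exact ⟨⟨⟨c, hC c.2⟩, mem_centralizer_singleton_iff.2
          (Subtype.ext (mem_centralizer_singleton_iff.1 c.2))⟩, hc⟩ }, rfl⟩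
  · exact (g.center_iff x hx fun y hy => congrArg Subtype.val (h ⟨y, hQH hy⟩ hy).eq).imp Subtype.ext Subtype.ext
  · ext x
    rw [Extra2.mem_zpowers_iff (Subtype.ext g.sq), Subgroup.mem_map]
    constructor
    · rintro ⟨y, hy, rfl⟩
      refine (g.center_iff _ y.2 fun w hw => ?_).imp Subtype.ext Subtype.ext
      exact (congrArg Subtype.val (congrArg Subtype.val
        (Subgroup.mem_center_iff.1 hy ⟨⟨w, hQH hw⟩, hw⟩))).symm
    · rintro (rfl | rfl)
      · exact ⟨1, one_mem _, rfl⟩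
      · exact ⟨⟨⟨z, hzH⟩, g.mem⟩, Subgroup.mem_center_iff.2 fun y =>
          Subtype.ext (Subtype.ext (g.comm_z _ y.2).eq), rfl⟩
  · exact (g.comm x hx y hy).imp (fun e => Subtype.ext e) fun e => Subtype.ext e
  · exact (g.square x hx).imp (fun e => Subtype.ext e) fun e => Subtype.ext e
  · exact D.pre.self (mem_centralizer_iff.2 fun y hy =>
      congrArg Subtype.val (mem_centralizer_iff.1 hx ⟨y, hQH hy⟩ hy))
  · have h := D.pre.norm (hcen ⟨x, hx⟩)
    exact mem_normalizer_iff.2 fun y => (mem_normalizer_iff.1 h y)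

/-- An involution of rank four is never in the third class. -/
theorem not_conj_of_four (St : Pr B w2 v2) (Su : Pr B x1 x2) {x : G} (hx : x ∈ centralizer ({z} : Set G))
    (hx2 : x * x = 1) (h4 : Module.finrank (ZMod 2) (LinearMap.range (disp (hact D x))) = 4)
    (hker : LinearMap.range (disp (hact D x)) = LinearMap.ker (disp (hact D x))) :
    ¬ IsConj St.el x := by
  intro hSt
  have hg : hact D x * hact D x = 1 := hact_sq hx hx2
  obtain ⟨e, ⟨m, hm⟩, he0, hqe, hts⟩ := exists_good_point hg h4 hker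
  obtain ⟨q, hq, hqe'⟩ := D.π_surj e
  have hxq : x * q * x⁻¹ = q := by
    rw [conj_lift hx hx2 hq (hqe'.trans hm.symm), hqe', if_pos hqe, mul_one]
  obtain ⟨c, hc, hcs⟩ := exists_conj_C D hq B.sQ (by rw [hqe']; exact hqe) (by rw [B.πs]; exact q_e0)
    (by rw [hqe']; exact he0) (by rw [B.πs]; exact e0_ne)
  have hce : (hact D c).1 e = e0 := by rw [← hqe', ← (π_conj hc hq).2, hcs, B.πs]
  obtain ⟨y, hyd⟩ : ∃ y, y = c * x * c⁻¹ := ⟨_, rfl⟩
  have hyN : y ∈ B.N := by
    refine B.mem_N.2 ⟨mem_centralizer_singleton_iff.1 (hyd ▸ mul_mem (mul_mem hc hx) (inv_mem hc)),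
      mul_inv_eq_iff_eq_mul.1 ?_⟩
    conv_rhs => rw [← hcs, ← hxq]
    rw [hyd, ← hcs]; group
  have hy2 : y * y = 1 := by
    rw [hyd, show c * x * c⁻¹ * (c * x * c⁻¹) = c * (x * x) * c⁻¹ by group, hx2]; group
  obtain ⟨c', hc', b, hb, a, ha, k, hk, hka, t1, t2, he⟩ := B.to_root hyN hy2
    (by rw [hyd, finrank_conj hc hx, h4]) ⟨(hact D c).1 m, by rw [hyd, disp_conj hc hx, hm, hce]⟩
    (fun n hn => by
      obtain ⟨n, rfl⟩ : ∃ n', (hact D c).1 n' = n := ⟨_, (hact D c).1.apply_symm_apply n⟩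
      rw [hyd, disp_conj hc hx, qf_oGroup]
      refine hts n ?_
      rw [← hce, bf_oGroup] at hn
      exact hn)
  have hsq : b * a * k * (b * a * k) = 1 := by
    rw [← he, show c' * y * c'⁻¹ * (c' * y * c'⁻¹) = c' * (y * y) * c'⁻¹ by group, hy2]
    group
  obtain ⟨d, hdC, hdQ, hd2, hdts⟩ := reduce_root_ts B hb ha hk hka t1 t2 hsq
  obtain ⟨x', hx'⟩ : ∃ x', x' = d * (b * a * k) * d⁻¹ := ⟨_, rfl⟩
  rw [← hx'] at hdC hdQ hd2 hdts
  have hxx : IsConj x x' := isConj_iff.2 ⟨d * c' * c, by rw [hx', ← he, hyd]; group⟩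
  have hx'2 : x' * x' = 1 := by
    rw [hx', show d * (b * a * k) * d⁻¹ * (d * (b * a * k) * d⁻¹) = d * (b * a * k * (b * a * k)) * d⁻¹ by group,
      hsq]
    group
  rcases B.classify_two St Su hdC hdQ hx'2 hd2 with h | ⟨u, -, hu⟩ | ⟨u, hu', hu⟩
  · exact B.not_conj_z St Su (B.t_obstruction St)
      ((B.isConj_of_sing h hx'2 (fun e => hdQ (e ▸ one_mem _))).trans (hSt.trans hxx).symm)
  · exact B.not_conj_tu St Su ((isConj_iff.2 ⟨u, hu⟩).trans (hSt.trans hxx).symm)
  · have h := ts_hact_conj (inv_mem hu') hdC hdts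
    rw [show u⁻¹ * x' * u⁻¹⁻¹ = St.el by rw [← hu]; group] at h
    have h' := (pair_ts_iff B St).1 h
    rw [pair_facts.1] at h'
    exact one_ne_zero h'

theorem Pr.el_sq_st (St : Pr B w2 v2) : St.el * St.el = 1 := (B.pair_sq_iff St.hb St.ha).2 (by
  rw [St.wb, St.πa, pair_facts.1, pair_facts.2.1, pair_facts.2.2.1]; exact ⟨rfl, rfl⟩)

theorem el_st_nonTS (St : Pr B w2 v2) : NonTS D St.el := by
  by_contra h
  have h' := (pair_ts_iff B St).1 (not_nonTS_iff.1 h)
  rw [pair_facts.1] at h'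
  exact one_ne_zero h'

theorem finrank_two (St : Pr B w2 v2) (Su : Pr B x1 x2) {x : G} (hx : x ∈ centralizer ({z} : Set G))
    (hx2 : x * x = 1) (hxQ : x ∉ D.Q) (h : IsConj St.el x) :
    Module.finrank (ZMod 2) (LinearMap.range (disp (hact D x))) = 2 :=
  (rank_cases (hact_sq hx hx2) (hact_mem _) (fun e => hxQ (mem_Q_of_hact hx e))).resolve_right
    fun h4 => not_conj_of_four St Su hx hx2 h4.1 h4.2 h

/-- Multiplying a member of the third class by the central involution gives another. -/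
theorem conj_mul_z (St : Pr B w2 v2) (Su : Pr B x1 x2) {x : G} (hx : x ∈ centralizer ({z} : Set G))
    (h : IsConj St.el x) : IsConj St.el (x * z) := by
  have hobs := B.t_obstruction St
  have hxz : x * z = z * x := mem_centralizer_singleton_iff.1 hx
  obtain ⟨c₀, hc₀⟩ := isConj_iff.1 h
  have hx2 : x * x = 1 := by
    rw [← hc₀, show c₀ * St.el * c₀⁻¹ * (c₀ * St.el * c₀⁻¹) = c₀ * (St.el * St.el) * c₀⁻¹ by group,
      Pr.el_sq_st St]
    group
  have hzC : z ∈ centralizer ({z} : Set G) := mem_C D D.pre.gen.mem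
  have hxQ : x ∉ D.Q := fun hQ => by
    by_cases hz : x = z
    · exact B.not_conj_z St Su hobs (hz ▸ h).symm
    have hx1 : x ≠ 1 := fun e => hobs.notQ (by
      rw [show St.el = c₀⁻¹ * x * c₀ by rw [← hc₀]; group, e]
      simp)
    obtain ⟨c, -, hc⟩ := exists_conj_C D B.sQ hQ (by rw [B.πs]; exact q_e0) ((D.sq_iff x hQ).1 hx2)
      (by rw [B.πs]; exact e0_ne) (fun e => ((D.π_eq_zero x hQ).1 e).elim hx1 hz)
    exact B.not_conj_z St Su hobs (((isConj_iff.2 ⟨B.g, B.gz⟩).trans (isConj_iff.2 ⟨c, hc⟩)).trans h.symm)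
  rcases B.classify_two St Su hx hxQ hx2 (finrank_two St Su hx hx2 hxQ h) with h' | ⟨c, -, hc⟩ | ⟨c, hc', hc⟩
  · exact absurd ((B.isConj_of_sing h' hx2 (fun e => hxQ (e ▸ one_mem _))).trans h.symm) (B.not_conj_z St Su hobs)
  · exact absurd ((isConj_iff.2 ⟨c, hc⟩).trans h.symm) (B.not_conj_tu St Su)
  have htz : IsConj St.el (St.el * z) := by
    have hC : St.el * z ∈ centralizer ({z} : Set G) := mul_mem St.el_mem hzC
    have hh : hact D (St.el * z) = hact D St.el := by
      rw [hact_mul St.el_mem hzC, hact_Q D.pre.gen.mem, mul_one]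
    refine isConj_of_two B St Su hC ?_ ?_ ?_
    · have hzt : St.el * z = z * St.el := mem_centralizer_singleton_iff.1 St.el_mem
      rw [show St.el * z * (St.el * z) = St.el * (z * St.el) * z by group, ← hzt, ← mul_assoc, Pr.el_sq_st St,
        one_mul, D.pre.gen.sq]
    · rw [hh]
      exact finrank_two St Su St.el_mem (Pr.el_sq_st St) hobs.notQ (IsConj.refl _)
    · rw [NonTS, hh]
      exact el_st_nonTS St
  refine htz.trans (isConj_iff.2 ⟨c, ?_⟩)
  have hcz : c * z * c⁻¹ = z := by rw [mem_centralizer_singleton_iff.1 hc', mul_inv_cancel_right]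
  rw [show c * (St.el * z) * c⁻¹ = (c * St.el * c⁻¹) * (c * z * c⁻¹) by group, hc, hcz]

/-- Conjugating an inverting involution by a power. -/
theorem pow_conj_eq {w a : G} (hw : w * w = 1) (h : w * a * w⁻¹ = a⁻¹) (l : ℕ) :
    a ^ l * w * (a ^ l)⁻¹ = a ^ (l + l) * w := by
  have h2 : w * (a ^ l) * w⁻¹ = (a ^ l)⁻¹ := by rw [← conj_pow, h, inv_pow]
  rw [inv_eq_of_mul_eq_one_right hw] at h2
  rw [← h2, pow_add, show a ^ l * w * (w * a ^ l * w) = a ^ l * (w * w) * a ^ l * w by group, hw, mul_one]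

/-- A subgroup containing the normaliser and the centraliser is the whole group. -/
theorem eq_top_of_centralizer_le (St : Pr B w2 v2) (hB : Good B) {H : Subgroup G}
    (hN : normalizer (Ab B hB : Set G) ≤ H) (hC : centralizer ({z} : Set G) ≤ H) : H = ⊤ := by
  obtain ⟨Su, hSu⟩ := exists_pr40 (B := B) hB
  have hzH : z ∈ H := hN (le_normalizer (z_mem_Ab hB))
  obtain ⟨D₁, hD₁⟩ := exists_dat_sub (D := D) hC hzH
  have hsA : B.s ∈ Ab B hB := gens_mem hB ((mem_gens B).2 (Or.inr (Or.inl rfl)))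
  obtain ⟨n, hn, hns⟩ := exists_normalizer_conj St Su hB hsA (isConj_iff.2 ⟨B.g, B.gz⟩)
  have h₀ : (⟨n, hN hn⟩ : H) * ⟨z, hzH⟩ * (⟨n, hN hn⟩ : H)⁻¹ ∈ D₁.Q := by
    rw [hD₁]
    show n * z * n⁻¹ ∈ D.Q
    rw [hns]
    exact B.sQ
  obtain ⟨a, b, c, -, -, -, -, -, -, hall⟩ := Co1Invol.main (D := D₁) h₀ fun e =>
    B.ne (hns.symm.trans (congrArg Subtype.val e))
  have hu := B.u_obstruction Su
  have ht := B.t_obstruction St
  have hzt := B.not_conj_z St Su ht
  have hzu := B.not_conj_z St Su hu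
  have htu := B.not_conj_tu St Su
  have ho : ∀ {x : G}, x * x = 1 → x ∉ D.Q → orderOf x = 2 := fun h hQ =>
    Invol.orderOf_eq_two h fun e => hQ (e ▸ one_mem _)
  have hzo : orderOf z = 2 := Extra2.orderOf_gen D.pre.gen
  have huo : orderOf Su.el = 2 := ho ((B.pair_sq_iff Su.hb Su.ha).2 (by
    rw [Su.wb, Su.πa, pair_facts.2.2.2.1, pair_facts.2.2.2.2.1, pair_facts.2.2.2.2.2.1]; exact ⟨rfl, rfl⟩)) hu.notQ
  have hto : orderOf St.el = 2 := ho (Pr.el_sq_st St) ht.notQ
  let rep : Fin 3 → H := ![⟨z, hzH⟩, ⟨Su.el, hC Su.el_mem⟩, ⟨St.el, hC St.el_mem⟩]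
  have hrep : ∀ i j, IsConj (rep i : G) (rep j) → i = j := by
    intro i j h
    fin_cases i <;> fin_cases j <;> first
      | rfl
      | exact absurd h hzu
      | exact absurd h.symm hzu
      | exact absurd h hzt
      | exact absurd h.symm hzt
      | exact absurd h htu
      | exact absurd h.symm htu
  have hordH : ∀ x : H, orderOf (x : G) = 2 → orderOf x = 2 := fun x h => by rwa [Subgroup.orderOf_coe] at h
  have hrord : ∀ i, orderOf (rep i) = 2 := by
    intro i
    apply hordH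
    fin_cases i
    exacts [hzo, huo, hto]
  have hthree : ∀ x : H, orderOf x = 2 → ∃ i, IsConj x (![a, b, c] i) := fun x hx => by
    rcases hall x hx with h | h | h
    exacts [⟨0, h⟩, ⟨1, h⟩, ⟨2, h⟩]
  choose f hf using fun i => hthree (rep i) (hrord i)
  have hfi : Function.Injective f := fun i j e => hrep i j
    (H.subtype.map_isConj ((hf i).trans (e ▸ (hf j).symm)))
  have hfus : ∀ x : H, orderOf x = 2 → ∃ i, IsConj (rep i) x := fun x hx => by
    obtain ⟨k, hk⟩ := hthree x hx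
    obtain ⟨i, rfl⟩ := (Finite.injective_iff_surjective.1 hfi) k
    exact ⟨i, (hf i).trans hk.symm⟩
  -- the two controlled classes
  have hcA : Su.el ∈ Ab B hB := hSu ▸ phi_mem hB 40
  have hcu : centralizer ({Su.el} : Set G) ≤ H :=
    (centralizer_le St Su hB _ hcA (fun e => hu.notQ (e ▸ one_mem _)) hzu).trans hN
  have hgood : ∀ j : G, j ∈ H → orderOf j = 2 → ¬ IsConj St.el j → centralizer ({j} : Set G) ≤ H := by
    intro j hj hjo hjt y hy
    obtain ⟨i, hi⟩ := hfus ⟨j, hj⟩ (hordH _ hjo)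
    obtain ⟨m, hm⟩ := isConj_iff.1 hi
    have hm' : (m : G) * rep i * (m : G)⁻¹ = j := congrArg Subtype.val hm
    have hsel : centralizer ({(rep i : G)} : Set G) ≤ H := by
      fin_cases i
      · exact hC
      · exact hcu
      · exact absurd (isConj_iff.2 ⟨(m : G), hm'⟩) hjt
    have h : (m : G)⁻¹ * y * m ∈ H := by
      refine hsel (mem_centralizer_singleton_iff.2 ?_)
      have hyj := mem_centralizer_singleton_iff.1 hy
      rw [← hm'] at hyj
      calc (m : G)⁻¹ * y * m * rep i = (m : G)⁻¹ * (y * ((m : G) * rep i * (m : G)⁻¹)) * m := by group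
        _ = rep i * ((m : G)⁻¹ * y * m) := by rw [hyj]; group
    have h2 := mul_mem (mul_mem m.2 h) (inv_mem m.2)
    rwa [show (m : G) * ((m : G)⁻¹ * y * m) * (m : G)⁻¹ = y by group] at h2
  refine eq_top_iff.2 fun g _ => ?_
  by_contra hg
  obtain ⟨y, hy⟩ : ∃ y, y = g * z * g⁻¹ := ⟨_, rfl⟩
  have hyo : orderOf y = 2 := by rw [hy, Invol.orderOf_conj_eq, hzo]
  have hyH : y ∉ H := fun hyH => by
    obtain ⟨i, hi⟩ := hfus ⟨y, hyH⟩ (hordH _ hyo)
    have h0 : i = 0 := hrep i 0 ((H.subtype.map_isConj hi).trans (isConj_iff.2 ⟨g, hy.symm⟩).symm)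
    subst h0
    obtain ⟨m, hm⟩ := isConj_iff.1 hi
    have hm' : (m : G) * z * (m : G)⁻¹ = g * z * g⁻¹ := (congrArg Subtype.val hm).trans hy
    have h : (m : G)⁻¹ * g ∈ H := hC (mem_centralizer_singleton_iff.2 (by
      calc (m : G)⁻¹ * g * z = (m : G)⁻¹ * (g * z * g⁻¹) * g := by group
        _ = z * ((m : G)⁻¹ * g) := by rw [← hm']; group))
    have h2 := mul_mem m.2 h
    rw [mul_inv_cancel_left] at h2
    exact hg h2
  have hne : ¬ IsConj Su.el y := fun h => hzu ((isConj_iff.2 ⟨g, hy.symm⟩).trans h.symm)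
  have heven := Invol.even_orderOf_mul_of_not_isConj huo hyo hne
  obtain ⟨hjo, hjc, hjy⟩ := Invol.half_props huo hyo heven
  obtain ⟨k, hk⟩ : ∃ k, k = orderOf (Su.el * y) / 2 := ⟨_, rfl⟩
  rw [← hk] at hjo hjc hjy
  obtain ⟨j, hj⟩ : ∃ j, j = (Su.el * y) ^ k := ⟨_, rfl⟩
  rw [← hj] at hjo hjc hjy
  have hjH : j ∈ H := hcu (mem_centralizer_singleton_iff.2 hjc.eq)
  by_cases hjt : IsConj St.el j
  swap
  · exact hyH (hgood j hjH hjo hjt (mem_centralizer_singleton_iff.2 hjy.symm.eq))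
  have hjy' : IsConj y (j * y) ∨ IsConj Su.el (j * y) := by
    have hinv := Invol.conj_mul_inv huo hyo
    have hu2 := Invol.mul_self_eq_one huo
    rcases Nat.even_or_odd k with ⟨l, hl⟩ | ⟨l, hl⟩
    · left
      have hyv : y * (Su.el * y) * y⁻¹ = (Su.el * y)⁻¹ := by
        rw [_root_.mul_inv_rev, Invol.inv_eq_self huo, Invol.inv_eq_self hyo, mul_assoc y (Su.el * y) y,
          mul_assoc Su.el y y, Invol.mul_self_eq_one hyo, mul_one]
      refine isConj_iff.2 ⟨(Su.el * y) ^ l, ?_⟩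
      rw [hj, hl, pow_conj_eq (Invol.mul_self_eq_one hyo) hyv]
    · right
      refine isConj_iff.2 ⟨(Su.el * y) ^ l, ?_⟩
      rw [hj, hl, pow_conj_eq hu2 hinv, pow_succ, two_mul, mul_assoc ((Su.el * y) ^ (l + l)),
        mul_assoc Su.el y y, Invol.mul_self_eq_one hyo, mul_one]
  -- move to the centraliser of the central involution
  obtain ⟨x, hx⟩ : ∃ x, x = g⁻¹ * j * g := ⟨_, rfl⟩
  have hxC : x ∈ centralizer ({z} : Set G) := mem_centralizer_singleton_iff.2 (by
    have h := hjy.eq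
    rw [hy] at h
    calc x * z = g⁻¹ * (j * (g * z * g⁻¹)) * g := by rw [hx]; group
      _ = z * x := by rw [h, hx]; group)
  have hxt : IsConj St.el x := hjt.trans (isConj_iff.2 ⟨g⁻¹, by rw [hx]; group⟩)
  have h1 : IsConj St.el (j * y) :=
    (conj_mul_z St Su hxC hxt).trans (isConj_iff.2 ⟨g, by rw [hx, hy]; group⟩)
  rcases hjy' with h | h
  · exact hzt (((isConj_iff.2 ⟨g, hy.symm⟩).trans h).trans h1.symm)
  · exact htu (h.trans h1.symm)

namespace Frame

theorem xi_not_mem {A : Subgroup G} (F : Frame z A) : F.xi ∉ normalizer (A : Set G) := by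
  intro h
  have hq : (([0, 1, 2, 3, 4, 5, 6, 7, 8, 9, 10, 11, 12, 13, 14, 15, 16, 17, 18, 19, 20, 21, 22, 23], 4738934),
      ([23, 2, 1, 17, 22, 14, 19, 21, 11, 10, 9, 8, 18, 16, 5, 20, 13, 3, 12, 6, 15, 7, 4, 0], 4738934)) ∈
      passGens := by decide
  have hp := F.pass _ hq
  have hw : IsWord 4738934 := ⟨by norm_num, by
    rw [show (4738934 : ℕ) = CfsgLib.Golay.word (4738934 % 4096) by decide +kernel]
    exact CfsgLib.Golay.vec_word_mem _⟩
  have hG1 : Golay.SylowCert.Good (List.range 24) ∧ (List.range 24).length = 24 ∧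
      Golay.PreservesCode (List.range 24) := by unfold Golay.PreservesCode; decide +kernel
  have hG2 : Golay.SylowCert.Good [23, 2, 1, 17, 22, 14, 19, 21, 11, 10, 9, 8, 18, 16, 5, 20, 13, 3, 12, 6, 15,
      7, 4, 0] ∧ Golay.PreservesCode [23, 2, 1, 17, 22, 14, 19, 21, 11, 10, 9, 8, 18, 16, 5, 20, 13, 3, 12, 6, 15,
      7, 4, 0] := by unfold Golay.PreservesCode; decide +kernel
  have hm2 := Golay.SylowCert.permL_mem_M24 hG2.1 rfl hG2.2
  have h1 : permM [0, 1, 2, 3, 4, 5, 6, 7, 8, 9, 10, 11, 12, 13, 14, 15, 16, 17, 18, 19, 20, 21, 22, 23] = 1 := by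
    have hm1 := Golay.SylowCert.permL_mem_M24 hG1.1 hG1.2.1 hG1.2.2
    rw [show ([0, 1, 2, 3, 4, 5, 6, 7, 8, 9, 10, 11, 12, 13, 14, 15, 16, 17, 18, 19, 20, 21, 22, 23] : List ℕ) =
      List.range 24 from rfl]
    unfold permM
    rw [dif_pos (show _ ∈ Cfsg.M24 from hm1)]
    refine Subtype.ext (Equiv.ext fun q => Golay.SylowCert.permL_fix hG1.1 hG1.2.1 ?_)
    rw [List.getD_eq_getElem _ _ (by simpa using Golay.idx_lt q)]
    simp
  rw [h1, map_one, mul_one] at hp
  have hxA : F.sg 4738934 ∈ A := (F.mem_A _).2 ⟨_, hw, rfl⟩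
  have hinv : F.xi⁻¹ = F.xi := inv_eq_of_mul_eq_one_right F.xi_sq
  have h2 : F.xi * F.sg 4738934 * F.xi ∈ A := by
    have := (mem_normalizer_iff.1 h (F.sg 4738934)).1 hxA
    rwa [hinv] at this
  rw [hp] at h2
  have h3 := F.pm_meet _ (by simpa using mul_mem (inv_mem hxA) h2)
  have h4 := congrArg (fun σ : ↥Cfsg.M24 => Golay.toList (σ : Equiv.Perm Cfsg.GolayPt)) h3
  simp only [permM, dif_pos hm2] at h4
  rw [Golay.SylowCert.toList_permL hG2.1 rfl] at h4
  revert h4
  decide +kernel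

/-- The monomial subgroup and the sextet element generate the group. -/
theorem top_eq (St : Pr B w2 v2) (Su : Pr B x1 x2) (hB : Good B) (F : Frame z (Ab B hB)) :
    F.toRels.top = ⊤ := by
  have hN : normalizer (Ab B hB : Set G) ≤ F.toRels.top := F.mono_eq ▸ le_sup_left
  have hw0 : IsWord zw0 := ⟨by norm_num [zw0], by
    rw [show zw0 = CfsgLib.Golay.word (zw0 % 4096) by decide +kernel]
    exact CfsgLib.Golay.vec_word_mem _⟩
  have he : F.sg zw0 ∈ Ab B hB := (F.mem_A _).2 ⟨_, hw0, rfl⟩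
  obtain ⟨n, hn, hne⟩ := exists_normalizer_conj St Su hB he (F.oct_z _ hw0 (Or.inl (by decide +kernel)))
  have hξ : F.xi ∈ F.toRels.top := (le_sup_right : _ ≤ F.toRels.top) (mem_zpowers _)
  have hxC : n⁻¹ * F.xi * n ∈ centralizer ({z} : Set G) := mem_centralizer_singleton_iff.2 (by
    have h := F.xi_zw0
    rw [← hne] at h
    calc n⁻¹ * F.xi * n * z = n⁻¹ * (F.xi * (n * z * n⁻¹)) * n := by group
      _ = z * (n⁻¹ * F.xi * n) := by rw [h]; group)
  have hxH : n⁻¹ * F.xi * n ∈ F.toRels.top := mul_mem (mul_mem (inv_mem (hN hn)) hξ) (hN hn)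
  have hxN : n⁻¹ * F.xi * n ∉ normalizer (Ab B hB : Set G) := fun h => F.xi_not_mem (by
    rw [show F.xi = n * (n⁻¹ * F.xi * n) * n⁻¹ by group]
    exact mul_mem (mul_mem hn h) (inv_mem hn))
  exact eq_top_of_centralizer_le St hB hN (centralizer_le_of_move hB hN hxH hxC hxN)

end Frame

end CfsgLib.Co1Uniq
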