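import Cfsg.Agent.Co1Uniq.WeakPure
import Cfsg.Agent.Quad.ClassAction

/-!
Changing the coordinates of the radical, and counting the fixed lifts.
-/

set_option autoImplicit false
set_option maxRecDepth 100000
set_option synthInstance.maxSize 4096
set_option linter.style.haveILetI false
set_option linter.unusedSectionVars false

namespace CfsgLib.Co1Uniq.Weak

open CfsgLib CfsgLib.Quad CfsgLib.Co1Invol Subgroup QuadraticMap

variable {G : Type*} [Group G] [Finite G] {z : G}

/-- The coordinates moved by an isometry. -/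
def twist (D : Dat z) (h : O8) : Dat z where
  Q := D.Q
  pre := D.pre
  card := D.card
  π := fun q => h.1 (D.π q)
  π_mul := fun a ha b hb => by rw [D.π_mul a ha b hb, map_add]
  π_surj := fun m => by
    obtain ⟨q, hq, e⟩ := D.π_surj (h.1.symm m)
    exact ⟨q, hq, by rw [e, LinearEquiv.apply_symm_apply]⟩
  π_eq_zero := fun q hq => by rw [LinearEquiv.map_eq_zero_iff, D.π_eq_zero q hq]
  sq_iff := fun q hq => by rw [qf_oGroup, D.sq_iff q hq]
  comm_iff := fun a ha b hb => by rw [bf_oGroup, D.comm_iff a ha b hb]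
  act := (MulAut.conj h).toMonoidHom.comp D.act
  act_π := fun c q hq => by
    show h.1 (D.π _) = h.1 ((D.act c).1 (h.1.symm (h.1 (D.π q))))
    rw [LinearEquiv.symm_apply_apply, D.act_π c q hq]
  act_eq_one := fun c => by
    rw [← D.act_eq_one c]
    exact map_eq_one_iff _ (MulAut.conj h).injective
  act_mem := fun c => (inferInstance : (commutator (oGroup q8)).Normal).conj_mem _ (D.act_mem c) h
  act_surj := fun k hk => by
    obtain ⟨c, hc⟩ := D.act_surj _
      ((inferInstance : (commutator (oGroup q8)).Normal).conj_mem _ hk h⁻¹)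
    refine ⟨c, ?_⟩
    show h * D.act c * h⁻¹ = k
    rw [hc]
    group

variable {D : Dat z}

theorem hact_twist (h : O8) {n : G} (hn : n ∈ centralizer ({z} : Set G)) :
    hact (twist D h) n = h * hact D n * h⁻¹ := by
  rw [hact_eq hn, hact_eq hn]
  rfl

theorem range_twist (h : O8) {n : G} (hn : n ∈ centralizer ({z} : Set G)) :
    LinearMap.range (disp (hact (twist D h) n)) = (LinearMap.range (disp (hact D n))).map h.1.toLinearMap := by
  have e : ∀ m, disp (hact (twist D h) n) (h.1 m) = h.1 (disp (hact D n) m) := fun m => by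
    rw [disp_apply, disp_apply, map_add, hact_twist h hn]
    show h.1 ((hact D n).1 (h.1.symm (h.1 m))) + _ = _
    rw [LinearEquiv.symm_apply_apply]
  ext v
  constructor
  · rintro ⟨m, rfl⟩
    obtain ⟨k, rfl⟩ : ∃ k, h.1 k = m := ⟨_, h.1.apply_symm_apply m⟩
    exact ⟨_, ⟨k, rfl⟩, (e k).symm⟩
  · rintro ⟨_, ⟨k, rfl⟩, rfl⟩
    exact ⟨_, e k⟩

/-- Coordinates in which the range is the given totally singular subspace. -/
theorem exists_twist (hW : WC D) {y : G} (P : Pure z y) {R₀ : Submodule (ZMod 2) M8} (h0 : ∀ u ∈ R₀, qf u = 0)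
    (hr : Module.finrank (ZMod 2) (LinearMap.range (disp (hact D y))) = Module.finrank (ZMod 2) R₀) :
    ∃ h : O8, LinearMap.range (disp (hact (twist D h) y)) = R₀ := by
  obtain ⟨h, hh⟩ := exists_witt_map (Q := q8) nondeg8 (LinearEquiv.ofFinrankEq _ R₀ hr) fun u => by
    obtain ⟨m, hm⟩ := u.2
    rw [q8_eq, q8_eq, h0 _ (LinearEquiv.ofFinrankEq _ R₀ hr u).2, ← hm, P.ts hW]
  exact ⟨h, by rw [range_twist h P.mem_C, hh]⟩

/-- An involution fixes everything orthogonal to its range. -/
theorem fix_of_orth {x : G} (hx : hact D x * hact D x = 1) {R₀ : Submodule (ZMod 2) M8}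
    (hR : LinearMap.range (disp (hact D x)) = R₀) {m : M8} (hm : ∀ u ∈ R₀, bf m u = 0) :
    disp (hact D x) m = 0 :=
  eq_zero_of_bf fun n => by rw [bf_disp hx, hm _ (hR ▸ ⟨n, rfl⟩)]

theorem orth_of_fix {x : G} (hx : hact D x * hact D x = 1) {m : M8} (hm : disp (hact D x) m = 0) {u : M8}
    (hu : u ∈ LinearMap.range (disp (hact D x))) : bf m u = 0 := by
  obtain ⟨n, rfl⟩ := hu
  rw [← bf_disp hx, hm, bf_zero_left]

/-- The centraliser of the involution in the radical has twice the order of its fixed space. -/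
theorem card_fixed (hW : WC D) {x : G} (P : Pure z x) :
    Nat.card {q : G // q ∈ D.Q ∧ q * x = x * q} = 2 * Nat.card (LinearMap.ker (disp (hact D x))) := by
  classical
  choose l hl hlπ using D.π_surj
  have hlx : ∀ m : LinearMap.ker (disp (hact D x)), ∀ b : Bool,
      (l m * if b then z else 1) ∈ D.Q ∧ (l m * if b then z else 1) * x = x * (l m * if b then z else 1) := by
    intro m b
    have hb : (if b then z else 1) ∈ D.Q := by split; exacts [D.pre.gen.mem, one_mem _]
    refine ⟨mul_mem (hl _) hb, (P.comm_of_fixed hW (mul_mem (hl _) hb) ?_).symm⟩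
    rw [D.π_mul _ (hl _) _ hb, hlπ, (D.π_eq_zero _ hb).2 (by split; exacts [Or.inr rfl, Or.inl rfl]), add_zero]
    exact m.2
  let f : LinearMap.ker (disp (hact D x)) × Bool → {q : G // q ∈ D.Q ∧ q * x = x * q} := fun p =>
    ⟨l p.1 * (if p.2 then z else 1), hlx p.1 p.2⟩
  have hf : Function.Bijective f := by
    constructor
    · rintro ⟨m, b⟩ ⟨m', b'⟩ e
      have e' : l m * (if b then z else 1) = l m' * (if b' then z else 1) := congrArg Subtype.val e
      have hπb : ∀ b : Bool, D.π (if b then z else 1) = 0 := fun b => by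
        cases b
        · simpa using π_one D
        · simpa using π_z D
      have hbQ : ∀ b : Bool, (if b then z else 1) ∈ D.Q := fun b => by
        split; exacts [D.pre.gen.mem, one_mem _]
      have hm : m = m' := Subtype.ext (by
        have := congrArg D.π e'
        rwa [D.π_mul _ (hl _) _ (hbQ b), D.π_mul _ (hl _) _ (hbQ b'), hπb, hπb, add_zero, add_zero, hlπ, hlπ]
          at this)
      subst hm
      have := mul_left_cancel e'
      refine Prod.ext rfl ?_
      cases b <;> cases b' <;> simp at this ⊢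
      exacts [absurd this.symm D.pre.gen.ne_one, absurd this D.pre.gen.ne_one]
    · rintro ⟨q, hq, hqx⟩
      have hk : disp (hact D x) (D.π q) = 0 := P.fixed_of_comm hW hq hqx.symm
      rcases eq_of_π D (hl _) hq (hlπ (D.π q)) with e | e
      · exact ⟨(⟨D.π q, hk⟩, false), Subtype.ext (by simp [f, ← e])⟩
      · exact ⟨(⟨D.π q, hk⟩, true), Subtype.ext (by simp [f, ← e])⟩
  rw [← Nat.card_eq_of_bijective f hf, Nat.card_prod, Nat.card_eq_fintype_card (α := Bool), Fintype.card_bool,
    mul_comm]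

/-- The part of the radical of the partner has the order of a centraliser in the radical. -/
theorem card_vee (hW : WC D) {y g : G} (P : Pure z y) (hg : g * z * g⁻¹ = y) :
    Nat.card (vee D g) = 2 * Nat.card (LinearMap.ker (disp (hact D (g⁻¹ * z * g)))) := by
  rw [← card_fixed hW (pure_back hW P hg)]
  symm
  refine Nat.card_eq_of_bijective
    (fun q => (⟨g * q.1 * g⁻¹, (mem_vee_iff hW P hg).2 ⟨q.1, q.2.1, q.2.2, rfl⟩⟩ : vee D g)) ⟨?_, ?_⟩
  · intro a b e
    exact Subtype.ext (mul_left_cancel (mul_right_cancel (congrArg Subtype.val e)))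
  · rintro ⟨v, hv⟩
    obtain ⟨q, h1, h2, h3⟩ := (mem_vee_iff hW P hg).1 hv
    exact ⟨⟨q, h1, h2⟩, Subtype.ext h3⟩

theorem card_ker (hW : WC D) {x : G} (P : Pure z x) :
    Nat.card (LinearMap.ker (disp (hact D x))) = 64 ∨
      (Nat.card (LinearMap.ker (disp (hact D x))) = 16 ∧
        Module.finrank (ZMod 2) (LinearMap.range (disp (hact D x))) = 4) := by
  have hsum := LinearMap.finrank_range_add_finrank_ker (disp (hact D x))
  rw [finrank8] at hsum
  rw [Module.natCard_eq_pow_finrank (K := ZMod 2), Nat.card_zmod]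
  rcases rank_cases (P.hact_sq hW) (hact_mem _) (P.hact_ne hW) with h | ⟨h, -⟩
  · left; rw [show Module.finrank (ZMod 2) (LinearMap.ker (disp (hact D x))) = 6 by omega]; norm_num
  · right; refine ⟨?_, h⟩
    rw [show Module.finrank (ZMod 2) (LinearMap.ker (disp (hact D x))) = 4 by omega]; norm_num

/-- An element of the partner's part centralises the elements of both radicals. -/
theorem vee_comm_meet (hW : WC D) {y g : G} (P : Pure z y) (hg : g * z * g⁻¹ = y) {v d : G} (hv : v ∈ vee D g)
    (hd : d ∈ D.Q ⊓ conjQ D g) : v * d = d * v := by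
  obtain ⟨hdQ, hdY⟩ := mem_inf.1 hd
  have h1 := (mem_conjQ D).1 (mem_inf.1 hv).1
  have h2 := (mem_conjQ D).1 hdY
  obtain ⟨hmQ, hmY⟩ := mem_inf.1 (vee_commutator hW P hg hv hdQ (conjQ_comm_y P hg hdY))
  rcases D.pre.gen.comm _ h1 _ h2 with e | e
  · have e' : v * d * v⁻¹ * d⁻¹ = 1 := by
      rw [show v * d * v⁻¹ * d⁻¹ = g * (g⁻¹ * v * g * (g⁻¹ * d * g) * (g⁻¹ * v * g)⁻¹ * (g⁻¹ * d * g)⁻¹) * g⁻¹ by
        group, e]
      group
    exact mul_inv_eq_iff_eq_mul.1 (mul_inv_eq_one.1 e')
  · exfalso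
    refine P.not_mem hW ?_
    have e' : y = v * d * v⁻¹ * d⁻¹ := hg.symm.trans ((congrArg (fun t => g * t * g⁻¹) e.symm).trans (by group))
    rw [e']
    exact hmQ

/-- Centralising elements normalise the intersection of the radicals. -/
theorem meet_conj (hW : WC D) {y g : G} (P : Pure z y) (hg : g * z * g⁻¹ = y) {n d : G}
    (hn : n ∈ centralizer ({z} : Set G)) (hny : n * y = y * n) (hd : d ∈ D.Q ⊓ conjQ D g) :
    n * d * n⁻¹ ∈ D.Q ⊓ conjQ D g :=
  mem_inf.2 ⟨(π_conj hn (mem_inf.1 hd).1).1, conjQ_conj P hg hny (mem_inf.1 hd).2⟩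

end CfsgLib.Co1Uniq.Weak
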