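import Cfsg.Agent.Co1Uniq.WeakFour
import Mathlib.LinearAlgebra.Matrix.GeneralLinearGroup.Card

/-!
Counting the conjugates of the central involution in the elementary subgroup of order `2 ^ 11` contradicts the
order of its automorphism group: the weakly closed involution is isolated.
-/

set_option autoImplicit false
set_option maxRecDepth 100000
set_option synthInstance.maxSize 4096
set_option linter.style.haveILetI false
set_option linter.unusedSectionVars false

universe u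

namespace CfsgLib.Co1Uniq.Weak

open CfsgLib CfsgLib.Quad CfsgLib.Co1Invol CfsgLib.Co1Golay CfsgLib.Co1Loc Subgroup

/-- The order of the linear group of rank eleven over the field of two elements. -/
def glEleven : ℕ := 768105432118265670534631586896281600

theorem card_gl_eleven : Nat.card (GL (Fin 11) (ZMod 2)) = glEleven := by
  rw [Matrix.card_GL_field, ZMod.card, glEleven]
  simp [Fin.prod_univ_succ]

theorem card_aut_dvd {W : Type u} [CommGroup W] [Finite W] (h2 : ∀ v : W, v * v = 1) (hn : Nat.card W = 2048) :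
    Nat.card (MulAut W) ∣ glEleven := by
  classical
  haveI : Fact (Nat.Prime 2) := ⟨Nat.prime_two⟩
  haveI : Module (ZMod 2) (Additive W) := AddCommGroup.zmodModule fun v => by
    apply Additive.toMul.injective
    rw [toMul_nsmul, toMul_zero, pow_two]
    exact h2 v.toMul
  haveI : Fintype W := Fintype.ofFinite W
  have hdim : Module.finrank (ZMod 2) (Additive W) = 11 := by
    have h := Module.natCard_eq_pow_finrank (K := ZMod 2) (V := Additive W)
    rw [Nat.card_zmod, show Nat.card (Additive W) = 2 ^ 11 from (Nat.card_congr Additive.toMul).trans hn] at h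
    exact (Nat.pow_right_injective le_rfl h).symm
  let b := Module.finBasisOfFinrankEq (ZMod 2) (Additive W) hdim
  let j : MulAut W →* (Additive W →ₗ[ZMod 2] Additive W) :=
    { toFun := fun φ => (MonoidHom.toAdditive φ.toMonoidHom).toZModLinearMap 2
      map_one' := LinearMap.ext fun v => rfl
      map_mul' := fun φ ψ => LinearMap.ext fun v => rfl }
  have hj : Function.Injective j.toHomUnits := fun φ ψ h => MulEquiv.ext fun x => by
    have h1 := congrArg (fun u : (Additive W →ₗ[ZMod 2] Additive W)ˣ =>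
      (u : Additive W →ₗ[ZMod 2] Additive W) (Additive.ofMul x)) h
    exact congrArg Additive.toMul h1
  have hd := Subgroup.card_dvd_of_injective _ hj
  rwa [Nat.card_congr (Units.mapEquiv (LinearMap.toMatrixAlgEquiv b).toMulEquiv).toEquiv,
    show (Matrix (Fin 11) (Fin 11) (ZMod 2))ˣ = GL (Fin 11) (ZMod 2) from rfl, card_gl_eleven] at hd

/-- The normaliser of a self-centralising elementary subgroup of order `2 ^ 11`. -/
theorem card_normalizer_dvd {G : Type u} [Group G] [Finite G] {A : Subgroup G}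
    (hcomm : ∀ a ∈ A, ∀ b ∈ A, a * b = b * a) (hsq : ∀ a ∈ A, a * a = 1) (hcard : Nat.card A = 2048)
    (hself : centralizer (A : Set G) ≤ A) :
    Nat.card (normalizer (A : Set G)) ∣ 2048 * glEleven := by
  let f := A.normalizerMonoidHom
  rw [← Subgroup.card_mul_index f.ker, Subgroup.index_ker]
  refine Nat.mul_dvd_mul ?_ ?_
  · rw [← hcard, show f.ker = (centralizer (A : Set G)).subgroupOf (normalizer (A : Set G)) from
      Subgroup.normalizerMonoidHom_ker A]
    exact (Subgroup.card_comap_dvd_of_injective _ _ (Subgroup.subtype_injective _)).trans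
      (Subgroup.card_dvd_of_le hself)
  · letI : CommGroup A := { (inferInstance : Group A) with mul_comm := fun a b => Subtype.ext (hcomm a a.2 b b.2) }
    exact (Subgroup.card_subgroup_dvd_card _).trans
      (card_aut_dvd (W := A) (fun v => Subtype.ext (hsq v v.2)) hcard)

theorem orbit_numbers : ∀ j < 33, ¬ ((449 + 35 * j) * 3 ∣ 2048 * glEleven) := by decide +kernel

theorem order_three : (wordOK [0, 3] &&
    ((List.range 256).all fun x => sLN (tw [0, 3, 0, 3, 0, 3]) x == x) &&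
    ((List.range 256).any fun x => sLN (tw [0, 3]) x != x)) = true := by decide +kernel

theorem encN_surj : ∀ x < 256, ∃ m : M8, encN m = x := by decide +kernel

/-- An element of order three preserving the subspace. -/
theorem exists_three : ∃ t ∈ commutator (oGroup q8), (∀ v, inW v → inW (t.1 v)) ∧ orderOf t = 3 := by
  haveI : Fact (Nat.Prime 3) := ⟨Nat.prime_three⟩
  have h := order_three
  simp only [Bool.and_eq_true, List.all_eq_true, List.any_eq_true, List.mem_range, beq_iff_eq, bne_iff_ne] at h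
  obtain ⟨⟨h1, h2⟩, x, hx, hne⟩ := h
  obtain ⟨a1, a2, -, -⟩ := tw_ok [0, 3]
  obtain ⟨c1, c2, -, -⟩ := tw_ok [0, 3, 0, 3, 0, 3]
  refine ⟨_, (word_spec h1).1, (word_spec h1).2.1, orderOf_eq_prime ?_ fun e => hne ?_⟩
  · have e : tw [0, 3, 0, 3, 0, 3] = tw [0, 3] ++ (tw [0, 3] ++ tw [0, 3]) := rfl
    rw [pow_succ', pow_two, ← sgL_append, ← sgL_append, ← e]
    exact sgL_of_probe (l' := []) c1 (fun p hp => absurd hp List.not_mem_nil) c2
      (fun p hp => absurd hp List.not_mem_nil) fun x hx => (h2 x hx).trans rfl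
  · have e' : ∀ m : M8, smL (tw [0, 3]) m = m := fun m => by rw [← sgL_apply _ a1, e]; rfl
    obtain ⟨m, rfl⟩ : ∃ m, encN m = x := encN_surj x hx
    rw [← encN_smL _ a2, e']

variable {G : Type u} [Group G] [Finite G] {z : G} {D : Dat z}

theorem z_mem_Af {y : G} : z ∈ Af D y :=
  mem_Af.2 ⟨mem_centralizer_singleton_iff.2 rfl, fun _ hq _ => (D.pre.gen.comm_z _ hq).eq⟩

theorem self_mem_Af {y : G} (hy : y ∈ centralizer ({z} : Set G)) : y ∈ Af D y :=
  mem_Af.2 ⟨hy, fun _ _ h => h⟩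

/-- A second pure conjugate inside the subgroup, reached by a normalising element. -/
theorem exists_flip (hW : WC D) {y g : G} (P : Pure z y) (hg : g * z * g⁻¹ = y) :
    ∃ n ∈ normalizer (Af D y : Set G), n * z * n⁻¹ ∈ Af D y ∧ Pure z (n * z * n⁻¹) := by
  classical
  obtain ⟨hcomm, -, hcard, hmeet⟩ := Af_facts hW P hg
  obtain ⟨w, hw⟩ : ∃ w, w = g⁻¹ * z * g := ⟨_, rfl⟩
  have Pw : Pure z w := hw ▸ pure_back hW P hg
  obtain ⟨-, -, hcard', -⟩ := Af_facts hW Pw (g := g⁻¹) (by rw [hw, inv_inv])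
  -- the subgroup of the partner is carried onto the subgroup
  have hzw : g * w * g⁻¹ = z := by rw [hw]; group
  have hsub : Af D y ≤ (Af D w).map (MulAut.conj g).toMonoidHom := by
    intro a ha
    refine ⟨g⁻¹ * a * g, mem_Af.2 ⟨?_, fun r hr hrw => ?_⟩, ?_⟩
    · refine mem_centralizer_singleton_iff.2 ?_
      have h := hcomm a ha y (self_mem_Af P.mem_C)
      rw [← hg] at h
      calc g⁻¹ * a * g * z = g⁻¹ * (a * (g * z * g⁻¹)) * g := by group
        _ = z * (g⁻¹ * a * g) := by rw [h]; group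
    · have hv : g * r * g⁻¹ ∈ vee D g := (mem_vee_iff hW P hg).2 ⟨r, hr, by rw [← hw]; exact hrw, rfl⟩
      have hvA : g * r * g⁻¹ ∈ Af D y := by
        refine mem_Af.2 ⟨(mem_inf.1 hv).2, fun q hq hqy => ?_⟩
        have h := vee_commutator hW P hg hv hq hqy
        rw [hmeet, Subgroup.mem_bot] at h
        exact (mul_inv_eq_iff_eq_mul.1 (mul_inv_eq_one.1 h)).symm
      have h := hcomm _ hvA a ha
      calc r * (g⁻¹ * a * g) = g⁻¹ * (g * r * g⁻¹ * a) * g := by group
        _ = g⁻¹ * a * g * r := by rw [h]; group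
    · simp only [MulEquiv.coe_toMonoidHom, MulAut.conj_apply]; group
  have heq := Subgroup.eq_of_le_of_card_ge hsub (by
    rw [Subgroup.card_map_of_injective (MulAut.conj g).injective, hcard, hcard'])
  obtain ⟨q, hq, hqw⟩ : ∃ q ∈ D.Q, q * w * q⁻¹ ≠ w := by
    by_contra hcon
    push Not at hcon
    exact Pw.not_mem hW (D.pre.self (mem_centralizer_iff.2 fun q hq => mul_inv_eq_iff_eq_mul.1 (hcon q hq)))
  have hn : g * q * g⁻¹ ∈ normalizer (Af D y : Set G) := by
    refine Subgroup.mem_normalizer_fintype fun a ha => ?_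
    rw [SetLike.mem_coe, heq] at ha ⊢
    obtain ⟨b, hb, rfl⟩ := ha
    refine ⟨q * b * q⁻¹, Af_conj_Q hq Pw.mem_C hb, ?_⟩
    simp only [MulEquiv.coe_toMonoidHom, MulAut.conj_apply]; group
  refine ⟨_, hn, (Subgroup.mem_normalizer_iff.1 hn z).1 z_mem_Af, ?_⟩
  have e : g * q * g⁻¹ * z * (g * q * g⁻¹)⁻¹ = g * (q * w * q⁻¹) * g⁻¹ := by rw [hw]; group
  rw [e]
  have Pq := Pw.conj_C (Co1Invol.mem_C D hq)
  have hne : g * (q * w * q⁻¹) * g⁻¹ ≠ z := fun h => hqw (by
    rw [← hzw] at h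
    exact mul_left_cancel (mul_right_cancel h))
  have hmem : g * (q * w * q⁻¹) * g⁻¹ ∈ Af D y := e ▸ (Subgroup.mem_normalizer_iff.1 hn z).1 z_mem_Af
  refine ⟨mem_centralizer_singleton_iff.1 (mem_Af.1 hmem).1, Pq.conj.trans (isConj_iff.2 ⟨g, rfl⟩), hne, fun h => ?_⟩
  obtain ⟨h1, -, -⟩ := Pw.cc_spec hW hq
  refine hW.not_conj h1 (fun h2 => ?_) (h.trans (isConj_iff.2 ⟨g⁻¹, ?_⟩))
  · refine Pw.not_mul (Pq.conj.trans ?_)
    have : q * w * q⁻¹ = w * z := by
      calc q * w * q⁻¹ = q * w * q⁻¹ * w * w⁻¹ := by group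
        _ = w * z := by rw [h2, inv_eq_of_mul_eq_one_right (Pw.sq D), Pw.comm]
    rw [this]
  · conv_lhs => rw [← hzw]
    group

section Std

variable (hW : WC D) {y g : G} (P : Pure z y) (hg : g * z * g⁻¹ = y) (h9 : hact D y = mk 9)

include hW P h9

theorem Af_self : centralizer (Af D y : Set G) ≤ Af D y := fun a ha => by
  refine mem_Af.2 ⟨mem_centralizer_singleton_iff.2 (mem_centralizer_iff.1 ha z z_mem_Af).symm, fun q hq hqy => ?_⟩
  exact mem_centralizer_iff.1 ha q (U_le hW P h9 hq ((comm_iff_inW hW P h9 hq).1 hqy))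

theorem mem_normalizer_of_W {c : G} (hc : c ∈ centralizer ({z} : Set G))
    (hp : ∀ v, inW v → inW ((hact D c).1 v)) : c ∈ normalizer (Af D y : Set G) :=
  Subgroup.mem_normalizer_fintype fun _ ha => Af_conj_W hW P h9 hc hp ha

theorem Q_le_normalizer {q : G} (hq : q ∈ D.Q) : q ∈ normalizer (Af D y : Set G) :=
  Subgroup.mem_normalizer_fintype fun _ ha => Af_conj_Q hq P.mem_C ha

/-- A conjugate of the central involution over the standard mask. -/
theorem conj_nine {e : G} (he : e ∈ Af D y) (hk : hact D e = mk 9) (hz : IsConj z e) :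
    ∃ q ∈ D.Q, e = q * y * q⁻¹ := by
  have hyA : y ∈ Af D y := self_mem_Af P.mem_C
  have heyQ : e * y ∈ D.Q := mem_Q_of_hact (mul_mem (mem_Af.1 he).1 P.mem_C) (by
    rw [hact_mul (mem_Af.1 he).1 P.mem_C, hk, h9, mk_sq (by norm_num)])
  obtain ⟨m, hm⟩ := (range_std hW P h9 _).2 (mem_U hW P h9 (mul_mem he hyA) heyQ)
  obtain ⟨q, hq, rfl⟩ := D.π_surj m
  obtain ⟨h1, h2, h3⟩ := P.cc_spec hW hq
  refine ⟨q, hq, ?_⟩
  have hπ : D.π (e * y * (q * y * q⁻¹ * y)) = 0 := by rw [D.π_mul _ heyQ _ h1, h2, hm, add_self]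
  rcases (D.π_eq_zero _ (mul_mem heyQ h1)).1 hπ with r | r
  · calc e = e * y * y⁻¹ := by group
      _ = (q * y * q⁻¹ * y) * y⁻¹ := by rw [eq_inv_of_mul_eq_one_left r, inv_eq_of_mul_eq_one_right h3]
      _ = q * y * q⁻¹ := by group
  · exfalso
    refine (P.conj_C (Co1Invol.mem_C D hq)).not_mul ?_
    have : e = z * (q * y * q⁻¹) := by
      calc e = e * y * (q * y * q⁻¹ * y) * (q * y * q⁻¹ * y)⁻¹ * y⁻¹ := by group
        _ = z * (q * y * q⁻¹ * y) * y⁻¹ := by rw [r, inv_eq_of_mul_eq_one_right h3]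
        _ = z * (q * y * q⁻¹) := by group
    rwa [(P.conj_C (Co1Invol.mem_C D hq)).comm, ← this]

/-- A pure member is conjugate to the standard one inside the normaliser. -/
theorem pure_orbit {x : G} (hx : x ∈ Af D y) (Px : Pure z x) :
    ∃ m ∈ normalizer (Af D y : Set G), x = m * y * m⁻¹ := by
  obtain ⟨k, hk, hxk⟩ := hact_Af hW P h9 hx
  rcases mask_cases k hk with rfl | ⟨hnd, -⟩ | ⟨hrt, -⟩
  · exact absurd (hxk.trans mk_zero) (Px.hact_ne hW)
  · obtain ⟨c, hc, hcW, hck⟩ := exists_pure_nd hW P h9 hnd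
    obtain ⟨q, hq, e⟩ := (P.conj_C hc).exists_conj hW Px (hxk.trans hck.symm)
    exact ⟨q * c, mul_mem (Q_le_normalizer hW P h9 hq) (mem_normalizer_of_W hW P h9 hc hcW), by rw [← e]; group⟩
  · exfalso
    have h4 := Px.rank_four hW
    have h2 := rank_rt hrt
    rw [hxk] at h4
    omega

include hg

theorem y_orbit : ∃ n ∈ normalizer (Af D y : Set G), n * z * n⁻¹ = y := by
  obtain ⟨n, hn, hmem, Pn⟩ := exists_flip hW P hg
  obtain ⟨m, hm, e⟩ := pure_orbit hW P h9 hmem Pn
  refine ⟨m⁻¹ * n, mul_mem (inv_mem hm) hn, ?_⟩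
  calc m⁻¹ * n * z * (m⁻¹ * n)⁻¹ = m⁻¹ * (n * z * n⁻¹) * m := by group
    _ = y := by rw [e]; group

/-- The count of the orbit contradicts the order of the normaliser. -/
theorem no_std : False := by
  classical
  obtain ⟨hcomm, hsq, hcard, -⟩ := Af_facts hW P hg
  obtain ⟨N, hN⟩ : ∃ N, N = normalizer (Af D y : Set G) := ⟨_, rfl⟩
  obtain ⟨n₀, hn₀, hn₀y⟩ := y_orbit hW P hg h9
  rw [← hN] at hn₀
  let O := {e : G // ∃ n ∈ N, n * z * n⁻¹ = e}
  have hOA : ∀ e : O, e.1 ∈ Af D y := by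
    rintro ⟨_, n, hn, rfl⟩
    exact (Subgroup.mem_normalizer_iff.1 (hN ▸ hn) z).1 z_mem_Af
  have hOz : ∀ e : O, IsConj z e.1 := fun ⟨_, n, _, e⟩ => isConj_iff.2 ⟨n, e⟩
  choose κ hκ hκe using fun e : O => hact_Af hW P h9 (hOA e)
  let F : ℕ → Type u := fun k => {e : O // κ e = k}
  have hdec : Nat.card O = ∑ k : Fin 64, Nat.card (F k) := by
    rw [← Nat.card_sigma]
    exact Nat.card_congr
      { toFun := fun e => ⟨⟨κ e, hκ e⟩, ⟨e, rfl⟩⟩
        invFun := fun p => p.2.1
        left_inv := fun e => rfl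
        right_inv := by rintro ⟨⟨k, hk⟩, e, he⟩; change κ e = k at he; subst he; rfl }
  have hzero : Nat.card (F 0) = 1 := by
    have hz : κ ⟨z, 1, one_mem _, by group⟩ = 0 := by
      refine mk_inj (hκ _) (by norm_num) ?_
      rw [← hκe, mk_zero, hact_Q D.pre.gen.mem]
    refine Nat.card_eq_one_iff_unique.2 ⟨⟨fun a b => Subtype.ext (Subtype.ext ?_)⟩, ⟨⟨_, hz⟩⟩⟩
    have key : ∀ a : F 0, a.1.1 = z := fun a => by
      have hQ := mem_Q_of_hact (mem_Af.1 (hOA a.1)).1 (by rw [hκe, a.2, mk_zero])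
      exact by_contra fun h => hW.not_conj hQ h (hOz a.1)
    rw [key a, key b]
  -- transport along elements of the centraliser preserving the subspace
  have htr : ∀ {a k : ℕ}, a < 64 → k < 64 → (∃ t ∈ commutator (oGroup q8),
      (∀ v, inW v → inW (t.1 v)) ∧ t * mk a * t⁻¹ = mk k) → Nat.card (F a) = Nat.card (F k) := by
    rintro a k ha hk ⟨t, ht, htW, hte⟩
    obtain ⟨⟨c, hc⟩, rfl⟩ := D.act_surj t ht
    rw [← hact_eq hc] at htW hte
    have hcN : c ∈ N := hN ▸ mem_normalizer_of_W hW P h9 hc htW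
    have hmove : ∀ {d : G}, d ∈ N → ∀ e : O, ∃ n ∈ N, n * z * n⁻¹ = d * e.1 * d⁻¹ := by
      rintro d hd ⟨_, n, hn, rfl⟩
      exact ⟨d * n, mul_mem hd hn, by group⟩
    refine Nat.card_congr
      { toFun := fun e => ⟨⟨c * e.1.1 * c⁻¹, hmove hcN e.1⟩, ?_⟩
        invFun := fun e => ⟨⟨c⁻¹ * e.1.1 * c, by
          obtain ⟨n, hn, h⟩ := hmove (inv_mem hcN) e.1
          exact ⟨n, hn, by rw [h, inv_inv]⟩⟩, ?_⟩
        left_inv := fun e => Subtype.ext (Subtype.ext (show c⁻¹ * (c * e.1.1 * c⁻¹) * c = e.1.1 by group))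
        right_inv := fun e => Subtype.ext (Subtype.ext (show c * (c⁻¹ * e.1.1 * c) * c⁻¹ = e.1.1 by group)) }
    · have hm := (mem_Af.1 (hOA e.1)).1
      refine mk_inj (hκ _) hk ?_
      rw [← hκe, hact_mul (mul_mem hc hm) (inv_mem hc), hact_mul hc hm, hact_inv hc, hκe, e.2, hte]
    · have hm := (mem_Af.1 (hOA e.1)).1
      refine mk_inj (hκ _) ha ?_
      rw [← hκe, hact_mul (mul_mem (inv_mem hc) hm) hc, hact_mul (inv_mem hc) hm, hact_inv hc, hκe, e.2, ← hte]
      group
  have hnine : Nat.card (F 9) = 16 := by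
    have h16 : Nat.card {v : M8 // inW v} = 16 := by
      rw [Nat.card_eq_fintype_card]
      decide +kernel
    rw [← h16]
    have hey : ∀ e : F 9, e.1.1 * y ∈ D.Q := fun e => mem_Q_of_hact
      (mul_mem (mem_Af.1 (hOA e.1)).1 P.mem_C) (by
        rw [hact_mul (mem_Af.1 (hOA e.1)).1 P.mem_C, hκe, e.2, h9, mk_sq (by norm_num)])
    refine Nat.card_eq_of_bijective (fun e : F 9 => (⟨D.π (e.1.1 * y),
      mem_U hW P h9 (mul_mem (hOA e.1) (self_mem_Af P.mem_C)) (hey e)⟩ : {v : M8 // inW v})) ⟨fun a b e => ?_, ?_⟩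
    · obtain ⟨q, hq, ha⟩ := conj_nine hW P h9 (hOA a.1) (by rw [hκe, a.2]) (hOz a.1)
      obtain ⟨q', hq', hb⟩ := conj_nine hW P h9 (hOA b.1) (by rw [hκe, b.2]) (hOz b.1)
      have e' : D.π (a.1.1 * y) = D.π (b.1.1 * y) := congrArg Subtype.val e
      rw [ha, hb, (P.cc_spec hW hq).2.1, (P.cc_spec hW hq').2.1] at e'
      refine Subtype.ext (Subtype.ext ?_)
      rw [ha, hb]
      exact mul_right_cancel (P.cc_congr hW hq hq' e')
    · rintro ⟨v, hv⟩
      obtain ⟨m, hm⟩ := (range_std hW P h9 v).2 hv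
      obtain ⟨q, hq, rfl⟩ := D.π_surj m
      have hO : ∃ n ∈ N, n * z * n⁻¹ = q * y * q⁻¹ :=
        ⟨q * n₀, mul_mem (hN ▸ Q_le_normalizer hW P h9 hq) hn₀, by rw [← hn₀y]; group⟩
      refine ⟨⟨⟨_, hO⟩, mk_inj (hκ _) (by norm_num) ?_⟩, Subtype.ext ((P.cc_spec hW hq).2.1.trans hm)⟩
      have hqC := Co1Invol.mem_C D hq
      rw [← hκe, hact_mul (mul_mem hqC P.mem_C) (inv_mem hqC), hact_mul hqC P.mem_C, hact_inv hqC, hact_Q hq, h9]
      group
  have hone : Nat.card (F 1) ≤ 32 := by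
    rcases isEmpty_or_nonempty (F 1) with hE | ⟨⟨e₀⟩⟩
    · rw [Nat.card_of_isEmpty]; norm_num
    have h32 : Nat.card {q : G // q ∈ D.Q ∧ q * y = y * q} = 32 := by
      rw [card_fixed hW P, Nat.card_congr (Equiv.subtypeEquivRight fun v => LinearMap.mem_ker.trans (by
        rw [h9]; exact mk_nine v) : LinearMap.ker (disp (hact D y)) ≃ {v : M8 // inW v}),
        Nat.card_eq_fintype_card]
      decide +kernel
    rw [← h32]
    have hm : ∀ e : F 1, e.1.1 * e₀.1.1 ∈ D.Q := fun e => mem_Q_of_hact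
      (mul_mem (mem_Af.1 (hOA e.1)).1 (mem_Af.1 (hOA e₀.1)).1) (by
        rw [hact_mul (mem_Af.1 (hOA e.1)).1 (mem_Af.1 (hOA e₀.1)).1, hκe, hκe, e.2, e₀.2, mk_sq (by norm_num)])
    refine Nat.card_le_card_of_injective (fun e => (⟨_, hm e, hcomm _ (mul_mem (hOA e.1) (hOA e₀.1)) y
      (self_mem_Af P.mem_C)⟩ : {q : G // q ∈ D.Q ∧ q * y = y * q})) fun a b e => ?_
    exact Subtype.ext (Subtype.ext (mul_right_cancel (congrArg Subtype.val e)))
  have hO : Nat.card O = 449 + 35 * Nat.card (F 1) := by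
    rw [hdec, ← count_masks.1, ← count_masks.2, Finset.sum_mul, ← Finset.sum_add_distrib]
    refine Finset.sum_congr rfl fun k _ => ?_
    rcases mask_cases k.1 k.2 with h | ⟨h, h'⟩ | ⟨h, h'⟩
    · rw [h, hzero, if_pos rfl, if_neg (by decide +kernel), zero_mul, add_zero]
    · have h0 : k.1 ≠ 0 := fun e => absurd (e ▸ h) (by decide +kernel)
      rw [if_neg h0, if_pos h, if_neg (by simp [h']), zero_mul, add_zero, ← htr (by norm_num) k.2 (exists_nd h).2, hnine]
    · have h0 : k.1 ≠ 0 := fun e => absurd (e ▸ h) (by decide +kernel)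
      rw [if_neg h0, if_neg (by simp [h']), if_pos h, zero_add, one_mul, ← htr (by norm_num) k.2 (exists_rt h).2]
  -- the order of the normaliser
  obtain ⟨H, hH⟩ : ∃ H, H = (centralizer ({z} : Set G)).subgroupOf N := ⟨_, rfl⟩
  have hidx : H.index = Nat.card O := by
    refine Nat.card_eq_of_bijective (Quotient.lift (fun n : N => (⟨n.1 * z * n.1⁻¹, n.1, n.2, rfl⟩ : O)) ?_) ⟨?_, ?_⟩
    · intro a b hab
      have : a⁻¹ * b ∈ H := QuotientGroup.leftRel_apply.1 hab
      rw [hH, Subgroup.mem_subgroupOf] at this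
      refine Subtype.ext ?_
      have e : (a.1⁻¹ * b.1) * z = z * (a.1⁻¹ * b.1) := mem_centralizer_singleton_iff.1 this
      show a.1 * z * a.1⁻¹ = b.1 * z * b.1⁻¹
      calc a.1 * z * a.1⁻¹ = a.1 * (z * (a.1⁻¹ * b.1)) * b.1⁻¹ := by group
        _ = b.1 * z * b.1⁻¹ := by rw [← e]; group
    · intro a b
      induction a using Quotient.inductionOn with | h a => ?_
      induction b using Quotient.inductionOn with | h b => ?_
      intro e
      have e' : a.1 * z * a.1⁻¹ = b.1 * z * b.1⁻¹ := congrArg Subtype.val e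
      refine Quotient.sound (QuotientGroup.leftRel_apply.2 ?_)
      rw [hH, Subgroup.mem_subgroupOf]
      refine mem_centralizer_singleton_iff.2 ?_
      show a.1⁻¹ * b.1 * z = z * (a.1⁻¹ * b.1)
      calc a.1⁻¹ * b.1 * z = a.1⁻¹ * (b.1 * z * b.1⁻¹) * b.1 := by group
        _ = z * (a.1⁻¹ * b.1) := by rw [← e']; group
    · rintro ⟨_, n, hn, rfl⟩
      exact ⟨Quotient.mk _ ⟨n, hn⟩, rfl⟩
  have h3 : 3 ∣ Nat.card H := by
    obtain ⟨t, ht, htW, ht3⟩ := exists_three
    obtain ⟨⟨c, hc⟩, hct⟩ := D.act_surj t ht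
    have hcN : c ∈ N := hN ▸ mem_normalizer_of_W hW P h9 hc (by rw [hact_eq hc, hct]; exact htW)
    have hcH : (⟨c, hcN⟩ : N) ∈ H := by rw [hH, Subgroup.mem_subgroupOf]; exact hc
    have h := orderOf_map_dvd D.act (⟨c, hc⟩ : centralizer ({z} : Set G))
    rw [hct, ht3, ← Subgroup.orderOf_coe] at h
    have h' := orderOf_dvd_natCard (⟨_, hcH⟩ : H)
    rw [← Subgroup.orderOf_coe, ← Subgroup.orderOf_coe] at h'
    exact h.trans h'
  have hdvd := card_normalizer_dvd hcomm hsq hcard (Af_self hW P h9)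
  rw [← hN, ← Subgroup.card_mul_index H, hidx, hO, Nat.mul_comm] at hdvd
  exact orbit_numbers _ (by omega) ((Nat.mul_dvd_mul_left _ h3).trans hdvd)

end Std

/-- There is no pure conjugate. -/
theorem no_pure (hW : WC D) {x : G} (P : Pure z x) : False := by
  obtain ⟨g, hg⟩ := isConj_iff.1 P.conj
  obtain ⟨h, hh⟩ := exists_std hW P
  exact no_std (D := twist D h) hW P hg hh

/-- A weakly closed central involution is isolated in its centraliser. -/
theorem isolated (hW : WC D) {g : G} (hg : g * z * g⁻¹ * z = z * (g * z * g⁻¹)) : g * z * g⁻¹ = z :=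
  by_contra fun hne => (exists_pure hW hg hne).elim fun _ P => no_pure hW P

end CfsgLib.Co1Uniq.Weak
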