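import Cfsg.Agent.Co1Loc.Subspace
import Cfsg.Agent.Co1Golay.Orbit

/-!
The alternating masks of the stabiliser of a maximal totally singular subspace: two orbits under the Levi
subgroup, and the transitivity of the stabiliser of a nondegenerate one.
-/

set_option autoImplicit false
set_option maxRecDepth 100000
set_option synthInstance.maxSize 4096
set_option linter.style.haveILetI false
set_option linter.unusedSectionVars false

namespace CfsgLib.Co1Uniq.Weak

open CfsgLib CfsgLib.Quad CfsgLib.Co1Invol CfsgLib.Co1Golay CfsgLib.Co1Loc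

/-- The isometry of a mask. -/
noncomputable def mk (k : ℕ) : O8 := sgL (selL topLs k)

/-- The transvections of the Levi subgroup. -/
def tv : List (M8 × M8) :=
  [(e0, y1), (e0, y2), (e0, y3), (x1, f0), (x2, f0), (x3, f0), (x1, y2), (x1, y3), (x2, y1), (x2, y3), (x3, y1),
    (x3, y2)]

/-- A product of transvections. -/
def tw (w : List ℕ) : List (M8 × M8) := w.map fun i => tv.getD i (e0, y1)

/-- The nondegenerate masks, with their words from the standard one. -/
def ndW : List (ℕ × List ℕ) :=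
  [(9, []), (11, [2]), (13, [1]), (15, [2, 1]), (18, [2, 5, 2]), (19, [5, 2]), (22, [2, 5, 2, 1]),
    (23, [5, 2, 1]), (25, [5]), (26, [6, 2]), (29, [3, 1]), (30, [6, 2, 1]), (36, [1, 4, 1]), (37, [4, 1]),
    (38, [1, 4, 2, 1]), (39, [4, 2, 1]), (41, [4]), (43, [3, 2]), (44, [7, 1]), (46, [7, 2, 1]),
    (50, [1, 5, 3, 2]), (51, [5, 3, 2]), (52, [1, 4, 3, 1]), (53, [4, 3, 1]), (57, [5, 4]), (58, [6, 3, 2]),
    (60, [7, 3, 1]), (63, [3, 2, 1])]

/-- The masks of rank two, with their words from the standard one. -/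
def rtW : List (ℕ × List ℕ) :=
  [(1, []), (2, [6, 8]), (3, [8]), (4, [7, 10]), (5, [10]), (6, [11, 6, 8]), (7, [10, 8]), (8, [7, 10, 1, 4]),
    (10, [6, 8, 5]), (12, [7, 10, 4]), (14, [7, 10, 0, 4]), (16, [2, 5]), (17, [5]), (20, [2, 0, 5]),
    (21, [0, 5]), (24, [8, 2, 5]), (27, [8, 5]), (28, [7, 10, 5, 4]), (31, [8, 0, 5]), (32, [1, 4]), (33, [4]),
    (34, [1, 0, 4]), (35, [0, 4]), (40, [10, 1, 4]), (42, [5, 1, 0, 4]), (45, [10, 4]), (47, [10, 0, 4]),
    (48, [11, 1, 4]), (49, [5, 4]), (54, [11, 1, 0, 4]), (55, [11, 0, 4]), (56, [2, 5, 0, 4]), (59, [5, 0, 4]),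
    (61, [10, 5, 4]), (62, [1, 5, 0, 4])]

/-- The vectors of the subspace, with their words from the first one inside the stabiliser of the standard mask. -/
def vecW : List (ℕ × List ℕ) :=
  [(1, []), (2, [0, 3]), (3, [3]), (4, [1, 4, 10, 7]), (5, [4, 7]), (6, [0, 2, 8, 3]), (7, [2, 8, 3]),
    (8, [2, 5, 8, 6]), (9, [5, 6]), (10, [0, 1, 10, 3]), (11, [1, 10, 3]), (12, [1, 10, 11, 4, 7]),
    (13, [9, 5, 6]), (14, [0, 9, 1, 10, 3]), (15, [3, 9, 5, 6])]

/-- A mask is nondegenerate. -/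
def isND (k : ℕ) : Bool := (ndW.map Prod.fst).contains k

/-- A mask has rank two. -/
def isRT (k : ℕ) : Bool := (rtW.map Prod.fst).contains k

theorem mask_cases : ∀ k < 64, k = 0 ∨ (isND k = true ∧ isRT k = false) ∨ (isRT k = true ∧ isND k = false) := by
  decide +kernel

theorem mask_split : ∀ k < 64, k ≠ 0 → isND k = true ∨ ∃ a < 64, isND a = true ∧ isND (k ^^^ a) = true := by
  decide +kernel

theorem count_masks : (∑ k : Fin 64, if k.val = 0 then 1 else if isND k.val = true then 16 else 0) = 449 ∧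
    (∑ k : Fin 64, if isRT k.val = true then 1 else 0) = 35 := by decide +kernel

/-- A word is admissible and preserves the subspace, and its reverse inverts it. -/
def wordOK (w : List ℕ) : Bool :=
  ((List.range 4).all fun i => Nat.blt (sLN (tw w) (2 ^ i)) 16) &&
    ((List.range 256).all fun x => sLN (tw w ++ (tw w).reverse) x == x)

/-- A word carries the one mask to the other. -/
def carries (w : List ℕ) (a k : ℕ) : Bool :=
  (List.range 256).all fun x => sLN (tw w ++ (selL topLs a ++ (tw w).reverse)) x == sLN (selL topLs k) x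

theorem ndW_ok : (ndW.all fun p => wordOK p.2 && carries p.2 9 p.1 && Nat.blt p.1 64) = true := by decide +kernel

theorem rtW_ok : (rtW.all fun p => wordOK p.2 && carries p.2 1 p.1 && Nat.blt p.1 64) = true := by decide +kernel

theorem vecW_ok : (vecW.all fun p => wordOK p.2 && carries p.2 9 9 && (sLN (tw p.2) 1 == p.1)) = true := by
  decide +kernel

theorem vecW_all : ∀ x < 16, x ≠ 0 → (vecW.map Prod.fst).contains x = true := by decide +kernel

theorem tv_ok : ∀ i < 13, okL [tv.getD i (e0, y1)] ∧ inPool [tv.getD i (e0, y1)] := by decide +kernel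

theorem tw_ok (w : List ℕ) : okL (tw w) ∧ inPool (tw w) ∧ okL (tw w).reverse ∧ inPool (tw w).reverse := by
  have h : ∀ p ∈ tw w, (qf p.1 = 0 ∧ bf p.1 p.2 = 0) ∧ p ∈ pool := by
    intro p hp
    obtain ⟨i, -, rfl⟩ := List.mem_map.1 hp
    by_cases hi : i < 13
    · exact ⟨(tv_ok i hi).1 _ List.mem_cons_self, (tv_ok i hi).2 _ List.mem_cons_self⟩
    · rw [List.getD_eq_default _ _ (show tv.length ≤ i by simp [tv]; omega)]
      exact ⟨(tv_ok 0 (by norm_num)).1 _ List.mem_cons_self, (tv_ok 0 (by norm_num)).2 _ List.mem_cons_self⟩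
  exact ⟨fun p hp => (h p hp).1, fun p hp => (h p hp).2, fun p hp => (h p (List.mem_reverse.1 hp)).1,
    fun p hp => (h p (List.mem_reverse.1 hp)).2⟩

theorem okL_app {l l' : List (M8 × M8)} (h : okL l) (h' : okL l') : okL (l ++ l') := fun p hp =>
  (List.mem_append.1 hp).elim (h p) (h' p)

theorem inPool_app {l l' : List (M8 × M8)} (h : inPool l) (h' : inPool l') : inPool (l ++ l') := fun p hp =>
  (List.mem_append.1 hp).elim (h p) (h' p)

theorem sgL_of_probe {l l' : List (M8 × M8)} (h : okL l) (h' : okL l') (hp : inPool l) (hp' : inPool l')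
    (he : ∀ x < 256, sLN l x = sLN l' x) : sgL l = sgL l' := sgL_eq h h' (smL_eq hp hp' he)

theorem inW_small : ∀ m : M8, inW m ↔ encN m < 16 := inW_encN

theorem xb_enc : ∀ i : Fin 4, encN (xb i) = 2 ^ i.val := by decide +kernel

/-- The isometry of a word. -/
theorem word_spec {w : List ℕ} (h : wordOK w = true) :
    sgL (tw w) ∈ commutator (oGroup q8) ∧ (∀ v, inW v → inW ((sgL (tw w)).1 v)) ∧
      (sgL (tw w))⁻¹ = sgL (tw w).reverse := by
  obtain ⟨h1, h2, h3, h4⟩ := tw_ok w
  simp only [wordOK, Bool.and_eq_true, List.all_eq_true, List.mem_range, Nat.blt_eq, beq_iff_eq] at h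
  refine ⟨sgL_comm _ h1, fun v hv => ?_, inv_eq_of_mul_eq_one_right ?_⟩
  · have hb : ∀ i, inW ((sgL (tw w)).1 (xb i)) := fun i => by
      rw [inW_small, sgL_apply _ h1, encN_smL _ h2, xb_enc]
      exact h.1 i i.2
    rw [inW_span hv]
    simp only [map_sum, map_smul]
    intro j
    rw [Finset.sum_apply]
    exact Finset.sum_eq_zero fun i _ => by rw [Pi.smul_apply, hb i j, smul_zero]
  · rw [← sgL_append]
    exact sgL_of_probe (l' := []) (okL_app h1 h3) (fun p hp => absurd hp List.not_mem_nil) (inPool_app h2 h4)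
      (fun p hp => absurd hp List.not_mem_nil) fun x hx => (h.2 x hx).trans rfl

theorem conj_spec {w : List ℕ} (h : wordOK w = true) {a k : ℕ} (ha : a < 64) (hk : k < 64)
    (hc : carries w a k = true) : sgL (tw w) * mk a * (sgL (tw w))⁻¹ = mk k := by
  obtain ⟨h1, h2, h3, h4⟩ := tw_ok w
  simp only [carries, List.all_eq_true, List.mem_range, beq_iff_eq] at hc
  rw [(word_spec h).2.2, mk, mk, ← sgL_append, ← sgL_append, List.append_assoc]
  exact sgL_of_probe (okL_app h1 (okL_app (topLs_sel a ha).1 h3)) (topLs_sel k hk).1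
    (inPool_app h2 (inPool_app (topLs_sel a ha).2 h4)) (topLs_sel k hk).2 hc

theorem exists_nd {k : ℕ} (h : isND k = true) : k < 64 ∧ ∃ t ∈ commutator (oGroup q8),
    (∀ v, inW v → inW (t.1 v)) ∧ t * mk 9 * t⁻¹ = mk k := by
  rw [isND, List.contains_iff_mem, List.mem_map] at h
  obtain ⟨⟨k, w⟩, hp, rfl⟩ := h
  have := List.all_eq_true.1 ndW_ok _ hp
  simp only [Bool.and_eq_true, Nat.blt_eq] at this
  obtain ⟨⟨h1, h2⟩, h3⟩ := this
  exact ⟨h3, _, (word_spec h1).1, (word_spec h1).2.1, conj_spec h1 (by norm_num) h3 h2⟩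

theorem exists_rt {k : ℕ} (h : isRT k = true) : k < 64 ∧ ∃ t ∈ commutator (oGroup q8),
    (∀ v, inW v → inW (t.1 v)) ∧ t * mk 1 * t⁻¹ = mk k := by
  rw [isRT, List.contains_iff_mem, List.mem_map] at h
  obtain ⟨⟨k, w⟩, hp, rfl⟩ := h
  have := List.all_eq_true.1 rtW_ok _ hp
  simp only [Bool.and_eq_true, Nat.blt_eq] at this
  obtain ⟨⟨h1, h2⟩, h3⟩ := this
  exact ⟨h3, _, (word_spec h1).1, (word_spec h1).2.1, conj_spec h1 (by norm_num) h3 h2⟩

/-- The stabiliser of the standard mask is transitive on the nonzero vectors of the subspace. -/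
theorem exists_vec {v : M8} (hv : inW v) (h0 : v ≠ 0) : ∃ t ∈ commutator (oGroup q8),
    (∀ v, inW v → inW (t.1 v)) ∧ t * mk 9 = mk 9 * t ∧ t.1 e0 = v := by
  have hne : encN v ≠ 0 := fun e => h0 (encN_inj (e.trans (by decide +kernel)))
  have h := vecW_all _ ((inW_small v).1 hv) hne
  rw [List.contains_iff_mem, List.mem_map] at h
  obtain ⟨⟨x, w⟩, hp, hx⟩ := h
  have := List.all_eq_true.1 vecW_ok _ hp
  simp only [Bool.and_eq_true, beq_iff_eq] at this
  obtain ⟨⟨h1, h2⟩, h3⟩ := this
  refine ⟨_, (word_spec h1).1, (word_spec h1).2.1, mul_inv_eq_iff_eq_mul.1 (conj_spec h1 (by norm_num) (by norm_num) h2),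
    encN_inj ?_⟩
  rw [sgL_apply _ (tw_ok w).1, encN_smL _ (tw_ok w).2.1, show encN e0 = 1 by decide +kernel, h3]
  exact hx

theorem mk_fix {k : ℕ} (hk : k < 64) {v : M8} (hv : inW v) : (mk k).1 v = v := by
  have h : ∀ i, (mk k).1 (xb i) = xb i := fun i => by
    rw [mk, sgL_apply _ (topLs_sel k hk).1]
    exact smL_val (topLs_sel k hk).2 ((sel_values k hk).1 i)
  rw [inW_span hv]
  simp only [map_sum, map_smul, h]

theorem mk_mem {k : ℕ} (hk : k < 64) : mk k ∈ commutator (oGroup q8) := sgL_comm _ (topLs_sel k hk).1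

theorem mk_matrix {k : ℕ} (hk : k < 64) (i j : Fin 4) : bf ((mk k).1 (yb i)) (yb j) = (mBit k i j : ZMod 2) := by
  rw [mk, sgL_apply _ (topLs_sel k hk).1, bf_yb, encN_smL _ (topLs_sel k hk).2, (sel_values k hk).2]

theorem mBit_xor : ∀ a < 64, ∀ b < 64, ∀ i j : Fin 4,
    (mBit (a ^^^ b) i j : ZMod 2) = (mBit a i j : ZMod 2) + mBit b i j := by decide +kernel

theorem mBit_sep : ∀ a < 64, ∀ b < 64, (∀ i j : Fin 4, (mBit a i j : ZMod 2) = mBit b i j) → a = b := by
  decide +kernel

theorem mk_inj {a b : ℕ} (ha : a < 64) (hb : b < 64) (h : mk a = mk b) : a = b :=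
  mBit_sep a ha b hb fun i j => by rw [← mk_matrix ha, ← mk_matrix hb, h]

theorem mk_zero : mk 0 = 1 := by
  rw [mk, show selL topLs 0 = [] from by decide +kernel]
  rfl

theorem mk_mul {a b : ℕ} (ha : a < 64) (hb : b < 64) : mk a * mk b = mk (a ^^^ b) := by
  have hab : a ^^^ b < 64 := Nat.xor_lt_two_pow (n := 6) ha hb
  refine ext_matrix (fun i => ?_) (fun i => mk_fix hab (inW_xb i)) fun i j => ?_
  · show (mk a).1 ((mk b).1 (xb i)) = xb i
    rw [mk_fix hb (inW_xb i), mk_fix ha (inW_xb i)]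
  · show bf ((mk a).1 ((mk b).1 (yb i))) (yb j) = _
    have hw : inW ((mk b).1 (yb i) + yb i) := inW_of_fix (fun k => mk_fix hb (inW_xb k)) _
    have e : (mk b).1 (yb i) = yb i + ((mk b).1 (yb i) + yb i) := by
      rw [add_comm ((mk b).1 (yb i)), ← add_assoc, add_self, zero_add]
    conv_lhs => rw [e, map_add, mk_fix ha hw, bf_add_left, bf_add_left, (yb_facts i j).1, add_zero,
      mk_matrix ha, mk_matrix hb]
    rw [mk_matrix hab, mBit_xor a ha b hb]

theorem mk_sq {k : ℕ} (hk : k < 64) : mk k * mk k = 1 := by rw [mk_mul hk hk, Nat.xor_self, mk_zero]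

theorem nine_fixed : ∀ m : M8, smL (selL topLs 9) m + m = 0 ↔ inW m := by decide +kernel

theorem one_range : ∀ m : M8, smL (selL topLs 1) m + m ∈ ([0, e0, x1, e0 + x1] : List M8) := by decide +kernel

theorem mk_nine (m : M8) : disp (mk 9) m = 0 ↔ inW m := by
  rw [disp_apply, mk, sgL_apply _ (topLs_sel 9 (by norm_num)).1]
  exact nine_fixed m

/-- A mask of rank two has small range. -/
theorem rank_rt {k : ℕ} (h : isRT k = true) :
    Module.finrank (ZMod 2) (LinearMap.range (disp (mk k))) ≤ 2 := by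
  classical
  obtain ⟨-, t, -, -, rfl'⟩ := exists_rt h
  have hle : LinearMap.range (disp (mk k)) ≤ Submodule.span (ZMod 2) ({t.1 e0, t.1 x1} : Set M8) := by
    rintro _ ⟨m, rfl⟩
    rw [← rfl', disp_apply]
    obtain ⟨n, rfl⟩ : ∃ n, t.1 n = m := ⟨_, t.1.apply_symm_apply m⟩
    have e : (t * mk 1 * t⁻¹).1 (t.1 n) + t.1 n = t.1 ((mk 1).1 n + n) := by
      rw [map_add]
      show t.1 ((mk 1).1 (t.1.symm (t.1 n))) + _ = _
      rw [LinearEquiv.symm_apply_apply]
    rw [e, mk, sgL_apply _ (topLs_sel 1 (by norm_num)).1]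
    have := one_range n
    simp only [List.mem_cons, List.not_mem_nil, or_false] at this
    rcases this with h | h | h | h <;> rw [h]
    · rw [map_zero]; exact zero_mem _
    · exact Submodule.subset_span (by simp)
    · exact Submodule.subset_span (by simp)
    · rw [map_add]; exact add_mem (Submodule.subset_span (by simp)) (Submodule.subset_span (by simp))
  refine ((Submodule.finrank_mono hle).trans (finrank_span_le_card _)).trans ?_
  rw [Set.toFinset_insert, Set.toFinset_singleton]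
  exact Finset.card_le_two

end CfsgLib.Co1Uniq.Weak
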