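import Cfsg.Agent.Co1Uniq.WeakTwo
import Cfsg.Agent.Co1Uniq.WeakMask

/-!
A pure pair yields an elementary subgroup of order `2 ^ 11` containing both involutions, shared by their
centralisers.
-/

set_option autoImplicit false
set_option maxRecDepth 100000
set_option synthInstance.maxSize 4096
set_option linter.style.haveILetI false
set_option linter.unusedSectionVars false

namespace CfsgLib.Co1Uniq.Weak

open CfsgLib CfsgLib.Quad CfsgLib.Co1Invol CfsgLib.Co1Golay CfsgLib.Co1Loc Subgroup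

variable {G : Type*} [Group G] [Finite G] {z : G} {D : Dat z}

/-- The centraliser of the fixed part of the radical. -/
def Af (D : Dat z) (y : G) : Subgroup G :=
  centralizer ({z} : Set G) ⊓ centralizer {q : G | q ∈ D.Q ∧ q * y = y * q}

theorem mem_Af {y a : G} : a ∈ Af D y ↔ a ∈ centralizer ({z} : Set G) ∧
    ∀ q ∈ D.Q, q * y = y * q → q * a = a * q := by
  rw [Af, mem_inf, mem_centralizer_iff (s := {q : G | q ∈ D.Q ∧ q * y = y * q})]
  exact and_congr Iff.rfl ⟨fun h q h1 h2 => h q ⟨h1, h2⟩, fun h q hq => h q hq.1 hq.2⟩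

/-- A normalising element of the first centraliser normalises the subgroup. -/
theorem Af_conj {y n a : G} (hn : n ∈ centralizer ({z} : Set G))
    (hU : ∀ q ∈ D.Q, q * y = y * q → (n⁻¹ * q * n) * y = y * (n⁻¹ * q * n)) (ha : a ∈ Af D y) :
    n * a * n⁻¹ ∈ Af D y := by
  obtain ⟨h1, h2⟩ := mem_Af.1 ha
  refine mem_Af.2 ⟨mul_mem (mul_mem hn h1) (inv_mem hn), fun q hq hqy => ?_⟩
  have hm : n⁻¹ * q * n ∈ D.Q := by
    have := (π_conj (inv_mem hn) hq).1
    rwa [inv_inv] at this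
  have := h2 _ hm (hU q hq hqy)
  calc q * (n * a * n⁻¹) = n * ((n⁻¹ * q * n) * a) * n⁻¹ := by group
    _ = n * a * n⁻¹ * q := by rw [this]; group

section Std

variable (hW : WC D) {y : G} (P : Pure z y) (h9 : hact D y = mk 9)

include hW P h9

theorem comm_iff_inW {q : G} (hq : q ∈ D.Q) : q * y = y * q ↔ inW (D.π q) := by
  rw [← mk_nine, ← h9]
  exact ⟨fun h => P.fixed_of_comm hW hq h.symm, fun h => (P.comm_of_fixed hW hq h).symm⟩

theorem range_std (v : M8) : v ∈ LinearMap.range (disp (hact D y)) ↔ inW v := by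
  obtain ⟨-, hk⟩ := (rank_cases (P.hact_sq hW) (hact_mem _) (P.hact_ne hW)).resolve_left fun h => by
    have := P.rank_four hW; omega
  rw [hk, LinearMap.mem_ker, h9, mk_nine]

theorem conj_fixed {n : G} (hn : n ∈ centralizer ({z} : Set G)) (hp : ∀ v, inW v → inW ((hact D n).1 v)) :
    ∀ q ∈ D.Q, q * y = y * q → (n⁻¹ * q * n) * y = y * (n⁻¹ * q * n) := by
  intro q hq hqy
  obtain ⟨h1, h2⟩ := π_conj (inv_mem hn) hq
  rw [inv_inv] at h1 h2
  rw [comm_iff_inW hW P h9 h1, h2, hact_inv hn]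
  exact inW_inv hp ((comm_iff_inW hW P h9 hq).1 hqy)

theorem Af_conj_W {n a : G} (hn : n ∈ centralizer ({z} : Set G)) (hp : ∀ v, inW v → inW ((hact D n).1 v))
    (ha : a ∈ Af D y) : n * a * n⁻¹ ∈ Af D y :=
  Af_conj hn (conj_fixed hW P h9 hn hp) ha

theorem hact_Af {a : G} (ha : a ∈ Af D y) : ∃ k < 64, hact D a = mk k := by
  obtain ⟨h1, h2⟩ := mem_Af.1 ha
  refine exists_mask fun i => ?_
  obtain ⟨q, hq, hqπ⟩ := D.π_surj (xb i)
  have := h2 q hq ((comm_iff_inW hW P h9 hq).2 (hqπ.symm ▸ inW_xb i))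
  rw [← hqπ, ← (π_conj h1 hq).2, ← this, mul_inv_cancel_right]

theorem U_le {q : G} (hq : q ∈ D.Q) (hqW : inW (D.π q)) : q ∈ Af D y :=
  mem_Af.2 ⟨Co1Invol.mem_C D hq, fun r hr hry => (D.comm_iff r hr q hq).2
    (inW_perp ((comm_iff_inW hW P h9 hr).1 hry) hqW)⟩

theorem mem_U {a : G} (ha : a ∈ Af D y) (haQ : a ∈ D.Q) : inW (D.π a) := by
  refine (inW_iff_xb _).2 fun i => ?_
  obtain ⟨q, hq, hqπ⟩ := D.π_surj (xb i)
  have := (mem_Af.1 ha).2 q hq ((comm_iff_inW hW P h9 hq).2 (hqπ.symm ▸ inW_xb i))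
  rw [← hqπ, bf_comm]
  exact (D.comm_iff q hq a haQ).1 this

theorem U_central {u a : G} (hu : u ∈ D.Q) (huW : inW (D.π u)) (ha : a ∈ Af D y) : u * a = a * u :=
  (mem_Af.1 ha).2 u hu ((comm_iff_inW hW P h9 hu).2 huW)

/-- A pure conjugate with mask image lies in the subgroup. -/
theorem pure_mem {x : G} (Px : Pure z x) {k : ℕ} (hk : k < 64) (hx : hact D x = mk k) : x ∈ Af D y :=
  mem_Af.2 ⟨Px.mem_C, fun q hq hqy => (Px.comm_of_fixed hW hq (by
    rw [hx, disp_apply, mk_fix hk ((comm_iff_inW hW P h9 hq).1 hqy), add_self])).symm⟩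

/-- A subgroup of shifted commutators invariant under the centraliser of both is trivial. -/
theorem spread {e : G} (he : e = 1 ∨ e = z) (S : Subgroup G) (hzS : z ∉ S)
    (hpat : ∀ s ∈ S, s ≠ 1 → ∃ q ∈ D.Q, s = q * y * q⁻¹ * y * e)
    (hinv : ∀ n ∈ centralizer ({z} : Set G), n * y = y * n → ∀ s ∈ S, n * s * n⁻¹ ∈ S) : S = ⊥ := by
  classical
  refine (Subgroup.eq_bot_iff_forall _).2 fun s hs => by_contra fun hs1 => ?_
  have heQ : e ∈ D.Q := by rcases he with rfl | rfl; exacts [one_mem _, D.pre.gen.mem]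
  have hproj : ∀ {q : G}, q ∈ D.Q → q * y * q⁻¹ * y * e ∈ D.Q ∧
      D.π (q * y * q⁻¹ * y * e) = disp (hact D y) (D.π q) := fun {q} hq => by
    obtain ⟨h1, h2, -⟩ := P.cc_spec hW hq
    exact ⟨mul_mem h1 heQ, by rw [D.π_mul _ h1 _ heQ, h2, (D.π_eq_zero e heQ).2 he, add_zero]⟩
  have hnz : ∀ t ∈ S, t ≠ 1 → t ∈ D.Q ∧ D.π t ≠ 0 ∧ inW (D.π t) := by
    intro t ht ht1
    obtain ⟨q, hq, e'⟩ := hpat t ht ht1
    obtain ⟨h1, h2⟩ := hproj hq
    refine ⟨e' ▸ h1, fun h0 => ?_, (range_std hW P h9 _).1 ⟨D.π q, by rw [e', h2]⟩⟩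
    rcases (D.π_eq_zero t (e' ▸ h1)).1 h0 with r | r
    exacts [ht1 r, hzS (r ▸ ht)]
  obtain ⟨hsQ, hs0, hsW⟩ := hnz s hs hs1
  obtain ⟨t₁, ht₁, hp₁, hc₁, ht₁e⟩ := exists_vec hsW hs0
  have hall : ∀ v : M8, inW v → v ≠ 0 → ∃ r ∈ S, r ≠ 1 ∧ D.π r = v := by
    intro v hv hv0
    obtain ⟨t₂, ht₂, hp₂, hc₂, ht₂e⟩ := exists_vec hv hv0
    obtain ⟨n, hn, hna, hny⟩ := P.exists_lift hW (mul_mem ht₂ (inv_mem ht₁)) (by
      rw [h9]
      exact ((show Commute t₂ (mk 9) from hc₂).mul_left (show Commute t₁ (mk 9) from hc₁).inv_left).eq)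
    refine ⟨n * s * n⁻¹, hinv n hn hny s hs, fun h => hs1 (conj_eq_one_iff.1 h), ?_⟩
    rw [(π_conj hn hsQ).2, hna, ← ht₁e]
    show t₂.1 (t₁.1.symm (t₁.1 e0)) = v
    rw [LinearEquiv.symm_apply_apply, ht₂e]
  have hval : ∀ v : M8, inW v → v ≠ 0 → ∃ q ∈ D.Q, ∃ r ∈ S, r ≠ 1 ∧ r = q * y * q⁻¹ * y * e ∧
      disp (hact D y) (D.π q) = v := by
    intro v hv hv0
    obtain ⟨r, hr, hr1, hrv⟩ := hall v hv hv0
    obtain ⟨q, hq, hre⟩ := hpat r hr hr1
    exact ⟨q, hq, r, hr, hr1, hre, by rw [← (hproj hq).2, ← hre, hrv]⟩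
  obtain ⟨q₁, hq₁, r₁, hr₁, -, he₁, hv₁⟩ := hval e0 inW_facts.1 e0_ne
  have hpair : ∀ v : M8, inW v → v ≠ 0 → v ≠ e0 → bf (D.π q₁) v = if e = 1 then 0 else 1 := by
    intro v hv hv0 hve
    obtain ⟨q, hq, r, hr, -, her, hvq⟩ := hval v hv hv0
    have hne : r₁ * r ≠ 1 := fun h => hve (by
      have hr' : r = r₁⁻¹ := eq_inv_of_mul_eq_one_right h
      have := congrArg D.π hr'
      rw [π_inv D (he₁ ▸ (hproj hq₁).1), her, he₁, (hproj hq).2, (hproj hq₁).2, hv₁, hvq] at this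
      exact this)
    rw [← hvq]
    exact pattern hW P he hq₁ hq he₁ her (hpat _ (mul_mem hr₁ hr) hne)
  obtain ⟨n1, n2, n3, n4, n5, n6, n7, n8, n9⟩ : inW x1 ∧ inW x2 ∧ inW (x1 + x2) ∧ x1 ≠ 0 ∧ x2 ≠ 0 ∧ x1 + x2 ≠ 0 ∧
      x1 ≠ e0 ∧ x2 ≠ e0 ∧ x1 + x2 ≠ e0 := by decide +kernel
  have h0 : (if e = 1 then (0 : ZMod 2) else 1) = 0 := by
    have h := hpair _ n3 n6 n9
    rw [bf_add_right, hpair _ n1 n4 n7, hpair _ n2 n5 n8] at h
    exact left_eq_add.1 h.symm
  have hzero : ∀ v, inW v → bf (D.π q₁) v = 0 := by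
    intro v hv
    by_cases hv0 : v = 0
    · rw [hv0, bf_zero_right]
    by_cases hve : v = e0
    · rw [hve, ← hv₁, bf_comm, ← qf_disp_self (P.hact_sq hW), P.ts hW]
    rw [hpair v hv hv0 hve, h0]
  refine e0_ne (eq_zero_of_bf fun n => ?_)
  rw [← hv₁, bf_disp (P.hact_sq hW)]
  exact hzero _ ((range_std hW P h9 _).1 ⟨n, rfl⟩)

/-- The standard pure conjugate is central in the subgroup. -/
theorem y_central {a : G} (ha : a ∈ Af D y) : a * y = y * a := by
  have hconj : ∀ {b : G}, b ∈ Af D y → Pure z (b * y * b⁻¹) ∧ hact D (b * y * b⁻¹) = hact D y := fun {b} hb => by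
    have hbC := (mem_Af.1 hb).1
    obtain ⟨k, hk, hbk⟩ := hact_Af hW P h9 hb
    refine ⟨P.conj_C hbC, ?_⟩
    rw [hact_mul (mul_mem hbC P.mem_C) (inv_mem hbC), hact_mul hbC P.mem_C, hact_inv hbC, hbk, h9,
      mk_mul hk (by norm_num), Nat.xor_comm, ← mk_mul (by norm_num) hk, mul_inv_cancel_right]
  have hf : ∀ {b : G}, b ∈ Af D y → ∃ q ∈ D.Q, b * y * b⁻¹ * y = q * y * q⁻¹ * y := fun {b} hb => by
    obtain ⟨h1, h2⟩ := hconj hb
    obtain ⟨q, hq, e⟩ := P.exists_conj hW h1 h2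
    exact ⟨q, hq, by rw [e]⟩
  have hU : ∀ {b : G}, b ∈ Af D y → b * y * b⁻¹ * y ∈ D.Q ∧ inW (D.π (b * y * b⁻¹ * y)) := fun {b} hb => by
    obtain ⟨q, hq, e⟩ := hf hb
    obtain ⟨h1, h2, -⟩ := P.cc_spec hW hq
    exact ⟨e ▸ h1, (range_std hW P h9 _).1 ⟨D.π q, by rw [e, h2]⟩⟩
  let f : Af D y →* G :=
    { toFun := fun b => (b : G) * y * (b : G)⁻¹ * y
      map_one' := by
        show (1 : G) * y * (1 : G)⁻¹ * y = 1
        rw [one_mul, inv_one, mul_one, P.sq D]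
      map_mul' := fun b c => by
        have hcb := U_central hW P h9 (hU c.2).1 (hU c.2).2 b.2
        have hbc := (D.comm_iff _ (hU c.2).1 _ (hU b.2).1).2 (inW_perp (hU c.2).2 (hU b.2).2)
        show (b : G) * c * y * ((b : G) * c)⁻¹ * y =
          (b : G) * y * (b : G)⁻¹ * y * ((c : G) * y * (c : G)⁻¹ * y)
        calc (b : G) * c * y * ((b : G) * c)⁻¹ * y
            = (b : G) * ((c : G) * y * (c : G)⁻¹ * y) * (y⁻¹ * (b : G)⁻¹ * y) := by group
          _ = (c : G) * y * (c : G)⁻¹ * y * ((b : G) * y⁻¹ * (b : G)⁻¹ * y) := by rw [← hcb]; group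
          _ = _ := by rw [inv_eq_of_mul_eq_one_right (P.sq D), hbc] }
  have key := spread hW P h9 (Or.inl rfl) f.range (fun hz => ?_) (fun s hs hs1 => ?_) ?_
  · have h : f ⟨a, ha⟩ = 1 := by
      have : f ⟨a, ha⟩ ∈ f.range := ⟨_, rfl⟩
      rw [key] at this
      exact Subgroup.mem_bot.1 this
    have h' : a * y * a⁻¹ * y = 1 := h
    calc a * y = (a * y * a⁻¹ * y) * y⁻¹ * a := by group
      _ = y * a := by rw [h', one_mul, inv_eq_of_mul_eq_one_right (P.sq D)]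
  · obtain ⟨b, hb⟩ := hz
    refine (hconj b.2).1.not_mul ?_
    have hb' : (b : G) * y * (b : G)⁻¹ * y = z := hb
    have : (b : G) * y * (b : G)⁻¹ * z = y := by
      conv_lhs => arg 2; rw [← hb']
      calc (b : G) * y * (b : G)⁻¹ * ((b : G) * y * (b : G)⁻¹ * y) = (b : G) * (y * y) * (b : G)⁻¹ * y := by group
        _ = y := by rw [P.sq D]; group
    rw [this]
    exact P.conj
  · obtain ⟨b, rfl⟩ := hs
    obtain ⟨q, hq, e⟩ := hf b.2
    exact ⟨q, hq, by rw [mul_one]; exact e⟩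
  · rintro n hn hny s ⟨b, rfl⟩
    have hb' : n * (b : G) * n⁻¹ ∈ Af D y := by
      refine Af_conj hn (fun q hq hqy => ?_) b.2
      have hc : Commute (n⁻¹ * q * n) y :=
        ((show Commute n y from hny).inv_left.mul_left (show Commute q y from hqy)).mul_left hny
      exact hc.eq
    refine ⟨⟨_, hb'⟩, ?_⟩
    show n * b * n⁻¹ * y * (n * b * n⁻¹)⁻¹ * y = n * ((b : G) * y * (b : G)⁻¹ * y) * n⁻¹
    have hyn : n⁻¹ * y * n = y := by rw [mul_assoc, ← hny, inv_mul_cancel_left]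
    rw [show n * (b : G) * n⁻¹ * y * (n * (b : G) * n⁻¹)⁻¹ * y =
        n * ((b : G) * (n⁻¹ * y * n) * (b : G)⁻¹ * (n⁻¹ * y * n)) * n⁻¹ by group, hyn]

/-- Conjugates of the standard one over every nondegenerate mask. -/
theorem exists_pure_nd {k : ℕ} (hk : isND k = true) : ∃ c ∈ centralizer ({z} : Set G),
    (∀ v, inW v → inW ((hact D c).1 v)) ∧ hact D (c * y * c⁻¹) = mk k := by
  obtain ⟨-, t, ht, htW, hte⟩ := exists_nd hk
  obtain ⟨⟨c, hc⟩, rfl⟩ := D.act_surj t ht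
  rw [← hact_eq hc] at htW hte
  exact ⟨c, hc, htW, by rw [hact_mul (mul_mem hc P.mem_C) (inv_mem hc), hact_mul hc P.mem_C, hact_inv hc, h9, hte]⟩

theorem pure_central {x : G} (Px : Pure z x) {k : ℕ} (hk : isND k = true) (hx : hact D x = mk k) {a : G}
    (ha : a ∈ Af D y) : a * x = x * a := by
  obtain ⟨c, hc, hcW, hck⟩ := exists_pure_nd hW P h9 hk
  obtain ⟨q, hq, hqe⟩ := (P.conj_C hc).exists_conj hW Px (by rw [hx, hck])
  obtain ⟨m, hm⟩ : ∃ m, m = q * c := ⟨_, rfl⟩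
  have hmC : m ∈ centralizer ({z} : Set G) := hm ▸ mul_mem (Co1Invol.mem_C D hq) hc
  have hmW : ∀ v, inW v → inW ((hact D m⁻¹).1 v) := fun v hv => by
    rw [hact_inv hmC]
    refine inW_inv (fun w hw => ?_) hv
    rw [hm, hact_mul (Co1Invol.mem_C D hq) hc, hact_Q hq, one_mul]
    exact hcW w hw
  have h := y_central hW P h9 (Af_conj_W hW P h9 (inv_mem hmC) hmW ha)
  rw [inv_inv] at h
  have hxm : x = m * y * m⁻¹ := by rw [← hqe, hm]; group
  rw [hxm]
  calc a * (m * y * m⁻¹) = m * ((m⁻¹ * a * m) * y) * m⁻¹ := by group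
    _ = m * y * m⁻¹ * a := by rw [h]; group

/-- Every member is a product of pure conjugates and fixed lifts. -/
theorem Af_induction {M : G → Prop} (hmul : ∀ a ∈ Af D y, ∀ b ∈ Af D y, M a → M b → M (a * b))
    (hU : ∀ u ∈ D.Q, inW (D.π u) → M u)
    (hP : ∀ x, Pure z x → x ∈ Af D y → ∀ k, isND k = true → hact D x = mk k → M x)
    {a : G} (ha : a ∈ Af D y) : M a := by
  have hnd : ∀ k, isND k = true → ∃ x ∈ Af D y, M x ∧ hact D x = mk k := fun k hk => by
    obtain ⟨c, hc, -, hck⟩ := exists_pure_nd hW P h9 hk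
    have hmem := pure_mem hW P h9 (P.conj_C hc) (exists_nd hk).1 hck
    exact ⟨_, hmem, hP _ (P.conj_C hc) hmem k hk hck, hck⟩
  have step : ∀ {a x : G}, a ∈ Af D y → x ∈ Af D y → M x → hact D x = hact D a → M a := by
    intro a x ha hx hMx he
    have hu : x⁻¹ * a ∈ Af D y := mul_mem (inv_mem hx) ha
    have huQ : x⁻¹ * a ∈ D.Q := mem_Q_of_hact (mem_Af.1 hu).1 (by
      rw [hact_mul (inv_mem (mem_Af.1 hx).1) (mem_Af.1 ha).1, hact_inv (mem_Af.1 hx).1, he, inv_mul_cancel])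
    have := hmul x hx _ hu hMx (hU _ huQ (mem_U hW P h9 hu huQ))
    rwa [mul_inv_cancel_left] at this
  obtain ⟨k, hk, hak⟩ := hact_Af hW P h9 ha
  by_cases hk0 : k = 0
  · subst hk0
    rw [mk_zero] at hak
    have hQ := mem_Q_of_hact (mem_Af.1 ha).1 hak
    exact hU a hQ (mem_U hW P h9 ha hQ)
  rcases mask_split k hk hk0 with h | ⟨i, hi, h1, h2⟩
  · obtain ⟨x, hx, hM, hxk⟩ := hnd k h
    exact step ha hx hM (hxk.trans hak.symm)
  · obtain ⟨x, hx, hM, hxk⟩ := hnd i h1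
    obtain ⟨x', hx', hM', hxk'⟩ := hnd _ h2
    refine step ha (mul_mem hx hx') (hmul x hx x' hx' hM hM') ?_
    rw [hact_mul (mem_Af.1 hx).1 (mem_Af.1 hx').1, hxk, hxk', mk_mul hi (Nat.xor_lt_two_pow (n := 6) hk hi), hak,
      ← Nat.xor_assoc, Nat.xor_comm i k, Nat.xor_assoc, Nat.xor_self, Nat.xor_zero]

theorem Af_comm {a b : G} (ha : a ∈ Af D y) (hb : b ∈ Af D y) : a * b = b * a :=
  Af_induction hW P h9 (M := fun b => ∀ a ∈ Af D y, a * b = b * a)
    (fun b₁ _ b₂ _ h₁ h₂ a ha => ((show Commute a b₁ from h₁ a ha).mul_right (h₂ a ha)).eq)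
    (fun _ hu huW _ ha => (U_central hW P h9 hu huW ha).symm)
    (fun _ Px _ _ hk hx _ ha => pure_central hW P h9 Px hk hx ha) hb a ha

theorem Af_sq {a : G} (ha : a ∈ Af D y) : a * a = 1 :=
  Af_induction hW P h9 (M := fun a => a * a = 1)
    (fun a ha b hb h₁ h₂ => by
      rw [show a * b * (a * b) = a * (b * a) * b by group, ← Af_comm hW P h9 ha hb,
        show a * (a * b) * b = a * a * (b * b) by group, h₁, h₂, one_mul])
    (fun u hu huW => (D.sq_iff u hu).2 (inW_sing _ huW)) (fun _ Px _ _ _ _ => Px.sq D) ha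

theorem card_Af : Nat.card (Af D y) = 2048 := by
  let φ : Af D y →* O8 :=
    { toFun := fun a => hact D a.1
      map_one' := hact_Q (one_mem _)
      map_mul' := fun a b => hact_mul (mem_Af.1 a.2).1 (mem_Af.1 b.2).1 }
  have hex : ∀ k < 64, ∃ a : Af D y, φ a = mk k := by
    intro k hk
    by_cases hk0 : k = 0
    · exact ⟨1, by rw [hk0, mk_zero, map_one]⟩
    have hnd : ∀ k, isND k = true → ∃ a : Af D y, φ a = mk k := fun k hk => by
      obtain ⟨c, hc, -, hck⟩ := exists_pure_nd hW P h9 hk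
      exact ⟨⟨_, pure_mem hW P h9 (P.conj_C hc) (exists_nd hk).1 hck⟩, hck⟩
    rcases mask_split k hk hk0 with h | ⟨i, hi, h1, h2⟩
    · exact hnd k h
    · obtain ⟨a, ha⟩ := hnd i h1
      obtain ⟨b, hb⟩ := hnd _ h2
      refine ⟨a * b, ?_⟩
      rw [map_mul, ha, hb, mk_mul hi (Nat.xor_lt_two_pow (n := 6) hk hi),
        ← Nat.xor_assoc, Nat.xor_comm i k, Nat.xor_assoc, Nat.xor_self, Nat.xor_zero]
  have hrange : Nat.card φ.range = 64 := by
    rw [← Nat.card_fin 64]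
    symm
    refine Nat.card_eq_of_bijective (fun k : Fin 64 => (⟨mk k, by
      obtain ⟨a, ha⟩ := hex k k.2
      exact ⟨a, ha⟩⟩ : φ.range)) ⟨fun i j e => ?_, ?_⟩
    · exact Fin.ext (mk_inj i.2 j.2 (congrArg Subtype.val e))
    · rintro ⟨_, a, rfl⟩
      obtain ⟨k, hk, hak⟩ := hact_Af hW P h9 a.2
      exact ⟨⟨k, hk⟩, Subtype.ext hak.symm⟩
  have hker : Nat.card φ.ker = 32 := by
    have h2 := card_fixed hW P
    have hk16 : Nat.card (LinearMap.ker (disp (hact D y))) = 16 := by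
      rcases card_ker hW P with h | h
      · exfalso
        have e := Module.natCard_eq_pow_finrank (K := ZMod 2) (V := LinearMap.ker (disp (hact D y)))
        have hsum := LinearMap.finrank_range_add_finrank_ker (disp (hact D y))
        rw [finrank8, P.rank_four hW] at hsum
        rw [h, Nat.card_zmod, show Module.finrank (ZMod 2) (LinearMap.ker (disp (hact D y))) = 4 by omega] at e
        norm_num at e
      · exact h.1
    rw [hk16] at h2
    rw [show (32 : ℕ) = 2 * 16 from rfl, ← h2]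
    refine Nat.card_eq_of_bijective (fun a : φ.ker => (⟨a.1.1, mem_Q_of_hact (mem_Af.1 a.1.2).1 a.2,
      (comm_iff_inW hW P h9 (mem_Q_of_hact (mem_Af.1 a.1.2).1 a.2)).2
        (mem_U hW P h9 a.1.2 (mem_Q_of_hact (mem_Af.1 a.1.2).1 a.2))⟩ :
      {q : G // q ∈ D.Q ∧ q * y = y * q})) ⟨fun a b e => ?_, ?_⟩
    · exact Subtype.ext (Subtype.ext (congrArg (fun q : {q : G // q ∈ D.Q ∧ q * y = y * q} => q.1) e))
    · rintro ⟨q, hq, hqy⟩
      exact ⟨⟨⟨q, U_le hW P h9 hq ((comm_iff_inW hW P h9 hq).1 hqy)⟩, hact_Q hq⟩, rfl⟩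
  rw [← Subgroup.card_mul_index φ.ker, Subgroup.index_ker, hker, hrange]

/-- The radicals meet trivially. -/
theorem meet_bot {g : G} (hg : g * z * g⁻¹ = y) : D.Q ⊓ conjQ D g = ⊥ :=
  spread hW P h9 (Or.inr rfl) _ (fun h => z_not_mem_conjQ hW P hg (mem_inf.1 h).2)
    (fun _ hd hd1 => meet_shift hW P hg hd hd1) fun _ hn hny _ hd => meet_conj hW P hg hn hny hd

end Std

/-- Coordinates in which a pure conjugate has the standard mask. -/
theorem exists_std (hW : WC D) {y : G} (P : Pure z y) : ∃ h : O8, hact (twist D h) y = mk 9 := by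
  have hr4 := P.rank_four hW
  let W₀ : Submodule (ZMod 2) M8 := LinearMap.ker (disp (mk 9))
  have hmem : ∀ v, v ∈ W₀ ↔ inW v := fun v => LinearMap.mem_ker.trans (mk_nine v)
  have hcard : Nat.card W₀ = 16 := by
    rw [Nat.card_congr (Equiv.subtypeEquivRight hmem), Nat.card_eq_fintype_card]
    decide +kernel
  have hfin : Module.finrank (ZMod 2) W₀ = 4 := by
    have h := Module.natCard_eq_pow_finrank (K := ZMod 2) (V := W₀)
    rw [hcard, Nat.card_zmod] at h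
    exact Nat.pow_right_injective le_rfl (show 2 ^ _ = 2 ^ 4 from h.symm.trans (by norm_num))
  obtain ⟨h₁, hh₁⟩ := exists_twist hW P (R₀ := W₀) (fun u hu => inW_sing _ ((hmem u).1 hu)) (hr4.trans hfin.symm)
  have hW₁ : WC (twist D h₁) := hW
  have hs := P.hact_sq hW₁
  obtain ⟨k, hk, hyk⟩ := exists_mask (g := hact (twist D h₁) y) fun i =>
    eq_of_add_eq_zero (fix_of_orth hs hh₁ fun u hu => inW_perp (inW_xb i) ((hmem u).1 hu))
  rcases mask_cases k hk with rfl | ⟨hnd, -⟩ | ⟨hrt, -⟩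
  · exact absurd (hyk.trans mk_zero) (P.hact_ne hW₁)
  · obtain ⟨-, t, -, -, hte⟩ := exists_nd hnd
    refine ⟨t⁻¹ * h₁, ?_⟩
    rw [hact_twist _ P.mem_C]
    have e := hact_twist (D := D) h₁ P.mem_C
    rw [show t⁻¹ * h₁ * hact D y * (t⁻¹ * h₁)⁻¹ = t⁻¹ * (h₁ * hact D y * h₁⁻¹) * t by group, ← e, hyk,
      show mk 9 = t⁻¹ * (t * mk 9 * t⁻¹) * t by group, hte]
    group
    rfl
  · exfalso
    have h4 := P.rank_four hW₁
    have h2 := rank_rt hrt
    have e : hact (twist D h₁) y = mk k := hyk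
    rw [e] at h4
    omega

/-- The subgroup of a pure conjugate: elementary of order `2 ^ 11`, with trivially meeting radicals. -/
theorem Af_facts (hW : WC D) {y g : G} (P : Pure z y) (hg : g * z * g⁻¹ = y) :
    (∀ a ∈ Af D y, ∀ b ∈ Af D y, a * b = b * a) ∧ (∀ a ∈ Af D y, a * a = 1) ∧ Nat.card (Af D y) = 2048 ∧
      D.Q ⊓ conjQ D g = ⊥ := by
  obtain ⟨h, hh⟩ := exists_std hW P
  have hW' : WC (twist D h) := hW
  exact ⟨fun a ha b hb => Af_comm (D := twist D h) hW' P hh ha hb, fun a ha => Af_sq (D := twist D h) hW' P hh ha,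
    card_Af (D := twist D h) hW' P hh, meet_bot (D := twist D h) hW' P hh hg⟩

/-- An element of the first radical normalises the subgroup. -/
theorem Af_conj_Q {y q a : G} (hq : q ∈ D.Q) (hy : y ∈ centralizer ({z} : Set G)) (ha : a ∈ Af D y) :
    q * a * q⁻¹ ∈ Af D y := by
  refine Af_conj (Co1Invol.mem_C D hq) (fun r hr hry => ?_) ha
  have hzy : z * y = y * z := (mem_centralizer_singleton_iff.1 hy).symm
  have key : q⁻¹ * r * q = r ∨ q⁻¹ * r * q = z * r := by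
    have h := Extra2.conj_eq D.pre.gen (inv_mem hq) hr
    rwa [inv_inv] at h
  rcases key with e | e <;> rw [e]
  · exact hry
  · exact ((show Commute z y from hzy).mul_left (show Commute r y from hry)).eq

end CfsgLib.Co1Uniq.Weak
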