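import Cfsg.Agent.Co1Invol.Classify
import Mathlib.LinearAlgebra.BilinearForm.Orthogonal

/-!
Weak closure of the central involution in the extraspecial subgroup: the conjugates commuting with the central
involution whose product with it is not a conjugate.
-/

set_option autoImplicit false
set_option maxRecDepth 100000
set_option synthInstance.maxSize 4096
set_option linter.style.haveILetI false
set_option linter.unusedSectionVars false

namespace CfsgLib.Co1Uniq.Weak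

open CfsgLib CfsgLib.Quad CfsgLib.Co1Invol Subgroup QuadraticMap

variable {G : Type*} [Group G] [Finite G] {z : G}

/-- The central involution is weakly closed. -/
def WC (D : Dat z) : Prop := ∀ g : G, g * z * g⁻¹ ∈ D.Q → g * z * g⁻¹ = z

/-- A commuting conjugate whose product with the central involution is not a conjugate. -/
structure Pure (z x : G) : Prop where
  comm : x * z = z * x
  conj : IsConj z x
  ne : x ≠ z
  not_mul : ¬ IsConj z (x * z)

theorem Pure.mem_C {x : G} (P : Pure z x) : x ∈ centralizer ({z} : Set G) := mem_centralizer_singleton_iff.2 P.comm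

theorem Pure.conj_C {x c : G} (P : Pure z x) (hc : c ∈ centralizer ({z} : Set G)) : Pure z (c * x * c⁻¹) := by
  have hcz : c * z * c⁻¹ = z := by rw [mem_centralizer_singleton_iff.1 hc, mul_inv_cancel_right]
  refine ⟨?_, P.conj.trans (isConj_iff.2 ⟨c, rfl⟩), fun e => P.ne ?_, fun h => P.not_mul ?_⟩
  · exact mem_centralizer_singleton_iff.1
      (mul_mem (mul_mem hc P.mem_C) (inv_mem hc) : c * x * c⁻¹ ∈ centralizer ({z} : Set G))
  · calc x = c⁻¹ * (c * x * c⁻¹) * c := by group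
      _ = c⁻¹ * (c * z * c⁻¹) * c := by rw [e, hcz]
      _ = z := by group
  · refine h.trans (isConj_iff.2 ⟨c⁻¹, ?_⟩)
    conv_lhs => rw [← hcz]
    group

section

variable {D : Dat z} (hW : WC D)

theorem WC.not_conj (hW : WC D) {q : G} (hq : q ∈ D.Q) (hqz : q ≠ z) : ¬ IsConj z q := fun h => by
  obtain ⟨c, rfl⟩ := isConj_iff.1 h
  exact hqz (hW c hq)

theorem Pure.sq {x : G} (P : Pure z x) (D : Dat z) : x * x = 1 := by
  obtain ⟨c, rfl⟩ := isConj_iff.1 P.conj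
  rw [show c * z * c⁻¹ * (c * z * c⁻¹) = c * (z * z) * c⁻¹ by group, D.pre.gen.sq]
  group

include hW

theorem Pure.not_mem {x : G} (P : Pure z x) : x ∉ D.Q := fun h => hW.not_conj h P.ne P.conj

theorem Pure.hact_ne {x : G} (P : Pure z x) : hact D x ≠ 1 := fun h => P.not_mem hW (mem_Q_of_hact P.mem_C h)

theorem Pure.hact_sq {x : G} (P : Pure z x) : hact D x * hact D x = 1 :=
  Co1Invol.hact_sq P.mem_C (P.sq D)

/-- The lifts of the fixed vectors are centralised. -/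
theorem Pure.comm_of_fixed {x q : G} (P : Pure z x) (hq : q ∈ D.Q) (h : disp (hact D x) (D.π q) = 0) :
    x * q = q * x := by
  obtain ⟨h1, h2⟩ := π_commutator P.mem_C hq
  rw [← disp_apply, h] at h2
  rcases (D.π_eq_zero _ h1).1 h2 with e | e
  · exact mul_inv_eq_iff_eq_mul.1 (mul_inv_eq_one.1 e)
  exfalso
  refine P.not_mul (P.conj.trans (isConj_iff.2 ⟨q, ?_⟩))
  have e1 : x * q * x = z * q := by
    rw [← mul_inv_eq_iff_eq_mul.1 e, inv_eq_of_mul_eq_one_right (P.sq D)]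
  have hqz : q * z = z * q := (D.pre.gen.comm_z q hq).eq
  calc q * x * q⁻¹ = (x * x) * (q * x) * q⁻¹ := by rw [P.sq D, one_mul]
    _ = x * (x * q * x) * q⁻¹ := by group
    _ = x * z := by rw [e1]; group

theorem Pure.fixed_of_comm {x q : G} (P : Pure z x) (hq : q ∈ D.Q) (h : x * q = q * x) :
    disp (hact D x) (D.π q) = 0 := by
  obtain ⟨-, h2⟩ := π_conj P.mem_C hq
  rw [show x * q * x⁻¹ = q by rw [h]; group] at h2
  rw [disp_apply, ← h2, add_self]

/-- The displacement is totally singular. -/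
theorem Pure.ts {x : G} (P : Pure z x) (m : M8) : qf (disp (hact D x) m) = 0 := by
  obtain ⟨q, hq, hqπ⟩ := D.π_surj (disp (hact D x) m)
  rcases zmod2_cases (qf (disp (hact D x) m)) with h | h
  · exact h
  exfalso
  have h1 := P.comm_of_fixed hW hq (by rw [hqπ, disp_disp (P.hact_sq hW)])
  have h2 := conj_lift P.mem_C (P.sq D) hq hqπ
  rw [hqπ, h, if_neg one_ne_zero, h1, mul_inv_cancel_right] at h2
  exact D.pre.gen.ne_one (left_eq_mul.1 h2)

/-- The commutator of an element of the radical with the involution. -/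
theorem Pure.cc_spec {x q : G} (P : Pure z x) (hq : q ∈ D.Q) :
    q * x * q⁻¹ * x ∈ D.Q ∧ D.π (q * x * q⁻¹ * x) = disp (hact D x) (D.π q) ∧
      q * x * q⁻¹ * x * (q * x * q⁻¹ * x) = 1 := by
  have hxi : x⁻¹ = x := inv_eq_of_mul_eq_one_right (P.sq D)
  obtain ⟨h1, h2⟩ := π_conj P.mem_C hq
  have e : q * x * q⁻¹ * x = q * (x * q * x⁻¹)⁻¹ := by
    rw [mul_inv_rev, mul_inv_rev, inv_inv, hxi]; group
  have hm : q * x * q⁻¹ * x ∈ D.Q := e ▸ mul_mem hq (inv_mem h1)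
  have hp : D.π (q * x * q⁻¹ * x) = disp (hact D x) (D.π q) := by
    rw [e, D.π_mul _ hq _ (inv_mem h1), π_inv D h1, h2, disp_apply, add_comm]
  exact ⟨hm, hp, (D.sq_iff _ hm).2 (by rw [hp]; exact P.ts hW _)⟩

/-- The commutator depends on the displacement only. -/
theorem Pure.cc_congr {x q q' : G} (P : Pure z x) (hq : q ∈ D.Q) (hq' : q' ∈ D.Q)
    (h : disp (hact D x) (D.π q) = disp (hact D x) (D.π q')) : q * x * q⁻¹ * x = q' * x * q'⁻¹ * x := by
  have hu : q'⁻¹ * q ∈ D.Q := mul_mem (inv_mem hq') hq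
  have hc := P.comm_of_fixed hW hu (by
    rw [D.π_mul _ (inv_mem hq') _ hq, π_inv D hq', map_add, h, add_self])
  calc q * x * q⁻¹ * x = q' * ((q'⁻¹ * q) * x * (q'⁻¹ * q)⁻¹) * q'⁻¹ * x := by group
    _ = q' * x * q'⁻¹ * x := by rw [← hc]; group

/-- An element of the radical centralising all lifts of fixed vectors projects into the range. -/
theorem mem_range_of_cent {x u : G} (P : Pure z x) (hu : u ∈ D.Q)
    (h : ∀ q ∈ D.Q, disp (hact D x) (D.π q) = 0 → u * q = q * u) :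
    D.π u ∈ LinearMap.range (disp (hact D x)) := by
  let R := LinearMap.range (disp (hact D x))
  have hrefl : (polarBilin q8).IsRefl := fun a b hab => by
    rw [polarBilin_apply_apply, polar_eq] at hab ⊢
    rwa [bf_comm]
  show D.π u ∈ R
  rw [← LinearMap.BilinForm.orthogonal_orthogonal (B := polarBilin q8) nondeg8 hrefl R]
  intro m hm
  obtain ⟨q, hq, rfl⟩ := D.π_surj m
  have hfix : disp (hact D x) (D.π q) = 0 := eq_zero_of_bf fun n => by
    have := hm (disp (hact D x) n) ⟨n, rfl⟩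
    rw [polarBilin_apply_apply, polar_eq] at this
    rw [bf_disp (P.hact_sq hW), bf_comm]
    exact this
  show polarBilin q8 (D.π q) (D.π u) = 0
  rw [polarBilin_apply_apply, polar_eq]
  exact (D.comm_iff q hq u hu).1 (h q hq hfix).symm

/-- Two such involutions with the same image are conjugate under the radical. -/
theorem Pure.exists_conj {x x' : G} (P : Pure z x) (P' : Pure z x') (h : hact D x' = hact D x) :
    ∃ q ∈ D.Q, q * x * q⁻¹ = x' := by
  have hxi : x⁻¹ = x := inv_eq_of_mul_eq_one_right (P.sq D)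
  have hC : x' * x ∈ centralizer ({z} : Set G) := mul_mem P'.mem_C P.mem_C
  have hu : x' * x ∈ D.Q := mem_Q_of_hact hC (by rw [hact_mul P'.mem_C P.mem_C, h, P.hact_sq hW])
  have hrange := mem_range_of_cent hW P hu fun q hq hq0 => by
    have e1 := P.comm_of_fixed hW hq hq0
    have e2 := P'.comm_of_fixed hW hq (by rwa [h])
    rw [mul_assoc, e1, ← mul_assoc, e2, mul_assoc]
  obtain ⟨m, hm⟩ := hrange
  obtain ⟨q, hq, rfl⟩ := D.π_surj m
  obtain ⟨hc, hcπ, -⟩ := P.cc_spec hW hq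
  rcases eq_of_π D hc hu (hcπ.trans hm) with e | e
  · exact ⟨q, hq, (mul_right_cancel e).symm⟩
  exfalso
  refine (P.conj_C (Co1Invol.mem_C D hq)).not_mul ?_
  have hx' : x' = q * x * q⁻¹ * z := by
    have := congrArg (· * x) e
    simp only [mul_assoc] at this
    rw [P.sq D, mul_one] at this
    rw [this, show z * x = x * z from P.comm.symm]
    conv_rhs => rw [show q * x * q⁻¹ * z = q * x * q⁻¹ * 1 * z by group, ← P.sq D]
    group
  rw [← hx']
  exact P'.conj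

/-- Every isometry commuting with the image lifts to an element centralising the involution. -/
theorem Pure.exists_lift {x : G} (P : Pure z x) {h : O8} (hh : h ∈ commutator (oGroup q8))
    (hc : h * hact D x = hact D x * h) : ∃ n ∈ centralizer ({z} : Set G), hact D n = h ∧ n * x = x * n := by
  obtain ⟨⟨c, hcC⟩, rfl⟩ := D.act_surj h hh
  rw [← hact_eq hcC] at hc ⊢
  obtain ⟨q, hq, hqe⟩ := P.exists_conj hW (P.conj_C hcC) (by
    rw [hact_mul (mul_mem hcC P.mem_C) (inv_mem hcC), hact_mul hcC P.mem_C, hact_inv hcC, hc, mul_inv_cancel_right])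
  refine ⟨q⁻¹ * c, mul_mem (inv_mem (Co1Invol.mem_C D hq)) hcC, ?_, ?_⟩
  · rw [hact_mul (inv_mem (Co1Invol.mem_C D hq)) hcC, hact_Q (inv_mem hq), one_mul]
  · calc q⁻¹ * c * x = q⁻¹ * (c * x * c⁻¹) * c := by group
      _ = x * (q⁻¹ * c) := by rw [← hqe]; group

open scoped Classical in
/-- A subgroup of commutators, possibly all shifted by the central involution. -/
theorem pattern {x : G} (P : Pure z x) {e : G} (he : e = 1 ∨ e = z) {s₁ s₂ q₁ q₂ : G} (hq₁ : q₁ ∈ D.Q)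
    (hq₂ : q₂ ∈ D.Q) (h₁ : s₁ = q₁ * x * q₁⁻¹ * x * e) (h₂ : s₂ = q₂ * x * q₂⁻¹ * x * e)
    (h₃ : ∃ q ∈ D.Q, s₁ * s₂ = q * x * q⁻¹ * x * e) :
    bf (D.π q₁) (disp (hact D x) (D.π q₂)) = if e = 1 then 0 else 1 := by
  obtain ⟨q, hq, h⟩ := h₃
  obtain ⟨c₁, hc₁⟩ : ∃ c, c = q₁ * x * q₁⁻¹ * x := ⟨_, rfl⟩
  obtain ⟨c₂, hc₂⟩ : ∃ c, c = q₂ * x * q₂⁻¹ * x := ⟨_, rfl⟩
  obtain ⟨hm1, hp1, hs1⟩ := P.cc_spec hW hq₁
  obtain ⟨hm2, hp2, hs2⟩ := P.cc_spec hW hq₂
  rw [← hc₁] at hm1 hp1 hs1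
  rw [← hc₂] at hm2 hp2 hs2
  rw [← hc₁] at h₁
  rw [← hc₂] at h₂
  have he1 : e * e = 1 := by rcases he with rfl | rfl; exacts [one_mul 1, D.pre.gen.sq]
  have heQ : e ∈ D.Q := by rcases he with rfl | rfl; exacts [one_mem _, D.pre.gen.mem]
  have hec : ∀ u ∈ D.Q, e * u = u * e := fun u hu => by
    rcases he with rfl | rfl; exacts [by simp, (D.pre.gen.comm_z u hu).eq.symm]
  have hπe : D.π e = 0 := (D.π_eq_zero e heQ).2 he
  have hprod : s₁ * s₂ = c₁ * c₂ := by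
    rw [h₁, h₂, show c₁ * e * (c₂ * e) = c₁ * (e * c₂) * e by group, hec c₂ hm2,
      show c₁ * (c₂ * e) * e = c₁ * c₂ * (e * e) by group, he1, mul_one]
  obtain ⟨hm, hp, -⟩ := P.cc_spec hW hq
  have hπ : disp (hact D x) (D.π q) = disp (hact D x) (D.π (q₁ * q₂)) := by
    have := congrArg D.π (h.symm.trans hprod)
    rw [D.π_mul _ hm _ heQ, hp, hπe, add_zero, D.π_mul _ hm1 _ hm2, hp1, hp2] at this
    rw [this, D.π_mul _ hq₁ _ hq₂, map_add]
  have hcc := P.cc_congr hW hq (mul_mem hq₁ hq₂) hπ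
  have hexp : q₁ * q₂ * x * (q₁ * q₂)⁻¹ * x = q₁ * c₂ * q₁⁻¹ * c₁ := by
    rw [hc₁, hc₂]
    calc q₁ * q₂ * x * (q₁ * q₂)⁻¹ * x = q₁ * (q₂ * x * q₂⁻¹) * q₁⁻¹ * x := by group
      _ = q₁ * (q₂ * x * q₂⁻¹) * (x * x) * q₁⁻¹ * x := by rw [P.sq D]; group
      _ = _ := by group
  rw [hcc, hexp, hprod] at h
  have hc12 : c₁ * c₂ = c₂ * c₁ := (D.comm_iff c₁ hm1 c₂ hm2).2 (by
    rw [hp1, hp2, bf_disp_disp (P.hact_sq hW)])
  have key : q₁ * c₂ * q₁⁻¹ = c₂ * e := by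
    have h1 : q₁ * c₂ * q₁⁻¹ * c₁ * e = c₂ * c₁ := by rw [← h, hc12]
    calc q₁ * c₂ * q₁⁻¹ = (q₁ * c₂ * q₁⁻¹ * c₁ * e) * (e * c₁) := by
          rw [show q₁ * c₂ * q₁⁻¹ * c₁ * e * (e * c₁) = q₁ * c₂ * q₁⁻¹ * c₁ * (e * e) * c₁ by group, he1,
            mul_one, mul_assoc _ c₁ c₁, hs1, mul_one]
      _ = c₂ * e := by
          rw [h1, hec c₁ hm1, show c₂ * c₁ * (c₁ * e) = c₂ * (c₁ * c₁) * e by group, hs1, mul_one]
  rw [← hp2]
  rcases he with rfl | rfl
  · rw [if_pos rfl]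
    exact (D.comm_iff q₁ hq₁ c₂ hm2).1 (mul_inv_eq_iff_eq_mul.1 (key.trans (mul_one _)))
  · rw [if_neg D.pre.gen.ne_one]
    refine (zmod2_cases _).resolve_left fun h0 => D.pre.gen.ne_one ?_
    rw [(D.comm_iff q₁ hq₁ c₂ hm2).2 h0, mul_inv_cancel_right] at key
    exact left_eq_mul.1 key

/-- Besides an isolated one there is always such an involution. -/
theorem exists_pure {g : G} (hg : g * z * g⁻¹ * z = z * (g * z * g⁻¹)) (hne : g * z * g⁻¹ ≠ z) :
    ∃ x, Pure z x := by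
  obtain ⟨y, hy⟩ : ∃ y, y = g * z * g⁻¹ := ⟨_, rfl⟩
  rw [← hy] at hg hne
  have hyC : y ∈ centralizer ({z} : Set G) := mem_centralizer_singleton_iff.2 hg
  have hy2 : y * y = 1 := by
    rw [hy, show g * z * g⁻¹ * (g * z * g⁻¹) = g * (z * z) * g⁻¹ by group, D.pre.gen.sq]; group
  have hyQ : y ∉ D.Q := fun h => hne (hy ▸ hW g (hy ▸ h))
  have hg1 : hact D y ≠ 1 := fun h => hyQ (mem_Q_of_hact hyC h)
  have hs := Co1Invol.hact_sq (D := D) hyC hy2
  have hr : 2 ≤ Module.finrank (ZMod 2) (LinearMap.range (disp (hact D y))) := by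
    rcases rank_cases hs (hact_mem _) hg1 with h | h <;> omega
  obtain ⟨m, hm0, hmq⟩ : ∃ m, disp (hact D y) m ≠ 0 ∧ qf (disp (hact D y) m) = 0 := by
    by_contra hcon
    push Not at hcon
    obtain ⟨m₁, hm₁⟩ : ∃ m, disp (hact D y) m ≠ 0 := by
      by_contra h'
      push Not at h'
      rw [show LinearMap.range (disp (hact D y)) = ⊥ from LinearMap.range_eq_bot.2 (LinearMap.ext h'),
        finrank_bot] at hr
      omega
    have hle : LinearMap.range (disp (hact D y)) ≤ Submodule.span (ZMod 2) {disp (hact D y) m₁} := by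
      rintro _ ⟨n, rfl⟩
      by_cases h0 : disp (hact D y) n = 0
      · rw [h0]; exact zero_mem _
      suffices disp (hact D y) n = disp (hact D y) m₁ from this ▸ Submodule.subset_span rfl
      by_contra hne'
      refine hcon (n + m₁) ?_ ?_
      · rw [map_add]; exact fun e => hne' (eq_of_add_eq_zero e)
      · rw [qf_disp_add hs, (zmod2_cases _).resolve_left (hcon n h0), (zmod2_cases _).resolve_left (hcon m₁ hm₁)]
        decide
    have := (Submodule.finrank_mono hle).trans (finrank_span_le_card _)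
    simp at this
    omega
  obtain ⟨q, hq, rfl⟩ := D.π_surj m
  obtain ⟨c, hc⟩ : ∃ c, c = q * y * q⁻¹ * y := ⟨_, rfl⟩
  have hyi : y⁻¹ = y := inv_eq_of_mul_eq_one_right hy2
  obtain ⟨h1, h2⟩ := π_conj hyC hq
  have e : c = q * (y * q * y⁻¹)⁻¹ := by rw [hc, mul_inv_rev, mul_inv_rev, inv_inv, hyi]; group
  have hcQ : c ∈ D.Q := e ▸ mul_mem hq (inv_mem h1)
  have hcπ : D.π c = disp (hact D y) (D.π q) := by
    rw [e, D.π_mul _ hq _ (inv_mem h1), π_inv D h1, h2, disp_apply, add_comm]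
  have hcz : c ≠ z := fun h => hm0 (by rw [← hcπ, h, π_z])
  have hc1 : c ≠ 1 := fun h => hm0 (by rw [← hcπ, h, π_one])
  have hcc : c * c = 1 := (D.sq_iff c hcQ).2 (hcπ.symm ▸ hmq)
  -- the other conjugate
  obtain ⟨y', hy'⟩ : ∃ y', y' = q * y * q⁻¹ := ⟨_, rfl⟩
  have hy'y : y' * y = c := by rw [hy', hc]
  have hy'2 : y' * y' = 1 := by
    rw [hy', show q * y * q⁻¹ * (q * y * q⁻¹) = q * (y * y) * q⁻¹ by group, hy2]; group
  have hcomm : y' * y = y * y' := by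
    have h := inv_eq_of_mul_eq_one_right hcc
    rw [← hy'y, mul_inv_rev, hyi, inv_eq_of_mul_eq_one_right hy'2] at h
    exact h.symm
  refine ⟨g⁻¹ * y' * g, ⟨?_, ?_, ?_, fun h => ?_⟩⟩
  · calc g⁻¹ * y' * g * z = g⁻¹ * (y' * (g * z * g⁻¹)) * g := by group
      _ = z * (g⁻¹ * y' * g) := by rw [← hy, hcomm, hy]; group
  · refine (isConj_iff.2 ⟨g, hy.symm⟩).trans ((isConj_iff.2 ⟨q, hy'.symm⟩).trans (isConj_iff.2 ⟨g⁻¹, by group⟩))
  · intro e'
    apply hc1
    rw [← hy'y, show y' = g * (g⁻¹ * y' * g) * g⁻¹ by group, e', ← hy, hy2]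
  · refine hW.not_conj hcQ hcz (h.trans (isConj_iff.2 ⟨g, ?_⟩))
    rw [show g * (g⁻¹ * y' * g * z) * g⁻¹ = y' * (g * z * g⁻¹) by group, ← hy, hy'y]

end

section Pair

variable {D : Dat z} (hW : WC D) {y g : G} (P : Pure z y) (hg : g * z * g⁻¹ = y)

/-- The part of the radical of the second involution in the first centraliser. -/
def vee (D : Dat z) (g : G) : Subgroup G := conjQ D g ⊓ centralizer ({z} : Set G)

include hW P hg

theorem pure_back : Pure z (g⁻¹ * z * g) := by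
  refine ⟨?_, isConj_iff.2 ⟨g⁻¹, by group⟩, fun e => P.ne ?_, fun h => P.not_mul ?_⟩
  · calc g⁻¹ * z * g * z = g⁻¹ * (z * (g * z * g⁻¹)) * g := by group
      _ = z * (g⁻¹ * z * g) := by rw [hg, ← P.comm, ← hg]; group
  · calc y = g * z * g⁻¹ := hg.symm
      _ = g * (g⁻¹ * z * g) * g⁻¹ := by rw [e]
      _ = z := by group
  · refine h.trans (isConj_iff.2 ⟨g, ?_⟩)
    rw [show g * (g⁻¹ * z * g * z) * g⁻¹ = z * (g * z * g⁻¹) by group, hg, P.comm]

theorem z_not_mem_conjQ : z ∉ conjQ D g := fun h =>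
  (pure_back hW P hg).not_mem hW ((mem_conjQ D).1 h)

omit hW in
theorem y_mem_conjQ : y ∈ conjQ D g :=
  (mem_conjQ D).2 (by rw [← hg]; simpa [mul_assoc] using D.pre.gen.mem)

omit hW in
theorem conjQ_comm_y {v : G} (hv : v ∈ conjQ D g) : v * y = y * v := by
  have h := (D.pre.gen.comm_z _ ((mem_conjQ D).1 hv)).eq
  rw [← hg]
  calc v * (g * z * g⁻¹) = g * ((g⁻¹ * v * g) * z) * g⁻¹ := by group
    _ = g * z * g⁻¹ * v := by rw [h]; group

omit hW in
theorem conjQ_conj {n v : G} (hn : n * y = y * n) (hv : v ∈ conjQ D g) : n * v * n⁻¹ ∈ conjQ D g := by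
  refine (mem_conjQ D).2 ?_
  have hc : (g⁻¹ * n * g) * z = z * (g⁻¹ * n * g) := by
    calc g⁻¹ * n * g * z = g⁻¹ * (n * (g * z * g⁻¹)) * g := by group
      _ = z * (g⁻¹ * n * g) := by rw [hg, hn, ← hg]; group
  have := D.pre.conj_mem hc ((mem_conjQ D).1 hv)
  rwa [show g⁻¹ * n * g * (g⁻¹ * v * g) * (g⁻¹ * n * g)⁻¹ = g⁻¹ * (n * v * n⁻¹) * g by group] at this

omit hW in
theorem vee_conj {n v : G} (hn : n ∈ centralizer ({z} : Set G)) (hny : n * y = y * n) (hv : v ∈ vee D g) :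
    n * v * n⁻¹ ∈ vee D g :=
  mem_inf.2 ⟨conjQ_conj P hg hny (mem_inf.1 hv).1, mul_mem (mul_mem hn (mem_inf.1 hv).2) (inv_mem hn)⟩

/-- The commutator of the two parts lies in both radicals. -/
theorem vee_commutator {v q : G} (hv : v ∈ vee D g) (hq : q ∈ D.Q) (hqy : q * y = y * q) :
    v * q * v⁻¹ * q⁻¹ ∈ D.Q ⊓ conjQ D g := by
  refine mem_inf.2 ⟨mul_mem (π_conj hv.2 hq).1 (inv_mem hq), ?_⟩
  rw [show v * q * v⁻¹ * q⁻¹ = v * (q * v⁻¹ * q⁻¹) by group]
  exact mul_mem hv.1 (conjQ_conj P hg hqy (inv_mem hv.1))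

/-- Elements of both radicals are commutators shifted by the central involution. -/
theorem meet_shift {d : G} (hd : d ∈ D.Q ⊓ conjQ D g) (hd1 : d ≠ 1) :
    ∃ q ∈ D.Q, d = q * y * q⁻¹ * y * z := by
  obtain ⟨hdQ, hdY⟩ := mem_inf.1 hd
  have hdy := conjQ_comm_y P hg hdY
  have hr := mem_range_of_cent hW P hdQ fun q hq hq0 => by
    have hcq := P.comm_of_fixed hW hq hq0
    have h1 : d * q * d⁻¹ * q⁻¹ ∈ conjQ D g := by
      rw [show d * q * d⁻¹ * q⁻¹ = d * (q * d⁻¹ * q⁻¹) by group]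
      exact mul_mem hdY (conjQ_conj P hg hcq.symm (inv_mem hdY))
    rcases D.pre.gen.comm d hdQ q hq with e | e
    · exact mul_inv_eq_iff_eq_mul.1 (mul_inv_eq_one.1 e)
    · exact absurd (e ▸ h1) (z_not_mem_conjQ hW P hg)
  obtain ⟨m, hm⟩ := hr
  obtain ⟨q, hq, rfl⟩ := D.π_surj m
  obtain ⟨hc, hcπ, -⟩ := P.cc_spec hW hq
  refine ⟨q, hq, (eq_of_π D hc hdQ (hcπ.trans hm)).resolve_left fun e => hd1 ?_⟩
  have hy' : q * y * q⁻¹ ∈ conjQ D g := by
    have := mul_mem hdY (y_mem_conjQ P hg)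
    rwa [e, mul_assoc _ y y, P.sq D, mul_one] at this
  obtain ⟨u, hu⟩ : ∃ u, u = g⁻¹ * q * g := ⟨_, rfl⟩
  have h := hW u (by
    have := (mem_conjQ D).1 hy'
    rwa [← hg, show g⁻¹ * (q * (g * z * g⁻¹) * q⁻¹) * g = u * z * u⁻¹ by rw [hu]; group] at this)
  have : q * y * q⁻¹ = y := by
    rw [← hg, show q * (g * z * g⁻¹) * q⁻¹ = g * (u * z * u⁻¹) * g⁻¹ by rw [hu]; group, h]
  rw [e, this, P.sq D]

/-- Two nontrivial elements of both radicals with different images are not orthogonal. -/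
theorem meet_pair {d₁ d₂ q₁ q₂ : G} (hd₁ : d₁ ∈ D.Q ⊓ conjQ D g) (hd₂ : d₂ ∈ D.Q ⊓ conjQ D g)
    (h12 : d₁ * d₂ ≠ 1) (hq₁ : q₁ ∈ D.Q) (hq₂ : q₂ ∈ D.Q) (e₁ : d₁ = q₁ * y * q₁⁻¹ * y * z)
    (e₂ : d₂ = q₂ * y * q₂⁻¹ * y * z) : bf (D.π q₁) (disp (hact D y) (D.π q₂)) = 1 := by
  have h := pattern hW P (Or.inr rfl) hq₁ hq₂ e₁ e₂ (meet_shift hW P hg (mul_mem hd₁ hd₂) h12)
  rwa [if_neg D.pre.gen.ne_one] at h

theorem card_meet_le : Nat.card ↥(D.Q ⊓ conjQ D g) ≤
    Nat.card (LinearMap.range (disp (hact D y))) := by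
  have hmem : ∀ d : ↥(D.Q ⊓ conjQ D g), D.π d ∈ LinearMap.range (disp (hact D y)) := fun d => by
    by_cases h : (d : G) = 1
    · rw [h, π_one]; exact zero_mem _
    obtain ⟨q, hq, e⟩ := meet_shift hW P hg d.2 h
    obtain ⟨hc, hcπ, -⟩ := P.cc_spec hW hq
    rw [e, D.π_mul _ hc _ D.pre.gen.mem, hcπ, π_z, add_zero]
    exact ⟨_, rfl⟩
  refine Nat.card_le_card_of_injective (fun d => (⟨D.π d, hmem d⟩ : LinearMap.range (disp (hact D y)))) ?_
  intro a b e
  rcases eq_of_π D (mem_inf.1 a.2).1 (mem_inf.1 b.2).1 (congrArg Subtype.val e) with h | h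
  · exact Subtype.ext h.symm
  · refine absurd ?_ (z_not_mem_conjQ hW P hg)
    have := (conjQ D g).mul_mem ((conjQ D g).inv_mem (mem_inf.1 a.2).2) (mem_inf.1 b.2).2
    rwa [h, inv_mul_cancel_left] at this

/-- The image of the part under conjugation. -/
theorem mem_vee_iff {v : G} : v ∈ vee D g ↔
    ∃ q ∈ D.Q, q * (g⁻¹ * z * g) = (g⁻¹ * z * g) * q ∧ g * q * g⁻¹ = v := by
  constructor
  · rintro ⟨h1, h2⟩
    refine ⟨g⁻¹ * v * g, (mem_conjQ D).1 h1, ?_, by group⟩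
    calc g⁻¹ * v * g * (g⁻¹ * z * g) = g⁻¹ * (v * z) * g := by group
      _ = _ := by rw [mem_centralizer_singleton_iff.1 h2]; group
  · rintro ⟨q, hq, hc, rfl⟩
    refine ⟨(mem_conjQ D).2 (by rwa [show g⁻¹ * (g * q * g⁻¹) * g = q by group]),
      mem_centralizer_singleton_iff.2 ?_⟩
    calc g * q * g⁻¹ * z = g * (q * (g⁻¹ * z * g)) * g⁻¹ := by group
      _ = z * (g * q * g⁻¹) := by rw [hc]; group

end Pair

end CfsgLib.Co1Uniq.Weak
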