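import Cfsg.Agent.Co1Golay.Facts

/-!
Isometries acting trivially on the axis of a long root element modulo that axis, as eight bits: no proper
nontrivial subgroup of them is invariant under the Levi elements.
-/

set_option autoImplicit false
set_option maxRecDepth 100000
set_option synthInstance.maxSize 4096
set_option linter.style.haveILetI false
set_option linter.unusedSectionVars false

namespace CfsgLib.Co1Uniq.Weak

open CfsgLib CfsgLib.Quad CfsgLib.Co1Invol CfsgLib.Co1Golay
open CfsgLib.Golay (comb)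

/-- The standard long root element. -/
noncomputable def rootP : O8 := sgL [(e0, x2)]

/-- The perpendicular space of its axis, modulo the axis. -/
def rr (i : Fin 4) : M8 := ![x1, x3, y1, y3] i

/-- The dual vectors. -/
def du (i : Fin 4) : M8 := ![y1, y3, x1, x3] i

/-- The vector of the axis with given bits. -/
def val (c : ℕ) (i : Fin 4) : M8 :=
  (if c.testBit (2 * i.val) then e0 else 0) + (if c.testBit (2 * i.val + 1) then x2 else 0)

/-- The map with given bits. -/
def phi (c : ℕ) (m : M8) : M8 := ∑ i, bf m (du i) • val c i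

/-- Two bits of a vector of the axis. -/
def two (v : M8) : ℕ := (bf v f0).val + 2 * (bf v y2).val

/-- The bits of the images. -/
def code (f : Fin 4 → M8) : ℕ := two (f 0) + 4 * two (f 1) + 16 * two (f 2) + 64 * two (f 3)

/-- The Levi elements in use. -/
def levP (j : Fin 6) : M8 × M8 := ![(e0, y2), (x2, f0), (x1, x3), (x1, y3), (y1, y3), (x3, y1)] j

/-- The images of the eight unit codes. -/
def tbl (j : Fin 6) : List ℕ :=
  ![[1, 3, 4, 12, 16, 48, 64, 192], [3, 2, 12, 8, 48, 32, 192, 128], [65, 130, 20, 40, 16, 32, 64, 128],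
    [5, 10, 4, 8, 16, 32, 80, 160], [1, 2, 4, 8, 20, 40, 65, 130], [1, 2, 5, 10, 80, 160, 64, 128]] j

/-- Their action on the bits. -/
def act (j : Fin 6) (c : ℕ) : ℕ := comb (tbl j) c

theorem two_lt (v : M8) : two v < 4 := by
  unfold two
  have := ZMod.val_lt (bf v f0)
  have := ZMod.val_lt (bf v y2)
  omega

theorem code_lt (f : Fin 4 → M8) : code f < 256 := by
  unfold code
  have := two_lt (f 0); have := two_lt (f 1); have := two_lt (f 2); have := two_lt (f 3)
  omega

theorem two_bits : ∀ a b c d : Fin 4, ∀ i : Fin 4,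
    (a.val + 4 * b.val + 16 * c.val + 64 * d.val).testBit (2 * i.val) = (![a, b, c, d] i).val.testBit 0 ∧
    (a.val + 4 * b.val + 16 * c.val + 64 * d.val).testBit (2 * i.val + 1) = (![a, b, c, d] i).val.testBit 1 := by
  decide +kernel

theorem two_val : ∀ v ∈ ([0, e0, x2, e0 + x2] : List M8),
    (if (two v).testBit 0 then e0 else 0) + (if (two v).testBit 1 then x2 else 0) = v := by decide +kernel

theorem val_code {f : Fin 4 → M8} (hf : ∀ i, f i ∈ ([0, e0, x2, e0 + x2] : List M8)) (i : Fin 4) :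
    val (code f) i = f i := by
  obtain ⟨h1, h2⟩ := two_bits ⟨_, two_lt (f 0)⟩ ⟨_, two_lt (f 1)⟩ ⟨_, two_lt (f 2)⟩ ⟨_, two_lt (f 3)⟩ i
  rw [← two_val (f i) (hf i), val, code, h1, h2]
  fin_cases i <;> rfl

theorem val_xor : ∀ a b : ℕ, ∀ i : Fin 4, val (a ^^^ b) i = val a i + val b i := by
  intro a b i
  unfold val
  rw [Nat.testBit_xor, Nat.testBit_xor]
  cases a.testBit (2 * i.val) <;> cases b.testBit (2 * i.val) <;> cases a.testBit (2 * i.val + 1) <;>
    cases b.testBit (2 * i.val + 1) <;> decide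

theorem phi_xor (a b : ℕ) (m : M8) : phi (a ^^^ b) m = phi a m + phi b m := by
  simp only [phi, val_xor, smul_add, Finset.sum_add_distrib]

theorem act_units : ∀ j : Fin 6, ∀ k : Fin 8, ∀ i : Fin 4,
    sm (levP j).1 (levP j).2 (phi (2 ^ k.val) (sm (levP j).1 (levP j).2 (rr i))) = val (act j (2 ^ k.val)) i := by
  decide +kernel

theorem units_comb : ∀ c < 256, comb [1, 2, 4, 8, 16, 32, 64, 128] c = c := by decide +kernel

theorem axis_mem : ∀ m : M8, bf m e0 = 0 → bf m x2 = 0 → (∀ i, bf m (rr i) = 0) → m ∈ [0, e0, x2, e0 + x2] := by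
  decide +kernel

theorem rr_perp : ∀ i, bf (rr i) e0 = 0 ∧ bf (rr i) x2 = 0 := by decide +kernel

theorem perp_expand : ∀ m : M8, bf m e0 = 0 → bf m x2 = 0 →
    m = bf m f0 • e0 + bf m y2 • x2 + ∑ i, bf m (du i) • rr i := by decide +kernel

theorem levP_ok : ∀ j : Fin 6, okL [levP j] ∧ bf (levP j).1 (levP j).2 = 0 ∧ qf (levP j).1 = 0 ∧
    (∀ m : M8, sm (levP j).1 (levP j).2 (sm (levP j).1 (levP j).2 m) = m) ∧
    (∀ m : M8, sm (levP j).1 (levP j).2 (sm e0 x2 m) = sm e0 x2 (sm (levP j).1 (levP j).2 m)) ∧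
    (∀ i, bf (sm (levP j).1 (levP j).2 (rr i)) e0 = 0 ∧ bf (sm (levP j).1 (levP j).2 (rr i)) x2 = 0) := by
  decide +kernel

theorem zero_units : ∀ j : Fin 6, ∀ i : Fin 4,
    sm (levP j).1 (levP j).2 0 = 0 ∧ val (act j 0) i = 0 := by decide +kernel

/-- The action on the bits is the conjugation. -/
theorem act_spec (j : Fin 6) {c : ℕ} (hc : c < 256) (i : Fin 4) :
    sm (levP j).1 (levP j).2 (phi c (sm (levP j).1 (levP j).2 (rr i))) = val (act j c) i := by
  obtain ⟨hok, -, -, -, -, -⟩ := levP_ok j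
  have key : ∀ (L : List ℕ), (∀ b ∈ L,
      sm (levP j).1 (levP j).2 (phi b (sm (levP j).1 (levP j).2 (rr i))) = val (act j b) i) → ∀ k,
      sm (levP j).1 (levP j).2 (phi (comb L k) (sm (levP j).1 (levP j).2 (rr i))) = val (act j (comb L k)) i := by
    have hzero : sm (levP j).1 (levP j).2 (phi 0 (sm (levP j).1 (levP j).2 (rr i))) = val (act j 0) i := by
      have e : ∀ m, phi 0 m = 0 := fun m => by
        have := phi_xor 0 0 m
        rw [Nat.xor_self] at this
        exact left_eq_add.1 this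
      rw [e, (zero_units j i).1, (zero_units j i).2]
    intro L
    induction L with
    | nil => exact fun _ _ => hzero
    | cons b L ih =>
      intro hL k
      have ih' := ih (fun q hq => hL q (List.mem_cons_of_mem _ hq)) (k / 2)
      have hb : sm (levP j).1 (levP j).2 (phi (if k % 2 = 1 then b else 0) (sm (levP j).1 (levP j).2 (rr i))) =
          val (act j (if k % 2 = 1 then b else 0)) i := by
        split
        exacts [hL b List.mem_cons_self, hzero]
      have hadd : ∀ u v, sm (levP j).1 (levP j).2 (u + v) =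
          sm (levP j).1 (levP j).2 u + sm (levP j).1 (levP j).2 v := fun u v => by
        have h := fun w => sgL_apply _ hok w
        simp only [smL] at h
        rw [← h, ← h, ← h, map_add]
      simp only [comb, act, CfsgLib.Golay.comb_xor, phi_xor, val_xor, hadd] at hb ih' ⊢
      rw [hb, ih']
  have := key [1, 2, 4, 8, 16, 32, 64, 128] (fun b hb => by
    obtain ⟨k, rfl⟩ : ∃ k : Fin 8, 2 ^ k.val = b := by revert b; decide +kernel
    exact act_units j k i) c
  rwa [units_comb c hc] at this

theorem levP_trans : sm e0 y2 x2 = x2 + e0 ∧ sm x2 f0 e0 = e0 + x2 := by decide +kernel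

/-- One step towards the fixed bits. -/
def desc (c : ℕ) : ℕ :=
  [(0 : Fin 6), 2, 3].foldr (fun p r => if act p c ^^^ c = 0 then r else act p c ^^^ c) c

theorem desc_top : ∀ c < 256, c ≠ 0 → desc (desc (desc c)) = 16 := by decide +kernel

/-- Words in the Levi elements. -/
def words : List (List (Fin 6)) := [[], [1], [4], [5], [1, 4], [1, 5], [4, 5], [1, 4, 5]]

theorem words_image : (words.map fun w => w.foldl (fun c p => act p c) 16) = [16, 48, 20, 80, 60, 240, 85, 255] := by
  decide +kernel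

theorem words_span : ∀ c < 256, ∃ k < 256, comb [16, 48, 20, 80, 60, 240, 85, 255] k = c := by decide +kernel


/-- An invariant set closed under addition with a nonzero member contains everything. -/
theorem all_of_invariant {S : ℕ → Prop} (h0 : S 0) (hx : ∀ a b, S a → S b → S (a ^^^ b))
    (ha : ∀ p, ∀ c, S c → S (act p c)) {c : ℕ} (hc : c < 256) (hc0 : c ≠ 0) (hS : S c) :
    ∀ d < 256, S d := by
  have hd : ∀ c, S c → S (desc c) := by
    intro c hc
    unfold desc
    induction [(0 : Fin 6), 2, 3] with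
    | nil => exact hc
    | cons p l ih =>
      rw [List.foldr_cons]
      split
      · exact ih
      · exact hx _ _ (ha p c hc) hc
  have h16 : S 16 := desc_top c hc hc0 ▸ hd _ (hd _ (hd _ hS))
  have hfold : ∀ (w : List (Fin 6)), ∀ c, S c → S (w.foldl (fun c p => act p c) c) := by
    intro w
    induction w with
    | nil => exact fun _ h => h
    | cons p w ih => exact fun c hc => ih _ (ha p c hc)
  have hb : ∀ b ∈ [16, 48, 20, 80, 60, 240, 85, 255], S b := by
    rw [← words_image]
    intro b hb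
    obtain ⟨w, hw, rfl⟩ := List.mem_map.1 hb
    exact hfold w 16 h16
  have hcomb : ∀ (L : List ℕ), (∀ b ∈ L, S b) → ∀ k, S (comb L k) := by
    intro L
    induction L with
    | nil => exact fun _ _ => h0
    | cons b L ih =>
      intro hL k
      refine hx _ _ ?_ (ih (fun q hq => hL q (List.mem_cons_of_mem _ hq)) _)
      split
      exacts [hL b List.mem_cons_self, h0]
  intro d hd
  obtain ⟨k, -, rfl⟩ := words_span d hd
  exact hcomb _ hb k

/-- The images of the two remaining basis vectors under an isometry that is trivial off the axis. -/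
theorem dual_pair : ∀ a ∈ ([0, e0, x2, e0 + x2] : List M8), ∀ b ∈ ([0, e0, x2, e0 + x2] : List M8),
    qf (f0 + a) = qf f0 → qf (y2 + b) = qf y2 → bf (f0 + a) (y2 + b) = bf f0 y2 →
    (a = 0 ∧ b = 0) ∨ (f0 + a = sm e0 x2 f0 ∧ y2 + b = sm e0 x2 y2) := by decide +kernel

theorem root_basis : (∀ i, bf (xb i) e0 = 0 ∧ bf (xb i) x2 = 0) ∧ (bf y1 e0 = 0 ∧ bf y1 x2 = 0) ∧
    (bf y3 e0 = 0 ∧ bf y3 x2 = 0) ∧ (∀ m : M8, bf m e0 = 0 → bf m x2 = 0 → sm e0 x2 m = m) ∧
    okL [(e0, x2)] ∧ (∀ m : M8, sm e0 x2 (sm e0 x2 m) = m) := by decide +kernel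

/-- An isometry fixing the perpendicular space of the axis is trivial or the root element. -/
theorem eq_of_fix_perp {g : O8} (h : ∀ m, bf m e0 = 0 → bf m x2 = 0 → g.1 m = m) : g = 1 ∨ g = rootP := by
  obtain ⟨hxb, hy1, hy3, hroot, hok, -⟩ := root_basis
  have hmem : ∀ u, g.1 u + u ∈ ([0, e0, x2, e0 + x2] : List M8) := fun u => by
    have key : ∀ m, bf m e0 = 0 → bf m x2 = 0 → bf (g.1 u + u) m = 0 := fun m h1 h2 => by
      rw [bf_add_left]
      conv_lhs => arg 1; arg 2; rw [← h m h1 h2]
      rw [bf_oGroup, CharTwo.add_self_eq_zero]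
    exact axis_mem _ (key _ (by decide +kernel) (by decide +kernel)) (key _ (by decide +kernel) (by decide +kernel))
      fun i => key _ (rr_perp i).1 (rr_perp i).2
  have he : ∀ u, g.1 u = u + (g.1 u + u) := fun u => by rw [add_comm (g.1 u), ← add_assoc, add_self, zero_add]
  have hfix : ∀ i : Fin 4, g.1 (xb i) = xb i := fun i => h _ (hxb i).1 (hxb i).2
  have key : ∀ g' : O8, (∀ m, bf m e0 = 0 → bf m x2 = 0 → g'.1 m = m) → g.1 f0 = g'.1 f0 → g.1 y2 = g'.1 y2 →
      g = g' := by
    intro g' h' e1 e2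
    refine ext8 fun m => ?_
    have hyb : ∀ i, g.1 (yb i) = g'.1 (yb i) := by
      intro i
      fin_cases i
      · exact e1
      · exact (h _ hy1.1 hy1.2).trans (h' _ hy1.1 hy1.2).symm
      · exact e2
      · exact (h _ hy3.1 hy3.2).trans (h' _ hy3.1 hy3.2).symm
    rw [expand4 m]
    simp only [map_sum, map_add, map_smul, hfix, fun i => h' _ (hxb i).1 (hxb i).2, hyb]
  rcases dual_pair _ (hmem f0) _ (hmem y2) (by rw [← he, qf_oGroup]) (by rw [← he, qf_oGroup])
      (by rw [← he, ← he, bf_oGroup]) with ⟨a, b⟩ | ⟨a, b⟩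
  · exact Or.inl (key 1 (fun _ _ _ => rfl) (by rw [he, a, add_zero]; rfl) (by rw [he, b, add_zero]; rfl))
  · exact Or.inr (key rootP (fun m h1 h2 => by rw [rootP, sgL_apply _ hok]; exact hroot m h1 h2)
      (by rw [he, a, rootP, sgL_apply _ hok]; rfl) (by rw [he, b, rootP, sgL_apply _ hok]; rfl))

end CfsgLib.Co1Uniq.Weak
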