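import Cfsg.Agent.Co1Uniq.WeakCoord
import Cfsg.Agent.Co1Uniq.WeakRoot

/-!
No pure pair has a long root element as image.
-/

set_option autoImplicit false
set_option maxRecDepth 100000
set_option synthInstance.maxSize 4096
set_option linter.style.haveILetI false
set_option linter.unusedSectionVars false

namespace CfsgLib.Co1Uniq.Weak

open CfsgLib CfsgLib.Quad CfsgLib.Co1Invol CfsgLib.Co1Golay Subgroup

variable {G : Type*} [Group G] [Finite G] {z : G} {D : Dat z}

theorem code_val : ∀ c < 256, code (val c) = c := by decide +kernel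

theorem rootP_apply (m : M8) : rootP.1 m = sm e0 x2 m := by rw [rootP, sgL_apply _ root_basis.2.2.2.2.1]; rfl

theorem rootP_facts : (∀ m : M8, sm e0 x2 m + m ∈ ([0, e0, x2, e0 + x2] : List M8)) ∧
    sm e0 x2 f0 ≠ f0 ∧
    (∀ m : M8, sm e0 x2 m + m = 0 → bf m e0 = 0 ∧ bf m x2 = 0) ∧
    (∀ u ∈ ([0, e0, x2, e0 + x2] : List M8), qf u = 0) := by decide +kernel

theorem not_rootP (hW : WC D) {y g : G} (P : Pure z y) (hg : g * z * g⁻¹ = y) :
    hact D y ≠ rootP := by
  intro hy
  obtain ⟨hlist, -, hperp, -⟩ := rootP_facts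
  have hs := P.hact_sq hW
  have hrange : ∀ u ∈ LinearMap.range (disp (hact D y)), u ∈ ([0, e0, x2, e0 + x2] : List M8) := by
    rintro _ ⟨m, rfl⟩
    rw [disp_apply, hy, rootP_apply]
    exact hlist m
  have hker : ∀ {m : M8}, bf m e0 = 0 → bf m x2 = 0 → disp (hact D y) m = 0 := fun {m} h1 h2 => by
    rw [disp_apply, hy, rootP_apply, root_basis.2.2.2.1 m h1 h2, add_self]
  have hd4 : Nat.card ↥(D.Q ⊓ conjQ D g) ≤ 4 := by
    refine (card_meet_le hW P hg).trans ?_
    refine (Nat.card_le_card_of_injective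
      (fun u : LinearMap.range (disp (hact D y)) => (⟨u.1, List.mem_toFinset.2 (hrange u u.2)⟩ :
        {u // u ∈ ([0, e0, x2, e0 + x2] : List M8).toFinset})) ?_).trans ?_
    · intro a b e
      exact Subtype.ext (congrArg (fun t : {u // u ∈ ([0, e0, x2, e0 + x2] : List M8).toFinset} => t.1) e)
    · rw [Nat.card_eq_fintype_card, Fintype.card_coe]
      exact List.toFinset_card_le _
  have hπd : ∀ d ∈ D.Q ⊓ conjQ D g, D.π d ∈ ([0, e0, x2, e0 + x2] : List M8) := fun d hd => by
    by_cases h : d = 1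
    · rw [h, π_one]; exact List.mem_cons_self
    obtain ⟨q, hq, e⟩ := meet_shift hW P hg hd h
    obtain ⟨hc, hcπ, -⟩ := P.cc_spec hW hq
    rw [e, D.π_mul _ hc _ D.pre.gen.mem, hcπ, π_z, add_zero]
    exact hrange _ ⟨_, rfl⟩
  -- displacement of the partner's part
  have hdisp : ∀ {v : G}, v ∈ vee D g → ∀ {m : M8}, bf m e0 = 0 → bf m x2 = 0 →
      disp (hact D v) m ∈ ([0, e0, x2, e0 + x2] : List M8) ∧
        ((∀ d ∈ D.Q ⊓ conjQ D g, d = 1) → disp (hact D v) m = 0) := by
    intro v hv m h1 h2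
    obtain ⟨q, hq, rfl⟩ := D.π_surj m
    have hqy := (P.comm_of_fixed hW hq (hker h1 h2)).symm
    obtain ⟨-, hπ⟩ := π_commutator (mem_inf.1 hv).2 hq
    have hd := vee_commutator hW P hg hv hq hqy
    rw [disp_apply, ← hπ]
    exact ⟨hπd _ hd, fun h => by rw [h _ hd, π_one]⟩
  have hR0 : ∀ {v : G}, v ∈ vee D g → disp (hact D v) e0 = 0 ∧ disp (hact D v) x2 = 0 := by
    intro v hv
    by_cases h0 : ∀ d ∈ D.Q ⊓ conjQ D g, d = 1
    · exact ⟨(hdisp hv (by decide +kernel) (by decide +kernel)).2 h0,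
        (hdisp hv (by decide +kernel) (by decide +kernel)).2 h0⟩
    push Not at h0
    obtain ⟨d, hd, hd1⟩ := h0
    have hd0 : D.π d ≠ 0 := fun h => by
      rcases (D.π_eq_zero d (mem_inf.1 hd).1).1 h with e | e
      · exact hd1 e
      · exact z_not_mem_conjQ hW P hg (e ▸ (mem_inf.1 hd).2)
    let S : Set M8 := {u | ∃ d ∈ D.Q ⊓ conjQ D g, D.π d = u}
    have hfix : ∀ u ∈ S, disp (hact D v) u = 0 := by
      rintro _ ⟨d, hd, rfl⟩
      obtain ⟨-, h2⟩ := π_commutator (mem_inf.1 hv).2 (mem_inf.1 hd).1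
      rw [disp_apply, ← h2, show v * d * v⁻¹ * d⁻¹ = 1 by rw [vee_comm_meet hW P hg hv hd]; group, π_one]
    have hstep : ∀ j : Fin 6, ∀ u ∈ S, sm (levP j).1 (levP j).2 u ∈ S := by
      rintro j _ ⟨d, hd, rfl⟩
      obtain ⟨hok, -, -, -, hc, -⟩ := levP_ok j
      obtain ⟨n, hn, hna, hny⟩ := P.exists_lift hW (sgL_comm _ hok) (by
        refine ext8 fun m => ?_
        show (sgL [levP j]).1 ((hact D y).1 m) = (hact D y).1 ((sgL [levP j]).1 m)
        rw [hy, rootP_apply, rootP_apply, sgL_apply _ hok, sgL_apply _ hok]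
        exact hc m)
      refine ⟨n * d * n⁻¹, meet_conj hW P hg hn hny hd, ?_⟩
      rw [(π_conj hn (mem_inf.1 hd).1).2, hna, sgL_apply _ hok]
      rfl
    have hmem : D.π d ∈ S := ⟨d, hd, rfl⟩
    have h3 : D.π d = e0 ∨ D.π d = x2 ∨ D.π d = e0 + x2 := by
      have := hπd d hd
      simp only [List.mem_cons, List.not_mem_nil, or_false] at this
      tauto
    obtain ⟨ha, hb⟩ := levP_trans
    obtain ⟨hc, hd', he, hf⟩ : sm e0 y2 e0 = e0 ∧ sm x2 f0 x2 = x2 ∧ sm e0 y2 (e0 + x2) = x2 ∧
        sm x2 f0 (e0 + x2) = e0 := by decide +kernel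
    have hS : e0 ∈ S ∧ x2 ∈ S := by
      rcases h3 with e | e | e <;> rw [e] at hmem
      · exact ⟨hmem, he ▸ hstep 0 _ (hb ▸ hstep 1 _ hmem)⟩
      · refine ⟨hf ▸ hstep 1 _ ?_, hmem⟩
        have := hstep 0 _ hmem
        rwa [show sm (levP 0).1 (levP 0).2 x2 = e0 + x2 from ha.trans (add_comm _ _)] at this
      · exact ⟨hf ▸ hstep 1 _ hmem, he ▸ hstep 0 _ hmem⟩
    exact ⟨hfix _ hS.1, hfix _ hS.2⟩
  have hlist0 : ∀ {v : G}, v ∈ vee D g → ∀ u ∈ ([0, e0, x2, e0 + x2] : List M8), disp (hact D v) u = 0 := by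
    intro v hv u hu
    obtain ⟨h1, h2⟩ := hR0 hv
    simp only [List.mem_cons, List.not_mem_nil, or_false] at hu
    rcases hu with rfl | rfl | rfl | rfl
    exacts [map_zero _, h1, h2, by rw [map_add, h1, h2, add_zero]]
  have hperpd : ∀ {v : G}, v ∈ vee D g → ∀ i, disp (hact D v) (rr i) ∈ ([0, e0, x2, e0 + x2] : List M8) :=
    fun hv i => (hdisp hv (rr_perp i).1 (rr_perp i).2).1
  have hphi : ∀ {v : G}, v ∈ vee D g → ∀ {c : ℕ}, (∀ i, disp (hact D v) (rr i) = val c i) → ∀ {m : M8},
      bf m e0 = 0 → bf m x2 = 0 → disp (hact D v) m = phi c m := by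
    intro v hv c hc m h1 h2
    obtain ⟨a, b⟩ := hR0 hv
    conv_lhs => rw [perp_expand m h1 h2]
    simp only [map_add, map_sum, map_smul, a, b, smul_zero, zero_add, hc]
    rfl
  -- the codes form an invariant subgroup
  let S : ℕ → Prop := fun c => ∃ v ∈ vee D g, ∀ i, disp (hact D v) (rr i) = val c i
  have hS0 : S 0 := ⟨1, one_mem _, fun i => by
    rw [hact_Q (one_mem _), disp_apply, one_apply', add_self]
    revert i; decide +kernel⟩
  have hSx : ∀ a b, S a → S b → S (a ^^^ b) := by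
    rintro a b ⟨v, hv, ha⟩ ⟨w, hw, hb⟩
    refine ⟨v * w, mul_mem hv hw, fun i => ?_⟩
    have e : disp (hact D (v * w)) (rr i) = (hact D v).1 (disp (hact D w) (rr i)) + disp (hact D v) (rr i) := by
      rw [hact_mul (mem_inf.1 hv).2 (mem_inf.1 hw).2, disp_apply, disp_apply, disp_apply, map_add]
      show (hact D v).1 ((hact D w).1 (rr i)) + rr i = _
      rw [add_assoc, ← add_assoc ((hact D v).1 (rr i)), add_self, zero_add]
    rw [e, apply_eq_disp, hlist0 hv _ (hperpd hw i), zero_add, ha, hb, val_xor, add_comm]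
  have hSa : ∀ j, ∀ c, c < 256 → S c → S (act j c) := by
    rintro j c hc ⟨v, hv, hcv⟩
    obtain ⟨hok, -, -, hinv, hcomm, hperpj⟩ := levP_ok j
    obtain ⟨n, hn, hna, hny⟩ := P.exists_lift hW (sgL_comm _ hok) (by
      refine ext8 fun m => ?_
      show (sgL [levP j]).1 ((hact D y).1 m) = (hact D y).1 ((sgL [levP j]).1 m)
      rw [hy, rootP_apply, rootP_apply, sgL_apply _ hok, sgL_apply _ hok]
      exact hcomm m)
    have hvC := (mem_inf.1 hv).2
    refine ⟨n * v * n⁻¹, vee_conj P hg hn hny hv, fun i => ?_⟩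
    have hs : ∀ m, (sgL [levP j]).1 m = sm (levP j).1 (levP j).2 m := fun m => sgL_apply _ hok m
    have e := disp_conj (D := D) hn hvC (sm (levP j).1 (levP j).2 (rr i))
    rw [hna, hs, hinv, hs] at e
    rw [e, hphi hv hcv (hperpj i).1 (hperpj i).2, act_spec j hc i]
  have hact_lt : ∀ j c, act j c < 256 := by
    intro j c
    have : ∀ L : List ℕ, (∀ b ∈ L, b < 256) → ∀ k, CfsgLib.Golay.comb L k < 256 := by
      intro L
      induction L with
      | nil => exact fun _ _ => by norm_num [CfsgLib.Golay.comb]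
      | cons b L ih =>
        intro hL k
        refine Nat.xor_lt_two_pow (n := 8) ?_ (ih (fun q hq => hL q (List.mem_cons_of_mem _ hq)) _)
        split
        exacts [hL b List.mem_cons_self, by norm_num]
    refine this _ ?_ c
    revert j; decide +kernel
  have hcode : ∀ {v : G}, v ∈ vee D g → ∀ i,
      disp (hact D v) (rr i) = val (code fun i => disp (hact D v) (rr i)) i :=
    fun hv i => (val_code (f := fun i => disp (hact D _) (rr i)) (hperpd hv) i).symm
  -- a nonzero code
  have hcardV : 32 ≤ Nat.card (vee D g) ∧ Nat.card (vee D g) ≤ 128 := by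
    rw [card_vee hW P hg]
    rcases card_ker hW (pure_back hW P hg) with h | ⟨h, -⟩ <;> omega
  obtain ⟨v₀, hv₀, hc₀⟩ : ∃ v ∈ vee D g, code (fun i => disp (hact D v) (rr i)) ≠ 0 := by
    by_contra hcon
    push Not at hcon
    have hall : ∀ v : vee D g, hact D v.1 = 1 ∨ hact D v.1 = rootP := fun v => by
      refine eq_of_fix_perp fun m h1 h2 => ?_
      have hv0 : ∀ i, disp (hact D v.1) (rr i) = val 0 i := fun i => by
        rw [hcode v.2 i, hcon v.1 v.2]
      have := hphi v.2 hv0 h1 h2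
      rw [show phi 0 m = 0 by
        have := phi_xor 0 0 m; rw [Nat.xor_self] at this; exact left_eq_add.1 this] at this
      rw [apply_eq_disp, this, zero_add]
    classical
    have hyC := P.mem_C
    have hyV : y ∈ vee D g := mem_inf.2 ⟨y_mem_conjQ P hg, hyC⟩
    let f : vee D g → Bool × ↥(D.Q ⊓ conjQ D g) := fun v =>
      if h : hact D v.1 = 1 then (true, ⟨v.1, mem_inf.2 ⟨mem_Q_of_hact (mem_inf.1 v.2).2 h, (mem_inf.1 v.2).1⟩⟩)
      else (false, ⟨v.1 * y, mem_inf.2 ⟨mem_Q_of_hact (mul_mem (mem_inf.1 v.2).2 hyC) (by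
        rw [hact_mul (mem_inf.1 v.2).2 hyC, (hall v).resolve_left h, ← hy, hs]),
        (conjQ D g).mul_mem (mem_inf.1 v.2).1 (y_mem_conjQ P hg)⟩⟩)
    have hf : Function.Injective f := by
      intro a b e
      simp only [f] at e
      split_ifs at e with h h' h'
      · exact Subtype.ext (congrArg (fun p : Bool × ↥(D.Q ⊓ conjQ D g) => (p.2 : G)) e)
      · exact absurd (congrArg Prod.fst e) (by simp)
      · exact absurd (congrArg Prod.fst e) (by simp)
      · exact Subtype.ext (mul_right_cancel (congrArg (fun p : Bool × ↥(D.Q ⊓ conjQ D g) => (p.2 : G)) e))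
    have := Nat.card_le_card_of_injective f hf
    rw [Nat.card_prod, Nat.card_eq_fintype_card (α := Bool), Fintype.card_bool] at this
    omega
  have hall := all_of_invariant (S := fun c => c < 256 ∧ S c) ⟨by norm_num, hS0⟩
    (fun a b ha hb => ⟨Nat.xor_lt_two_pow (n := 8) ha.1 hb.1, hSx a b ha.2 hb.2⟩)
    (fun j c hc => ⟨hact_lt j c, hSa j c hc.1 hc.2⟩) (code_lt _) hc₀ ⟨code_lt _, v₀, hv₀, hcode hv₀⟩
  choose w hw hwc using fun c : Fin 256 => (hall c.1 c.2).2
  have hinj : Function.Injective (fun c : Fin 256 => (⟨w c, hw c⟩ : vee D g)) := by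
    intro a b e
    have e' : w a = w b := congrArg Subtype.val e
    refine Fin.ext ?_
    have h1 := fun i => hwc a i
    have h2 := fun i => hwc b i
    rw [e'] at h1
    have : val a.1 = val b.1 := funext fun i => (h1 i).symm.trans (h2 i)
    rw [← code_val a.1 a.2, ← code_val b.1 b.2, this]
  have := Nat.card_le_card_of_injective _ hinj
  rw [Nat.card_fin] at this
  omega

/-- The image of a pure conjugate has rank four. -/
theorem Pure.rank_four (hW : WC D) {y : G} (P : Pure z y) :
    Module.finrank (ZMod 2) (LinearMap.range (disp (hact D y))) = 4 := by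
  obtain ⟨g, hg⟩ := isConj_iff.1 P.conj
  rcases rank_cases (P.hact_sq hW) (hact_mem _) (P.hact_ne hW) with h2 | ⟨h4, -⟩
  swap
  · exact h4
  exfalso
  obtain ⟨hlist, hne, -, hsing⟩ := rootP_facts
  obtain ⟨-, -, -, -, hok, hinv⟩ := root_basis
  have hr1 : rootP ≠ 1 := fun e => hne (by rw [← rootP_apply, e]; rfl)
  have hr2 : rootP * rootP = 1 := ext8 fun m => by
    show rootP.1 (rootP.1 m) = m
    rw [rootP_apply, rootP_apply]; exact hinv m
  have hR₀ : ∀ u ∈ LinearMap.range (disp rootP), u ∈ ([0, e0, x2, e0 + x2] : List M8) := by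
    rintro _ ⟨m, rfl⟩
    rw [disp_apply, rootP_apply]; exact hlist m
  have hfr : Module.finrank (ZMod 2) (LinearMap.range (disp rootP)) = 2 := by
    refine (rank_cases hr2 (sgL_comm _ hok) hr1).resolve_right fun h => ?_
    have hle : LinearMap.range (disp rootP) ≤ Submodule.span (ZMod 2) ({e0, x2} : Set M8) := fun u hu => by
      have := hR₀ u hu
      simp only [List.mem_cons, List.not_mem_nil, or_false] at this
      rcases this with rfl | rfl | rfl | rfl
      exacts [zero_mem _, Submodule.subset_span (by simp), Submodule.subset_span (by simp),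
        add_mem (Submodule.subset_span (by simp)) (Submodule.subset_span (by simp))]
    have := (Submodule.finrank_mono hle).trans (finrank_span_le_card _)
    rw [h.1, Set.toFinset_insert, Set.toFinset_singleton] at this
    exact absurd (this.trans Finset.card_le_two) (by norm_num)
  obtain ⟨h, hh⟩ := exists_twist hW P (R₀ := LinearMap.range (disp rootP)) (fun u hu => hsing u (hR₀ u hu))
    (h2.trans hfr.symm)
  have hs' := P.hact_sq (D := twist D h) hW
  have hfix : ∀ m, bf m e0 = 0 → bf m x2 = 0 → (hact (twist D h) y).1 m = m := fun m h1 h2 => by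
    have := fix_of_orth hs' hh (m := m) fun u hu => by
      have := hR₀ u hu
      simp only [List.mem_cons, List.not_mem_nil, or_false] at this
      rcases this with rfl | rfl | rfl | rfl
      exacts [bf_zero_right _, h1, h2, by rw [bf_add_right, h1, h2, add_zero]]
    exact eq_of_add_eq_zero this
  exact not_rootP (D := twist D h) hW P hg
    ((eq_of_fix_perp hfix).resolve_left (P.hact_ne (D := twist D h) hW))

end CfsgLib.Co1Uniq.Weak
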