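import Cfsg.Agent.Co1Uniq.Frame
import Cfsg.Agent.Leech.Monomial
import Cfsg.Agent.Golay.TableHom

/-!
Masks of code words and monomial elements as lists.
-/

set_option autoImplicit false
set_option maxRecDepth 100000

namespace CfsgLib.Co1Uniq

open CfsgLib.Golay (vec vec_xor word word_mod word_lt vec_inj vec_word_mem mem_code_iff permMask compL invL toList
  permMask_lt vec_permMask toList_mul toList_inv)
open CfsgLib.Golay.SylowCert (Good permL toList_permL permL_mem_M24)

theorem isWord_word {c : ℕ} (hc : c < 4096) : IsWord (word c) := ⟨word_lt c hc, vec_word_mem c⟩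

theorem IsWord.word_eq {w : ℕ} (h : IsWord w) : word (w % 4096) = w := by
  obtain ⟨c, hc, he⟩ := (mem_code_iff _).1 h.2
  rw [vec_inj h.1 (word_lt c hc) he, word_mod c hc]

theorem isWord_of_eq {w : ℕ} (h : word (w % 4096) = w) : IsWord w :=
  h ▸ isWord_word (Nat.mod_lt _ (by norm_num))

theorem isWord_zero : IsWord 0 := isWord_of_eq (by decide +kernel)

theorem isWord_full : IsWord 16777215 := isWord_of_eq (by decide +kernel)

theorem IsWord.xor {a b : ℕ} (ha : IsWord a) (hb : IsWord b) : IsWord (a ^^^ b) :=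
  ⟨Nat.xor_lt_two_pow (n := 24) ha.1 hb.1, vec_xor a b ▸ add_mem ha.2 hb.2⟩

theorem IsWord.permMask_mem {a : ℕ} (ha : IsWord a) (σ : ↥Cfsg.M24) :
    IsWord (permMask (toList (σ : Equiv.Perm Cfsg.GolayPt)) a 24) :=
  ⟨permMask_lt _ a, by rw [vec_permMask]; exact CfsgLib.Leech.M24_code (inv_mem σ.2) ha.2⟩

/-- The product of monomial elements. -/
def mulW (a b : MonoW) : MonoW := (compL a.1 b.1, a.2 ^^^ permMask a.1 b.2 24)

/-- The inverse of a monomial element. -/
def invW (a : MonoW) : MonoW := (invL a.1, permMask (invL a.1) a.2 24)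

/-- The identity. -/
def oneW : MonoW := (List.range 24, 0)

/-- The same element modulo the sign change of all points. -/
def eqW (a b : MonoW) : Bool := a.1 == b.1 && (a.2 == b.2 || a.2 == b.2 ^^^ 16777215)

/-- A monomial element of the model. -/
def OKW (a : MonoW) : Prop :=
  Good a.1 ∧ a.1.length = 24 ∧ CfsgLib.Golay.PreservesCode a.1 ∧ word (a.2 % 4096) = a.2

instance (a : MonoW) : Decidable (OKW a) := by
  unfold OKW CfsgLib.Golay.PreservesCode; infer_instance

theorem OKW.isWord {a : MonoW} (h : OKW a) : IsWord a.2 := isWord_of_eq h.2.2.2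

theorem permM_val {L : List ℕ} (hg : Good L) (hl : L.length = 24) (hp : CfsgLib.Golay.PreservesCode L) :
    ((permM L : ↥Cfsg.M24) : Equiv.Perm Cfsg.GolayPt) = permL L := by
  rw [permM, dif_pos (permL_mem_M24 hg hl hp)]

theorem OKW.toList {a : MonoW} (h : OKW a) :
    CfsgLib.Golay.toList ((permM a.1 : ↥Cfsg.M24) : Equiv.Perm Cfsg.GolayPt) = a.1 := by
  rw [permM_val h.1 h.2.1 h.2.2.1, toList_permL h.1 h.2.1]

theorem permM_eq {L : List ℕ} (σ : ↥Cfsg.M24) (h : CfsgLib.Golay.toList (σ : Equiv.Perm Cfsg.GolayPt) = L)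
    (hg : Good L) : permM L = σ := by
  have hl : L.length = 24 := by rw [← h]; simp [CfsgLib.Golay.toList]
  have he : permL L = (σ : Equiv.Perm Cfsg.GolayPt) :=
    (((CfsgLib.Golay.SylowCert.eq_iff_toList hg hl).1 h)).symm
  have hm : permL L ∈ Cfsg.M24 := he ▸ σ.2
  rw [permM, dif_pos hm]
  exact Subtype.ext he

end CfsgLib.Co1Uniq
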