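import Cfsg.Agent.Co1Uniq.Code
import Cfsg.Agent.Leech.Xi

/-!
The sextet element against monomial codes: twice its images of the frame are sums of four signed frame vectors,
and a monomial element whose translate of such an image is again one conjugates to a monomial element.
-/

set_option autoImplicit false
set_option maxRecDepth 100000
set_option linter.style.haveILetI false

namespace CfsgLib.Co1Uniq

open Cfsg CfsgLib CfsgLib.Golay CfsgLib.Leech

/-- The signed points of twice the image of a frame vector under the sextet element. -/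
def col0 (j : ℕ) : List ℕ :=
  (List.range 4).map fun b =>
    2 * sextetList.getD (4 * tetradList.getD j 0 + b) 0 +
      if ((sextetList.getD (4 * tetradList.getD j 0 + b) 0 == j) == (tetradList.getD j 0 == 0)) then 1 else 0

/-- The same for a signed frame vector. -/
def colS (x : ℕ) : List ℕ := (col0 (x / 2)).map fun y => y ^^^ (x % 2)

/-- The sum of the signed frame vectors of a list. -/
def vsum (l : List ℕ) : leechLattice := (l.map sp).sum

/-- The coordinates of a signed frame vector. -/
def spF (x : ℕ) (p : GolayPt) : ℤ := if p = pt (x / 2) then (if x % 2 = 0 then 8 else -8) else 0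

theorem coe_sp (x : ℕ) (p : GolayPt) : (sp x : GolayPt → ℤ) p = spF x p := by
  unfold sp spF
  split_ifs <;> simp_all [eightAt_apply]

theorem coe_vsum : ∀ (l : List ℕ) (p : GolayPt), (vsum l : GolayPt → ℤ) p = (l.map fun x => spF x p).sum
  | [], p => by simp [vsum]
  | x :: l, p => by
    show (((sp x + vsum l : leechLattice)) : GolayPt → ℤ) p = _
    rw [AddSubgroup.coe_add, Pi.add_apply, coe_sp, coe_vsum l p]
    rfl

theorem col_check : ∀ x < 48, (∀ y ∈ colS x, y < 48) ∧
    ∀ p, 2 * xi (fun q => spF x q) p = ((colS x).map fun y => spF y p).sum := by decide +kernel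

theorem two_xi {x : ℕ} (hx : x < 48) : (2 : ℤ) • (xiAut • sp x) = vsum (colS x) := by
  refine Subtype.ext (funext fun p => ?_)
  rw [coe_vsum, ← (col_check x hx).2 p, AddSubgroup.coe_zsmul, Pi.smul_apply, smul_eq_mul, xiAut_apply]
  exact congrArg (fun v => 2 * xi v p) (funext fun q => coe_sp x q)

theorem two_cancel {v w : leechLattice} (h : (2 : ℤ) • v = (2 : ℤ) • w) : v = w := by
  refine Subtype.ext (funext fun p => ?_)
  have h1 := congrFun (congrArg (fun u : leechLattice => (u : GolayPt → ℤ)) h) p
  simp only [AddSubgroup.coe_zsmul, Pi.smul_apply, smul_eq_mul] at h1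
  omega

theorem smul_vsum (g : MN) : ∀ l : List ℕ, (∀ x ∈ l, x < 48) →
    (g : Co0) • vsum l = vsum (l.map (img (cd g)))
  | [], _ => smul_zero' _
  | x :: l, h => by
    show (g : Co0) • (sp x + vsum l) = sp (img (cd g) x) + vsum (l.map (img (cd g)))
    rw [smul_add', smul_sp g (h x List.mem_cons_self), smul_vsum g l fun y hy => h y (List.mem_cons_of_mem _ hy)]

theorem vsum_perm {l m : List ℕ} (h : l.isPerm m = true) : vsum l = vsum m :=
  ((List.isPerm_iff.1 h).map sp).sum_eq

/-- The signed point whose image is a given list. -/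
def matchC (l : List ℕ) : Option ℕ := (List.range 48).find? fun y => l.isPerm (colS y)

theorem matchC_spec {l : List ℕ} {y : ℕ} (h : matchC l = some y) : y < 48 ∧ l.isPerm (colS y) = true :=
  ⟨List.mem_range.1 (List.mem_of_find?_eq_some h), by have hp := List.find?_some h; exact hp⟩

/-- A slot of the conjugate by the sextet element. -/
def passSlot (b j : ℕ) : ℕ := (matchC ((col0 j).map (img b))).getD 0

/-- The conjugate by the sextet element. -/
def passC (b : ℕ) : ℕ := enc6 (passSlot b)

/-- The conjugate by the sextet element is monomial. -/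
def passOK (b : ℕ) : Bool := (List.range 24).all fun j => (matchC ((col0 j).map (img b))).isSome

theorem colS_even (j : ℕ) : colS (2 * j) = col0 j := by
  unfold colS
  rw [show 2 * j / 2 = j by omega, show 2 * j % 2 = 0 by omega]
  simp

theorem sp_even (j : ℕ) : sp (2 * j) = eightAt (pt j) := by
  unfold sp
  rw [if_pos (by omega), show 2 * j / 2 = j by omega]

theorem cls_sp {x : ℕ} : cls (sp x : GolayPt → ℤ) = cls (eightAt none : GolayPt → ℤ) := by
  unfold sp
  split
  · exact cls_eightAt _
  · rw [AddSubgroup.coe_neg, cls_neg (eightAt _).2]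
    exact cls_eightAt _

/-- The conjugate by the sextet element of a monomial element passing the test. -/
theorem pass_spec {b : ℕ} (hb : Val b) (h : passOK b = true) :
    ∃ g : MN, (g : Co0) = xiAut * (el b : Co0) * xiAut ∧ cd g = passC b := by
  have hstep : ∀ j < 24, passSlot b j < 48 ∧
      (xiAut * (el b : Co0) * xiAut) • eightAt (pt j) = sp (passSlot b j) := by
    intro j hj
    obtain ⟨y, hy⟩ := Option.isSome_iff_exists.1 (List.all_eq_true.1 h j (List.mem_range.2 hj))
    obtain ⟨hy48, hperm⟩ := matchC_spec hy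
    rw [passSlot, hy, Option.getD_some]
    refine ⟨hy48, ?_⟩
    have h1 : (el b : Co0) • (xiAut • eightAt (pt j)) = xiAut • sp y := two_cancel (by
      rw [← smul_zsmul', ← sp_even, two_xi (by omega), colS_even,
        smul_vsum _ _ fun x hx => (col_check (2 * j) (by omega)).1 x (by rwa [colS_even]), cd_el hb,
        vsum_perm hperm, two_xi hy48])
    rw [mul_smul, mul_smul, h1, ← mul_smul, xiAut_sq, one_smul]
  have hmem : xiAut * (el b : Co0) * xiAut ∈ monoGroup := by
    show cls ((_ • eightAt none : leechLattice) : GolayPt → ℤ) = _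
    rw [show (none : GolayPt) = pt 23 from rfl, (hstep 23 (by norm_num)).2]
    exact cls_sp.trans (cls_eightAt _).symm
  refine ⟨⟨_, hmem⟩, rfl, ?_⟩
  have hs : ∀ j < 24, slot (passC b) j = passSlot b j := fun j hj => slot_enc6 (fun i hi => (hstep i hi).1) hj
  refine (cd_eq_iff (enc6_congr hs) fun j hj => (hs j hj).symm ▸ (hstep j hj).1).2 fun j hj => ?_
  rw [show slot (enc6 (passSlot b)) j = passSlot b j from hs j hj]
  exact (hstep j hj).2

/-- The frame class attached to a monomial element: it determines the conjugate of the sextet element up to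
monomial factors. -/
def Cl (n : MN) : (GolayPt → ℤ) ⧸ twoLeech :=
  cls ((((n : Co0) * xiAut) • eightAt none : leechLattice) : GolayPt → ℤ)

theorem Cl_mul (n : MN) {a b : MN} (h : Cl a = Cl b) : Cl (n * a) = Cl (n * b) := by
  unfold Cl at h ⊢
  rw [Subgroup.coe_mul, Subgroup.coe_mul, mul_assoc, mul_assoc, mul_smul (n : Co0), mul_smul (n : Co0)]
  exact cls_smul _ h

/-- Translates with the same vector of twice an image have the same class. -/
theorem Cl_of_match {a b : MN} {x y : ℕ} (hx : x < 48) (hy : y < 48)
    (h : ((colS x).map (img (cd a))).isPerm ((colS y).map (img (cd b))) = true) : Cl a = Cl b := by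
  have hcol : ∀ (c : MN) (z : ℕ), z < 48 → Cl c = cls ((((c : Co0)) • (xiAut • sp z) : leechLattice) : GolayPt → ℤ) := by
    intro c z hz
    unfold Cl
    rw [mul_smul]
    exact cls_smul _ (cls_smul _ cls_sp.symm)
  rw [hcol a x hx, hcol b y hy]
  refine congrArg (fun v : leechLattice => cls (v : GolayPt → ℤ)) (two_cancel ?_)
  rw [← smul_zsmul' (a : Co0), ← smul_zsmul' (b : Co0), two_xi hx, two_xi hy, smul_vsum _ _ (col_check x hx).1,
    smul_vsum _ _ (col_check y hy).1, vsum_perm h]

/-- Elements of the same class differ by an element passing through the sextet element. -/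
theorem exists_of_Cl_eq {a b : MN} (h : Cl a = Cl b) :
    ∃ m : MN, (a : Co0) * xiAut = (b : Co0) * xiAut * (m : Co0) := by
  have hmem : xiAut * ((b : Co0)⁻¹ * (a : Co0)) * xiAut ∈ monoGroup := by
    show cls ((_ • eightAt none : leechLattice) : GolayPt → ℤ) = _
    have h1 := cls_smul (xiAut * (b : Co0)⁻¹) h
    rw [← mul_smul, ← mul_smul] at h1
    rw [show xiAut * ((b : Co0)⁻¹ * (a : Co0)) * xiAut = xiAut * (b : Co0)⁻¹ * ((a : Co0) * xiAut) by group, h1,
      show xiAut * (b : Co0)⁻¹ * ((b : Co0) * xiAut) = xiAut * xiAut by group, xiAut_sq, one_smul]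
  refine ⟨⟨_, hmem⟩, ?_⟩
  show (a : Co0) * xiAut = (b : Co0) * xiAut * (xiAut * ((b : Co0)⁻¹ * (a : Co0)) * xiAut)
  rw [show (b : Co0) * xiAut * (xiAut * ((b : Co0)⁻¹ * (a : Co0)) * xiAut) =
    (b : Co0) * (xiAut * xiAut) * (b : Co0)⁻¹ * ((a : Co0) * xiAut) by group, xiAut_sq]
  group

end CfsgLib.Co1Uniq
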